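import Cfsg.Agent.Lib.Helper9.M24Norm

set_option autoImplicit false
open Cfsg

namespace Cfsg.Agent.Lib.Helper9.Leech

open scoped Pointwise
open Cfsg.Agent.S5393 Cfsg.Agent.S5548

def cfgSub (ms ps : List ℕ) : Subgroup (Equiv.Perm GolayPt) where
  carrier := {g | g ∈ M24 ∧ (∀ m ∈ ms, g • bitsOf m = bitsOf m) ∧ FixL g ps}
  mul_mem' := by
    intro a b ha hb
    refine ⟨Subgroup.mul_mem _ ha.1 hb.1, ?_, FixL_mul _ _ _ ha.2.2 hb.2.2⟩
    intro m hm
    rw [mul_smul, hb.2.1 m hm, ha.2.1 m hm]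
  one_mem' := ⟨Subgroup.one_mem _, fun _ _ => one_smul _ _, FixL_one _⟩
  inv_mem' := by
    intro a ha
    refine ⟨Subgroup.inv_mem _ ha.1, ?_, FixL_inv _ _ ha.2.2⟩
    intro m hm
    rw [inv_smul_eq_iff, ha.2.1 m hm]

theorem mem_cfgSub (ms ps : List ℕ) (g : Equiv.Perm GolayPt) :
    g ∈ cfgSub ms ps ↔ g ∈ M24 ∧ (∀ m ∈ ms, g • bitsOf m = bitsOf m) ∧ FixL g ps := Iff.rfl

theorem cfgSub_le (ms ps : List ℕ) : cfgSub ms ps ≤ M24 := fun _ h => h.1

theorem cfgSub_congr (ms ps ps' : List ℕ) (h : ∀ j, j ∈ ps ↔ j ∈ ps') :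
    cfgSub ms ps = cfgSub ms ps' := by
  ext g
  rw [mem_cfgSub, mem_cfgSub]
  constructor
  · rintro ⟨h1, h2, h3⟩
    exact ⟨h1, h2, fun j hj => h3 j ((h j).2 hj)⟩
  · rintro ⟨h1, h2, h3⟩
    exact ⟨h1, h2, fun j hj => h3 j ((h j).1 hj)⟩

theorem cfgSub_mono (ms ps ps' : List ℕ) (h : ∀ j ∈ ps', j ∈ ps) :
    cfgSub ms ps ≤ cfgSub ms ps' := by
  rintro g ⟨h1, h2, h3⟩
  exact ⟨h1, h2, fun j hj => h3 j (h j hj)⟩

def cfgOK (t : List ℕ) (ms ps : List ℕ) : Bool :=
  ms.all (fun m => stepT t m m) && ps.all (fun j => Nat.beq (t.getD j 0) j)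

theorem cfgOK_mem (g : Equiv.Perm GolayPt) (hg : g ∈ M24) (t : List ℕ) (ht : TblP g t)
    (ms ps : List ℕ) (hps : ∀ j ∈ ps, j < 24) (h : cfgOK t ms ps = true) : g ∈ cfgSub ms ps := by
  unfold cfgOK at h
  rw [Bool.and_eq_true, List.all_eq_true, List.all_eq_true] at h
  refine ⟨hg, ?_, ?_⟩
  · intro m hm
    exact stepT_smul g t ht m m (h.1 m hm)
  · intro j hj
    rw [TblP_apply g t ht j (hps j hj), Nat.eq_of_beq_eq_true (h.2 j hj)]

def lvlCfgOK (T : List (List ℕ)) (ms ps : List ℕ) (b : ℕ) (tr : List (ℕ × ℕ)) : Bool :=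
  tr.all (fun xk => cfgOK (T.getD xk.2 idT) ms ps && Nat.beq ((T.getD xk.2 idT).getD b 0) xk.1)

theorem cfg_reach (T : List (List ℕ)) (hT : ∀ t ∈ T, ∃ g ∈ M24, TblP g t) (ms ps : List ℕ)
    (b : ℕ) (tr : List (ℕ × ℕ)) (hps : ∀ j ∈ ps, j < 24) (hb : b < 24)
    (h : lvlCfgOK T ms ps b tr = true) :
    ∀ x ∈ tr.map Prod.fst, ∃ u ∈ cfgSub ms ps, u (ptOf b) = ptOf x := by
  intro x hx
  rw [List.mem_map] at hx
  obtain ⟨xk, hxk, rfl⟩ := hx
  unfold lvlCfgOK at h
  rw [List.all_eq_true] at h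
  have h1 := h xk hxk
  rw [Bool.and_eq_true] at h1
  obtain ⟨g, hg, ht⟩ := getD_valid M24 T hT xk.2
  refine ⟨g, cfgOK_mem g hg _ ht ms ps hps h1.1, ?_⟩
  rw [TblP_apply g _ ht b hb, Nat.eq_of_beq_eq_true h1.2]

theorem cfg_cell (ms ps : List ℕ) (g : Equiv.Perm GolayPt) (hg : g ∈ cfgSub ms ps) (m : ℕ)
    (hm : m ∈ ms) (p : GolayPt) : m.testBit (idx (g p)) = m.testBit (idx p) := by
  have h1 : g p ∈ bitsOf m ↔ p ∈ bitsOf m := by
    have h2 := hg.2.1 m hm
    constructor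
    · intro h
      rw [← h2] at h
      exact (Finset.smul_mem_smul_finset_iff g).1 h
    · intro h
      exact smul_mem_of_inv g _ h2 p h
  rw [mem_bitsOf, mem_bitsOf] at h1
  cases h3 : m.testBit (idx (g p)) <;> cases h4 : m.testBit (idx p) <;> simp_all

def InCell (ms : List ℕ) (c n : ℕ) : Prop := ∀ m ∈ ms, m.testBit n = m.testBit c

instance (ms : List ℕ) (c n : ℕ) : Decidable (InCell ms c n) := by
  unfold InCell
  infer_instance

theorem cfg_inCell (ms ps : List ℕ) (g : Equiv.Perm GolayPt) (hg : g ∈ cfgSub ms ps) (c : ℕ)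
    (p : GolayPt) (h : InCell ms c (idx p)) : InCell ms c (idx (g p)) := by
  intro m hm
  rw [cfg_cell ms ps g hg m hm p]
  exact h m hm

theorem cfg_stab (ms ps : List ℕ) (b : ℕ) :
    cfgSub ms ps ⊓ MulAction.stabilizer (Equiv.Perm GolayPt) (ptOf b) = cfgSub ms (b :: ps) := by
  ext g
  rw [Subgroup.mem_inf, mem_cfgSub, mem_cfgSub, MulAction.mem_stabilizer_iff]
  constructor
  · rintro ⟨⟨h1, h2, h3⟩, h4⟩
    refine ⟨h1, h2, ?_⟩
    intro j hj
    rw [List.mem_cons] at hj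
    rcases hj with rfl | hj
    · exact h4
    · exact h3 j hj
  · rintro ⟨h1, h2, h3⟩
    exact ⟨⟨h1, h2, fun j hj => h3 j (List.mem_cons_of_mem _ hj)⟩, h3 b List.mem_cons_self⟩

def levelOK (T : List (List ℕ)) (ms bs : List ℕ) (trL : List (List (ℕ × ℕ))) (i : ℕ) : Prop :=
  lvlCfgOK T ms (bs.take i) (bs.getD i 0) (trL.getD i []) = true ∧
  (∀ n < 24, InCell ms (bs.getD i 0) n → n ∉ bs.take i →
    n ∈ (trL.getD i []).map Prod.fst) ∧
  ((trL.getD i []).map Prod.fst).Nodup ∧ (∀ x ∈ (trL.getD i []).map Prod.fst, x < 24)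

instance (T : List (List ℕ)) (ms bs : List ℕ) (trL : List (List (ℕ × ℕ))) (i : ℕ) :
    Decidable (levelOK T ms bs trL i) := by
  unfold levelOK
  infer_instance

def chainOK2 (T : List (List ℕ)) (ms bs : List ℕ) (trL : List (List (ℕ × ℕ))) : Prop :=
  (∀ j ∈ bs, j < 24) ∧ bs.Nodup ∧ ∀ i < bs.length, levelOK T ms bs trL i

instance (T : List (List ℕ)) (ms bs : List ℕ) (trL : List (List (ℕ × ℕ))) :
    Decidable (chainOK2 T ms bs trL) := by
  unfold chainOK2
  infer_instance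

theorem getD_eq_getElem' (bs : List ℕ) (i : ℕ) (hi : i < bs.length) : bs.getD i 0 = bs[i] := by
  rw [List.getD_eq_getElem?_getD, List.getElem?_eq_getElem hi]
  rfl

theorem getD_notMem_take (bs : List ℕ) (hnd : bs.Nodup) (i : ℕ) (hi : i < bs.length) :
    bs.getD i 0 ∉ bs.take i := by
  rw [getD_eq_getElem' bs i hi]
  intro hmem
  rw [List.mem_take_iff_getElem] at hmem
  obtain ⟨j, hj, hjeq⟩ := hmem
  have h1 := (List.Nodup.getElem_inj_iff hnd).1 hjeq
  have h2 := (Nat.lt_min.1 hj).1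
  omega

theorem take_succ_mem' (bs : List ℕ) (i : ℕ) (hi : i < bs.length) (j : ℕ) :
    j ∈ bs.take (i + 1) ↔ j ∈ bs.getD i 0 :: bs.take i := by
  rw [List.take_add_one, List.mem_append, List.mem_cons, getD_eq_getElem' bs i hi,
    List.getElem?_eq_getElem hi]
  simp only [Option.toList_some, List.mem_singleton]
  tauto

theorem cchain_reach (T : List (List ℕ)) (hT : ∀ t ∈ T, ∃ g ∈ M24, TblP g t) (ms bs : List ℕ)
    (trL : List (List (ℕ × ℕ))) (h : chainOK2 T ms bs trL) (i : ℕ) (hi : i < bs.length) (n : ℕ)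
    (hn : n < 24) (hcell : InCell ms (bs.getD i 0) n) (hnot : n ∉ bs.take i) :
    ∃ u ∈ cfgSub ms (bs.take i), u (ptOf (bs.getD i 0)) = ptOf n := by
  obtain ⟨hlt, _, hlev⟩ := h
  obtain ⟨h1, h2, _, _⟩ := hlev i hi
  have hb : bs.getD i 0 < 24 := by
    rw [getD_eq_getElem' bs i hi]
    exact hlt _ (List.getElem_mem hi)
  exact cfg_reach T hT ms (bs.take i) (bs.getD i 0) (trL.getD i [])
    (fun j hj => hlt j (List.mem_of_mem_take hj)) hb h1 n (h2 n hn hcell hnot)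

theorem cchain_card (T : List (List ℕ)) (hT : ∀ t ∈ T, ∃ g ∈ M24, TblP g t) (ms bs : List ℕ)
    (trL : List (List (ℕ × ℕ))) (h : chainOK2 T ms bs trL) (i : ℕ) (hi : i < bs.length) :
    Nat.card (cfgSub ms (bs.take i)) = (trL.getD i []).length *
      Nat.card (cfgSub ms (bs.take (i + 1))) := by
  have h' := h
  obtain ⟨hlt, hnd, hlev⟩ := h
  obtain ⟨h1, h2, h3, h4⟩ := hlev i hi
  have hb : bs.getD i 0 < 24 := by
    rw [getD_eq_getElem' bs i hi]
    exact hlt _ (List.getElem_mem hi)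
  have hps : ∀ j ∈ bs.take i, j < 24 := fun j hj => hlt j (List.mem_of_mem_take hj)
  rw [cfgSub_congr ms (bs.take (i + 1)) _ (take_succ_mem' bs i hi), ← cfg_stab,
    card_step (cfgSub ms (bs.take i)) (bs.getD i 0) _ h3 h4, List.length_map]
  · intro g hg
    apply h2 _ (idx_lt _)
    · apply cfg_inCell ms _ g hg
      intro m _
      rw [idx_ptOf _ hb]
    · exact idx_ne_of_fix g _ hg.2.2 _ hb (getD_notMem_take bs hnd i hi)
  · intro x hx
    exact cfg_reach T hT ms (bs.take i) (bs.getD i 0) (trL.getD i []) hps hb h1 x hx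

theorem take_sub_take (bs : List ℕ) (a b : ℕ) (h : a ≤ b) : ∀ j ∈ bs.take a, j ∈ bs.take b :=
  fun _ hj => List.take_subset_take_left _ h hj

theorem cchain_trans (T : List (List ℕ)) (hT : ∀ t ∈ T, ∃ g ∈ M24, TblP g t) (ms bs : List ℕ)
    (trL : List (List (ℕ × ℕ))) (h : chainOK2 T ms bs trL) (c s : ℕ)
    (xs : List GolayPt) (hnd : xs.Nodup) (hlen : s + xs.length ≤ bs.length)
    (hc : ∀ i, s ≤ i → i < s + xs.length → InCell ms c (bs.getD i 0))
    (hx : ∀ p ∈ xs, InCell ms c (idx p)) (hxs : ∀ p ∈ xs, idx p ∉ bs.take s) :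
    ∀ k ≤ xs.length, ∃ g ∈ cfgSub ms (bs.take s), ∀ i (hi : i < xs.length), i < k →
      g (xs[i]) = ptOf (bs.getD (s + i) 0) := by
  intro k
  induction k with
  | zero =>
    intro _
    exact ⟨1, Subgroup.one_mem _, fun i _ hi => absurd hi (Nat.not_lt_zero _)⟩
  | succ k ih =>
    intro hk
    obtain ⟨g, hg, hgx⟩ := ih (by omega)
    have hkl : k < xs.length := by omega
    have hkb : s + k < bs.length := by omega
    have hlt24 := h.1
    have hne : idx (g (xs[k])) ∉ bs.take (s + k) := by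
      intro hmem
      rw [List.mem_take_iff_getElem] at hmem
      obtain ⟨j, hj, hjeq⟩ := hmem
      have hjb : j < bs.length := (Nat.lt_min.1 hj).2
      have hjk : j < s + k := (Nat.lt_min.1 hj).1
      rcases Nat.lt_or_ge j s with hjs | hjs
      · have hmem' : bs[j] ∈ bs.take s := by
          rw [List.mem_take_iff_getElem]
          exact ⟨j, Nat.lt_min.2 ⟨hjs, hjb⟩, rfl⟩
        have h1 := hg.2.2 _ hmem'
        have h2 : g (xs[k]) = ptOf bs[j] := by rw [hjeq, ptOf_idx]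
        have h3 : xs[k] = ptOf bs[j] := g.injective (h2.trans h1.symm)
        apply hxs _ (List.getElem_mem hkl)
        rw [h3, idx_ptOf _ (hlt24 _ (List.getElem_mem hjb))]
        exact hmem'
      · obtain ⟨j', rfl⟩ := Nat.exists_eq_add_of_le hjs
        have hj'k : j' < k := by omega
        have hj'l : j' < xs.length := by omega
        have h1 := hgx j' hj'l hj'k
        rw [getD_eq_getElem' bs _ hjb, hjeq, ptOf_idx] at h1
        have h3 : xs[j'] = xs[k] := g.injective h1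
        have h4 := (List.Nodup.getElem_inj_iff hnd).1 h3
        omega
    have hcell : InCell ms (bs.getD (s + k) 0) (idx (g (xs[k]))) := by
      have h1 := cfg_inCell ms _ g hg c (xs[k]) (hx _ (List.getElem_mem hkl))
      have h2 : InCell ms c (bs.getD (s + k) 0) := hc (s + k) (by omega) (by omega)
      intro m hm
      rw [h1 m hm, h2 m hm]
    obtain ⟨u, hu, hub⟩ := cchain_reach T hT ms bs trL h (s + k) hkb _ (idx_lt _) hcell hne
    rw [ptOf_idx] at hub
    have hu0 : u ∈ cfgSub ms (bs.take s) :=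
      cfgSub_mono ms _ _ (take_sub_take bs s (s + k) (by omega)) hu
    refine ⟨u⁻¹ * g, Subgroup.mul_mem _ (inv_mem hu0) hg, ?_⟩
    intro i hil hi
    rw [Equiv.Perm.mul_apply]
    rcases Nat.lt_succ_iff_lt_or_eq.1 hi with hlt | heq
    · rw [hgx i hil hlt]
      apply FixL_inv u _ hu.2.2
      rw [List.mem_take_iff_getElem]
      have hlen' : s + i < min (s + k) bs.length := Nat.lt_min.2 ⟨by omega, by omega⟩
      exact ⟨s + i, hlen', (getD_eq_getElem' bs (s + i) (Nat.lt_min.1 hlen').2).symm⟩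
    · subst heq
      rw [← hub]
      change u.symm (u _) = _
      rw [Equiv.symm_apply_apply]

end Cfsg.Agent.Lib.Helper9.Leech
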