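import Cfsg.Agent.Lib.Helper9.Elt
import Cfsg.Agent.Lib.Helper9.CfgSub

set_option autoImplicit false
open Cfsg

namespace Cfsg.Agent.Lib.Helper9.Leech

open scoped Pointwise

/-- levels of packed tables match the transversal tables of a chain from level `s` on -/
def linkOK (T : List (List ℕ)) (trL : List (List (ℕ × ℕ))) (s : ℕ)
    (Ls : List ((ℕ → ℕ) × ℕ)) : Prop :=
  ∀ i < Ls.length, (Ls.getD i (id, 0)).2 = (trL.getD (s + i) []).length ∧
    ∀ j < (Ls.getD i (id, 0)).2, eqT (tblOf ((Ls.getD i (id, 0)).1 j))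
      (T.getD ((trL.getD (s + i) []).getD j (0, 0)).2 idT) = true

instance (T : List (List ℕ)) (trL : List (List (ℕ × ℕ))) (s : ℕ) (Ls : List ((ℕ → ℕ) × ℕ)) :
    Decidable (linkOK T trL s Ls) := by
  unfold linkOK
  infer_instance

/-- every element of a configuration stabiliser is a product of transversal elements; a check
run over all such products therefore holds for every element -/
theorem cfg_enum (T : List (List ℕ)) (hT : ∀ t ∈ T, ∃ g ∈ M24, TblP g t) (ms bs : List ℕ)
    (trL : List (List (ℕ × ℕ))) (h : chainOK2 T ms bs trL) (hbot : cfgSub ms bs = ⊥) (s : ℕ)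
    (Ls : List ((ℕ → ℕ) × ℕ)) (hlen : s + Ls.length = bs.length) (hlink : linkOK T trL s Ls)
    (chk : ℕ → ℕ → Bool) (P : Equiv.Perm GolayPt → Prop)
    (hP : ∀ (g : Equiv.Perm GolayPt) (t ix : ℕ), TblP g (tblOf t) → chk t ix = true → P g)
    (hrun : enumI chk Ls idN 0 = true) : ∀ g ∈ cfgSub ms (bs.take s), P g := by
  intro g hg
  obtain ⟨hlt, hnd, hlevs⟩ := h
  have key := enumI_spec chk P hP Ls (fun i => (cfgSub ms (bs.take (s + i)) : Set _))
    (by
      intro i hi g hg
      have hi' : s + i < bs.length := by omega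
      obtain ⟨h1, h2, _, _⟩ := hlevs (s + i) hi'
      have hb : bs.getD (s + i) 0 < 24 := by
        rw [getD_eq_getElem' bs _ hi']
        exact hlt _ (List.getElem_mem hi')
      have hps : ∀ j ∈ bs.take (s + i), j < 24 := fun j hj => hlt j (List.mem_of_mem_take hj)
      have hcell : InCell ms (bs.getD (s + i) 0) (idx (g (ptOf (bs.getD (s + i) 0)))) := by
        apply cfg_inCell ms _ g hg
        intro m _
        rw [idx_ptOf _ hb]
      have hne := idx_ne_of_fix g _ hg.2.2 _ hb (getD_notMem_take bs hnd _ hi')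
      have hmem := h2 _ (idx_lt _) hcell hne
      rw [List.mem_map] at hmem
      obtain ⟨xk, hxk, hxk1⟩ := hmem
      obtain ⟨j, hj, hjx⟩ := List.mem_iff_getElem.1 hxk
      obtain ⟨hl1, hl2⟩ := hlink i hi
      have hgetD : Ls.getD i (id, 0) = Ls[i] := by
        rw [List.getD_eq_getElem?_getD, List.getElem?_eq_getElem hi]
        rfl
      rw [hgetD] at hl1 hl2
      have hj' : j < (Ls[i]).2 := by rw [hl1]; exact hj
      have hl3 := hl2 j hj'
      have hgx : (trL.getD (s + i) []).getD j (0, 0) = xk := by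
        rw [List.getD_eq_getElem?_getD, List.getElem?_eq_getElem hj, hjx]
        rfl
      rw [hgx] at hl3
      unfold lvlCfgOK at h1
      rw [List.all_eq_true] at h1
      have h3 := h1 xk hxk
      rw [Bool.and_eq_true] at h3
      obtain ⟨u, hu, hut⟩ := getD_valid M24 T hT xk.2
      have hucfg := cfgOK_mem u hu _ hut ms (bs.take (s + i)) hps h3.1
      have hub : u (ptOf (bs.getD (s + i) 0)) = g (ptOf (bs.getD (s + i) 0)) := by
        rw [TblP_apply u _ hut _ hb, Nat.eq_of_beq_eq_true h3.2, hxk1, ptOf_idx]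
      refine ⟨j, hj', u, ?_, ?_⟩
      · rw [eqT_eq _ _ hl3]
        exact hut
      · change u⁻¹ * g ∈ cfgSub ms (bs.take (s + (i + 1)))
        have e : s + (i + 1) = s + i + 1 := by omega
        rw [e, cfgSub_congr ms _ _ (take_succ_mem' bs _ hi'), ← cfg_stab]
        refine Subgroup.mem_inf.2 ⟨Subgroup.mul_mem _ (inv_mem hucfg) hg, ?_⟩
        rw [MulAction.mem_stabilizer_iff]
        change u⁻¹ (g _) = _
        rw [← hub]
        change u.symm (u _) = _
        rw [Equiv.symm_apply_apply])
    (by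
      intro g hg
      change g ∈ cfgSub ms (bs.take (s + Ls.length)) at hg
      rw [hlen, List.take_length, hbot, Subgroup.mem_bot] at hg
      exact hg)
    idN 0 1 idN_tbl hrun g (by
      change g ∈ cfgSub ms (bs.take (s + 0))
      exact hg)
  rwa [one_mul] at key

end Cfsg.Agent.Lib.Helper9.Leech
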