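import Cfsg.Agent.Lib.Helper9.Elt2

set_option autoImplicit false
open Cfsg

namespace Cfsg.Agent.Lib.Helper9.Leech

open scoped Pointwise
open Cfsg.Agent.S5393 Cfsg.Agent.S5548

set_option maxRecDepth 100000 in
theorem elS_ok : slpChk elS elN = true := by decide +kernel

theorem invIX_ok : allBelow (fun j => Nat.blt (ent invIX 16 j) elN) 21 = true := by
  decide +kernel

theorem o3IX_ok : allBelow (fun j => Nat.blt (ent o3IX 16 j) elN) 21 = true := by
  decide +kernel

set_option maxRecDepth 100000 in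
theorem inv_run : enumI (clsChk 2 2 elS elN invREP invCE)
    [(getIx elS invIX, 21), (get5, 16), (get6, 3)] idN 0 = true := by decide +kernel

set_option maxRecDepth 100000 in
theorem o3_run : enumI (clsChk 3 2 elS elN o3REP o3CE)
    [(getIx elS o3IX, 21), (get5, 16), (get6, 3)] idN 0 = true := by decide +kernel

set_option maxRecDepth 100000 in
theorem inv_cov : ∀ y < 24, y ∉ [0, 23, 2, 1] → ∃ j < 20, (fld (getIx elS invIX j) 23 = 0 ∧
    fld (getIx elS invIX j) 0 = 23 ∧ fld (getIx elS invIX j) 1 = 2 ∧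
    fld (getIx elS invIX j) 2 = 1 ∧ fld (getIx elS invIX j) 3 = y) := by decide +kernel

theorem inv_deg : fld (getIx elS invIX 20) 23 = 0 ∧
    fld (getIx elS invIX 20) 0 = 23 ∧ fld (getIx elS invIX 20) 1 = 1 ∧
    fld (getIx elS invIX 20) 2 = 2 ∧ fld (getIx elS invIX 20) 3 = 3 := by decide +kernel

set_option maxRecDepth 100000 in
theorem o3_cov : ∀ y < 24, y ∉ [0, 1, 23, 3] → ∃ j < 20, (fld (getIx elS o3IX j) 23 = 0 ∧
    fld (getIx elS o3IX j) 0 = 1 ∧ fld (getIx elS o3IX j) 1 = 23 ∧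
    fld (getIx elS o3IX j) 2 = 3 ∧ fld (getIx elS o3IX j) 3 = y) := by decide +kernel

theorem o3_deg : fld (getIx elS o3IX 20) 23 = 0 ∧
    fld (getIx elS o3IX 20) 0 = 1 ∧ fld (getIx elS o3IX 20) 1 = 23 ∧
    fld (getIx elS o3IX 20) 2 = 2 ∧ fld (getIx elS o3IX 20) 3 = 3 := by decide +kernel

theorem ptOf_ne (i j : ℕ) (hi : i < 24) (hj : j < 24) (h : i ≠ j) : ptOf i ≠ ptOf j :=
  fun he => h (ptOf_inj i j hi hj he)

theorem mem_take5 (b : ℕ) (hb : b ∈ baseL.take 5) :
    b = 23 ∨ b = 0 ∨ b = 1 ∨ b = 2 ∨ b = 3 := by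
  simpa [baseL] using hb

/-- reduction of a classification to the candidate set -/
theorem cls_of_cand (m : ℕ) (IX REP CE : ℕ)
    (hix : allBelow (fun j => Nat.blt (ent IX 16 j) elN) 21 = true)
    (hrun : enumI (clsChk m 2 elS elN REP CE)
      [(getIx elS IX, 21), (get5, 16), (get6, 3)] idN 0 = true)
    (g : Equiv.Perm GolayPt) (hm : g ^ m = 1)
    (hsuff : ∃ h ∈ M24, h * g * h⁻¹ ∈ candSet (getIx elS IX) 21) :
    ∃ K ∈ M24, ∃ c < 2, TblP (K * g * K⁻¹) (tblOf (ent REP 120 c)) := by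
  obtain ⟨h, hh, hcand⟩ := hsuff
  have hP := m24_enum (getIx elS IX) 21 (getIx_valid elS elN elS_ok IX 21 hix)
    (clsChk m 2 elS elN REP CE) (ClsP m 2 REP)
    (fun g t ix hg hc => clsChk_spec m 2 elS elN REP CE elS_ok g t ix hg hc) hrun _ hcand
  rcases hP with hP | ⟨K, hK, c, hc, hKt⟩
  · exfalso
    apply hP
    rw [conj_pow, hm]
    group
  · refine ⟨K * h, mul_mem hK hh, c, hc, ?_⟩
    have : K * h * g * (K * h)⁻¹ = K * (h * g * h⁻¹) * K⁻¹ := by group
    rw [this]
    exact hKt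

theorem conj_fix (h g : Equiv.Perm GolayPt) (q : GolayPt) (hq : g (h⁻¹ q) = h⁻¹ q) :
    (h * g * h⁻¹) q = q := by
  change h (g (h⁻¹ q)) = q
  rw [hq]
  change h (h.symm q) = q
  rw [Equiv.apply_symm_apply]

theorem inv_ne_of (h : Equiv.Perm GolayPt) (q a : GolayPt) (hne : q ≠ h a) : h⁻¹ q ≠ a := by
  intro he
  apply hne
  rw [← he]
  change q = h (h.symm q)
  rw [Equiv.apply_symm_apply]

/-- involutions: two classes -/
theorem inv_class (g : Equiv.Perm GolayPt) (hg : g ∈ M24) (h2 : g ^ 2 = 1) (hne : g ≠ 1) :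
    ∃ K ∈ M24, ∃ c < 2, TblP (K * g * K⁻¹) (tblOf (ent invREP 120 c)) := by
  have hgg : ∀ p, g (g p) = p := by
    intro p
    have h : (g ^ 2) p = p := by rw [h2]; rfl
    rwa [pow_two] at h
  obtain ⟨a, ha⟩ : ∃ a, g a ≠ a := by
    by_contra hcon
    push_neg at hcon
    exact hne (Equiv.ext hcon)
  apply cls_of_cand 2 invIX invREP invCE invIX_ok inv_run g h2
  by_cases hc : ∃ c, c ≠ a ∧ c ≠ g a ∧ g c ≠ c
  · obtain ⟨c, hca, hcb, hgc⟩ := hc
    have hd1 : g c ≠ a := fun h => hcb (by rw [← h, hgg])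
    have hd2 : g c ≠ g a := fun h => hca (g.injective h)
    obtain ⟨h, hh, hx⟩ := to_base_list [a, g a, c, g c]
      (by simp [ha.symm, hca.symm, hd1.symm, hcb.symm, hd2.symm, hgc.symm]) (by simp) 4 (by simp)
    have h0 : h a = ptOf 23 := hx 0 (by simp) (by norm_num)
    have h1 : h (g a) = ptOf 0 := hx 1 (by simp) (by norm_num)
    have h2' : h c = ptOf 1 := hx 2 (by simp) (by norm_num)
    have h3 : h (g c) = ptOf 2 := hx 3 (by simp) (by norm_num)
    have e0 : (h * g * h⁻¹) (ptOf 23) = ptOf 0 := by rw [← h0, conj_apply h g a (g a) rfl, h1]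
    have e1 : (h * g * h⁻¹) (ptOf 0) = ptOf 23 := by rw [← h1, conj_apply h g (g a) a (hgg a), h0]
    have e2 : (h * g * h⁻¹) (ptOf 1) = ptOf 2 := by rw [← h2', conj_apply h g c (g c) rfl, h3]
    have e3 : (h * g * h⁻¹) (ptOf 2) = ptOf 1 := by rw [← h3, conj_apply h g (g c) c (hgg c), h2']
    have hy : idx ((h * g * h⁻¹) (ptOf 3)) ∉ [0, 23, 2, 1] := by
      intro hmem
      simp only [List.mem_cons, List.not_mem_nil, or_false] at hmem
      have key : ∀ i j : ℕ, i < 24 → j < 24 → j ≠ 3 → (h * g * h⁻¹) (ptOf j) = ptOf i →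
          idx ((h * g * h⁻¹) (ptOf 3)) ≠ i := by
        intro i j hi hj hj3 hij he
        have h5 : (h * g * h⁻¹) (ptOf 3) = ptOf i := by rw [← he, ptOf_idx]
        rw [← hij] at h5
        exact ptOf_ne 3 j (by norm_num) hj (Ne.symm hj3) ((h * g * h⁻¹).injective h5)
      rcases hmem with h4 | h4 | h4 | h4
      · exact key 0 23 (by norm_num) (by norm_num) (by norm_num) e0 h4
      · exact key 23 0 (by norm_num) (by norm_num) (by norm_num) e1 h4
      · exact key 2 1 (by norm_num) (by norm_num) (by norm_num) e2 h4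
      · exact key 1 2 (by norm_num) (by norm_num) (by norm_num) e3 h4
    obtain ⟨j, hj, f0, f1, f2, f3, f4⟩ := inv_cov _ (idx_lt _) hy
    refine ⟨h, hh, conj_mem h g hh hg, j, by omega, ?_⟩
    intro b hb
    rcases mem_take5 b hb with rfl | rfl | rfl | rfl | rfl
    · rw [e0, idx_ptOf 0 (by norm_num), f0]
    · rw [e1, idx_ptOf 23 (by norm_num), f1]
    · rw [e2, idx_ptOf 2 (by norm_num), f2]
    · rw [e3, idx_ptOf 1 (by norm_num), f3]
    · rw [f4]
  · push_neg at hc
    obtain ⟨h, hh, hx⟩ := to_base_list [a, g a] (by simp [ha.symm]) (by simp) 2 (by simp)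
    have h0 : h a = ptOf 23 := hx 0 (by simp) (by norm_num)
    have h1 : h (g a) = ptOf 0 := hx 1 (by simp) (by norm_num)
    have e0 : (h * g * h⁻¹) (ptOf 23) = ptOf 0 := by rw [← h0, conj_apply h g a (g a) rfl, h1]
    have e1 : (h * g * h⁻¹) (ptOf 0) = ptOf 23 := by rw [← h1, conj_apply h g (g a) a (hgg a), h0]
    have efix : ∀ i : ℕ, i < 24 → i ≠ 23 → i ≠ 0 → (h * g * h⁻¹) (ptOf i) = ptOf i := by
      intro i hi hi1 hi2
      apply conj_fix
      apply hc
      · exact inv_ne_of h _ a (by rw [h0]; exact ptOf_ne i 23 hi (by norm_num) hi1)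
      · exact inv_ne_of h _ (g a) (by rw [h1]; exact ptOf_ne i 0 hi (by norm_num) hi2)
    obtain ⟨f0, f1, f2, f3, f4⟩ := inv_deg
    refine ⟨h, hh, conj_mem h g hh hg, 20, by norm_num, ?_⟩
    intro b hb
    rcases mem_take5 b hb with rfl | rfl | rfl | rfl | rfl
    · rw [e0, idx_ptOf 0 (by norm_num), f0]
    · rw [e1, idx_ptOf 23 (by norm_num), f1]
    · rw [efix 1 (by norm_num) (by norm_num) (by norm_num), idx_ptOf 1 (by norm_num), f2]
    · rw [efix 2 (by norm_num) (by norm_num) (by norm_num), idx_ptOf 2 (by norm_num), f3]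
    · rw [efix 3 (by norm_num) (by norm_num) (by norm_num), idx_ptOf 3 (by norm_num), f4]

/-- elements of order three: two classes -/
theorem o3_class (g : Equiv.Perm GolayPt) (hg : g ∈ M24) (h3 : g ^ 3 = 1) (hne : g ≠ 1) :
    ∃ K ∈ M24, ∃ c < 2, TblP (K * g * K⁻¹) (tblOf (ent o3REP 120 c)) := by
  have hggg : ∀ p, g (g (g p)) = p := by
    intro p
    have h : (g ^ 3) p = p := by rw [h3]; rfl
    rwa [pow_succ, pow_two] at h
  obtain ⟨a, ha⟩ : ∃ a, g a ≠ a := by
    by_contra hcon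
    push_neg at hcon
    exact hne (Equiv.ext hcon)
  have hcb : g (g a) ≠ g a := fun h => ha (g.injective h)
  have hca : g (g a) ≠ a := by
    intro h
    apply ha
    have h5 := hggg a
    rw [h] at h5
    exact h5
  apply cls_of_cand 3 o3IX o3REP o3CE o3IX_ok o3_run g h3
  by_cases hd : ∃ d, d ≠ a ∧ d ≠ g a ∧ d ≠ g (g a) ∧ g d ≠ d
  · obtain ⟨d, hda, hdb, hdc, hgd⟩ := hd
    have he1 : g d ≠ a := by
      intro h
      apply hdc
      apply g.injective
      rw [h, hggg]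
    have he2 : g d ≠ g a := fun h => hda (g.injective h)
    have he3 : g d ≠ g (g a) := fun h => hdb (g.injective h)
    obtain ⟨h, hh, hx⟩ := to_base_list [a, g a, g (g a), d, g d]
      (by simp [ha.symm, hca.symm, hda.symm, he1.symm, hcb.symm, hdb.symm, he2.symm, hdc.symm,
        he3.symm, hgd.symm]) (by simp) 5 (by simp)
    have h0 : h a = ptOf 23 := hx 0 (by simp) (by norm_num)
    have h1 : h (g a) = ptOf 0 := hx 1 (by simp) (by norm_num)
    have h2' : h (g (g a)) = ptOf 1 := hx 2 (by simp) (by norm_num)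
    have h3' : h d = ptOf 2 := hx 3 (by simp) (by norm_num)
    have h4' : h (g d) = ptOf 3 := hx 4 (by simp) (by norm_num)
    have e0 : (h * g * h⁻¹) (ptOf 23) = ptOf 0 := by rw [← h0, conj_apply h g a (g a) rfl, h1]
    have e1 : (h * g * h⁻¹) (ptOf 0) = ptOf 1 := by
      rw [← h1, conj_apply h g (g a) (g (g a)) rfl, h2']
    have e2 : (h * g * h⁻¹) (ptOf 1) = ptOf 23 := by
      rw [← h2', conj_apply h g (g (g a)) a (hggg a), h0]
    have e3 : (h * g * h⁻¹) (ptOf 2) = ptOf 3 := by rw [← h3', conj_apply h g d (g d) rfl, h4']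
    have hy : idx ((h * g * h⁻¹) (ptOf 3)) ∉ [0, 1, 23, 3] := by
      intro hmem
      simp only [List.mem_cons, List.not_mem_nil, or_false] at hmem
      have key : ∀ i j : ℕ, i < 24 → j < 24 → j ≠ 3 → (h * g * h⁻¹) (ptOf j) = ptOf i →
          idx ((h * g * h⁻¹) (ptOf 3)) ≠ i := by
        intro i j hi hj hj3 hij he
        have h5 : (h * g * h⁻¹) (ptOf 3) = ptOf i := by rw [← he, ptOf_idx]
        rw [← hij] at h5
        exact ptOf_ne 3 j (by norm_num) hj (Ne.symm hj3) ((h * g * h⁻¹).injective h5)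
      rcases hmem with h4 | h4 | h4 | h4
      · exact key 0 23 (by norm_num) (by norm_num) (by norm_num) e0 h4
      · exact key 1 0 (by norm_num) (by norm_num) (by norm_num) e1 h4
      · exact key 23 1 (by norm_num) (by norm_num) (by norm_num) e2 h4
      · exact key 3 2 (by norm_num) (by norm_num) (by norm_num) e3 h4
    obtain ⟨j, hj, f0, f1, f2, f3, f4⟩ := o3_cov _ (idx_lt _) hy
    refine ⟨h, hh, conj_mem h g hh hg, j, by omega, ?_⟩
    intro b hb
    rcases mem_take5 b hb with rfl | rfl | rfl | rfl | rfl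
    · rw [e0, idx_ptOf 0 (by norm_num), f0]
    · rw [e1, idx_ptOf 1 (by norm_num), f1]
    · rw [e2, idx_ptOf 23 (by norm_num), f2]
    · rw [e3, idx_ptOf 3 (by norm_num), f3]
    · rw [f4]
  · push_neg at hd
    obtain ⟨h, hh, hx⟩ := to_base_list [a, g a, g (g a)]
      (by simp [ha.symm, hca.symm, hcb.symm]) (by simp) 3 (by simp)
    have h0 : h a = ptOf 23 := hx 0 (by simp) (by norm_num)
    have h1 : h (g a) = ptOf 0 := hx 1 (by simp) (by norm_num)
    have h2' : h (g (g a)) = ptOf 1 := hx 2 (by simp) (by norm_num)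
    have e0 : (h * g * h⁻¹) (ptOf 23) = ptOf 0 := by rw [← h0, conj_apply h g a (g a) rfl, h1]
    have e1 : (h * g * h⁻¹) (ptOf 0) = ptOf 1 := by
      rw [← h1, conj_apply h g (g a) (g (g a)) rfl, h2']
    have e2 : (h * g * h⁻¹) (ptOf 1) = ptOf 23 := by
      rw [← h2', conj_apply h g (g (g a)) a (hggg a), h0]
    have efix : ∀ i : ℕ, i < 24 → i ≠ 23 → i ≠ 0 → i ≠ 1 →
        (h * g * h⁻¹) (ptOf i) = ptOf i := by
      intro i hi hi1 hi2 hi3
      apply conj_fix
      apply hd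
      · exact inv_ne_of h _ a (by rw [h0]; exact ptOf_ne i 23 hi (by norm_num) hi1)
      · exact inv_ne_of h _ (g a) (by rw [h1]; exact ptOf_ne i 0 hi (by norm_num) hi2)
      · exact inv_ne_of h _ (g (g a)) (by rw [h2']; exact ptOf_ne i 1 hi (by norm_num) hi3)
    obtain ⟨f0, f1, f2, f3, f4⟩ := o3_deg
    refine ⟨h, hh, conj_mem h g hh hg, 20, by norm_num, ?_⟩
    intro b hb
    rcases mem_take5 b hb with rfl | rfl | rfl | rfl | rfl
    · rw [e0, idx_ptOf 0 (by norm_num), f0]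
    · rw [e1, idx_ptOf 1 (by norm_num), f1]
    · rw [e2, idx_ptOf 23 (by norm_num), f2]
    · rw [efix 2 (by norm_num) (by norm_num) (by norm_num) (by norm_num),
        idx_ptOf 2 (by norm_num), f3]
    · rw [efix 3 (by norm_num) (by norm_num) (by norm_num) (by norm_num),
        idx_ptOf 3 (by norm_num), f4]

end Cfsg.Agent.Lib.Helper9.Leech
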