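import Cfsg.Agent.Lib.Helper9.Sext

set_option autoImplicit false
open Cfsg

namespace Cfsg.Agent.Lib.Helper9.Leech

open scoped Pointwise
open Cfsg.Agent.S5393 Cfsg.Agent.S5548

/-! ### trios -/

theorem trios_smul (g : Equiv.Perm GolayPt) (hg : g ∈ M24) (T : Finset (Finset GolayPt))
    (hT : T ∈ trios) : g • T ∈ trios := by
  obtain ⟨h1, h2, h3⟩ := hT
  refine ⟨by rw [Finset.card_smul_finset]; exact h1, ?_, ?_⟩
  · intro t ht
    obtain ⟨t', ht', rfl⟩ := Finset.mem_smul_finset.1 ht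
    exact octads_smul g hg _ (h2 t' ht')
  · intro t ht u hu htu
    obtain ⟨t', ht', rfl⟩ := Finset.mem_smul_finset.1 ht
    obtain ⟨u', hu', rfl⟩ := Finset.mem_smul_finset.1 hu
    rw [disjoint_smul_iff]
    exact h3 t' ht' u' hu' (fun h => htu (by rw [h]))

def trioChk (c : ℕ) : Bool :=
  validK 3 c && (allBelow (fun i => memL (ent c 24 i) octL) 3 &&
    allBelow (fun i => allBelow (fun j => Nat.beq i j ||
      Nat.beq (Nat.land (ent c 24 i) (ent c 24 j)) 0) 3) 3)

theorem trio_of_chk (c : ℕ) (h : trioChk c = true) : semK 3 c ∈ trios := by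
  unfold trioChk at h
  simp only [Bool.and_eq_true] at h
  obtain ⟨hv, hp, hu⟩ := h
  refine ⟨semK_card 3 c hv, ?_, ?_⟩
  · intro t ht
    obtain ⟨i, hi, rfl⟩ := (mem_semK 3 c t).1 ht
    exact (mem_octads _).2 ⟨_, memL_mem _ _ (allBelow_spec _ 3 hp i hi), rfl⟩
  · intro t ht u hu' htu
    obtain ⟨i, hi, rfl⟩ := (mem_semK 3 c t).1 ht
    obtain ⟨j, hj, rfl⟩ := (mem_semK 3 c u).1 hu'
    have h1 := allBelow_spec _ 3 (allBelow_spec _ 3 hu i hi) j hj
    rw [Bool.or_eq_true] at h1
    rcases h1 with h1 | h1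
    · exact absurd (by rw [Nat.eq_of_beq_eq_true h1]) htu
    · exact disj_of_land_eq_zero _ _ (Nat.eq_of_beq_eq_true h1)

def has3 (c x : ℕ) : Bool :=
  Nat.beq (ent c 24 0) x || (Nat.beq (ent c 24 1) x || Nat.beq (ent c 24 2) x)

theorem has3_mem (c x : ℕ) (h : has3 c x = true) : bitsOf x ∈ semK 3 c := by
  unfold has3 at h
  simp only [Bool.or_eq_true] at h
  rw [mem_semK]
  rcases h with h | h | h
  · exact ⟨0, by decide, by rw [Nat.eq_of_beq_eq_true h]⟩
  · exact ⟨1, by decide, by rw [Nat.eq_of_beq_eq_true h]⟩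
  · exact ⟨2, by decide, by rw [Nat.eq_of_beq_eq_true h]⟩

def trioO15 : List ℕ := [330, 331, 332, 333, 334, 335, 336, 337, 338, 339, 340, 341, 342, 343, 344]

def oct0L : List ℕ := octL.filter (fun m => Nat.beq (Nat.land octO m) 0)

def trioLoc : Bool :=
  oct0L.all (fun m => oct0L.all (fun m' => Nat.beq m m' || (!(Nat.beq (Nat.land m m') 0) ||
    trioO15.any (fun i => forceN (codeAt 3 trioLE i) (fun c =>
      has3 c octO && (has3 c m && has3 c m'))))))

set_option maxRecDepth 100000 in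
theorem trioLoc_ok : trioLoc = true := by decide +kernel

theorem trioO15_lt : ∀ i ∈ trioO15, i < 3795 := by decide

theorem trio_local (T : Finset (Finset GolayPt)) (hT : T ∈ trios) (hO : bitsOf octO ∈ T) :
    ∃ i < 3795, semK 3 (codeAt 3 trioLE i) = T := by
  obtain ⟨h1, h2, h3⟩ := hT
  have hc : (T.erase (bitsOf octO)).card = 2 := by
    rw [Finset.card_erase_of_mem hO, h1]
  obtain ⟨a, b, hab, he⟩ := Finset.card_eq_two.1 hc
  have haT : a ∈ T ∧ a ≠ bitsOf octO := by
    have : a ∈ T.erase (bitsOf octO) := by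
      rw [he]
      exact Finset.mem_insert_self _ _
    exact ⟨Finset.mem_of_mem_erase this, Finset.ne_of_mem_erase this⟩
  have hbT : b ∈ T ∧ b ≠ bitsOf octO := by
    have : b ∈ T.erase (bitsOf octO) := by
      rw [he]
      simp
    exact ⟨Finset.mem_of_mem_erase this, Finset.ne_of_mem_erase this⟩
  obtain ⟨m, hm, hma⟩ := (mem_octads _).1 (h2 a haT.1)
  obtain ⟨m', hm', hmb⟩ := (mem_octads _).1 (h2 b hbT.1)
  have hO24 : octO < 2 ^ 24 := by decide
  have hm0 : m ∈ oct0L := by
    unfold oct0L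
    rw [List.mem_filter]
    refine ⟨hm, ?_⟩
    have : octO &&& m = 0 := land_eq_zero_of_disj octO m hO24 (by
      rw [hma]
      exact h3 _ hO a haT.1 (fun h => haT.2 h.symm))
    change Nat.beq (octO &&& m) 0 = true
    rw [this]
    rfl
  have hm0' : m' ∈ oct0L := by
    unfold oct0L
    rw [List.mem_filter]
    refine ⟨hm', ?_⟩
    have : octO &&& m' = 0 := land_eq_zero_of_disj octO m' hO24 (by
      rw [hmb]
      exact h3 _ hO b hbT.1 (fun h => hbT.2 h.symm))
    change Nat.beq (octO &&& m') 0 = true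
    rw [this]
    rfl
  have hmm : m &&& m' = 0 := land_eq_zero_of_disj m m' (octL_lt m hm) (by
    rw [hma, hmb]
    exact h3 a haT.1 b hbT.1 hab)
  have hne : m ≠ m' := by
    intro h
    apply hab
    rw [← hma, ← hmb, h]
  have hchk := trioLoc_ok
  unfold trioLoc at hchk
  have h4 := List.all_eq_true.1 (List.all_eq_true.1 hchk m hm0) m' hm0'
  simp only [Bool.or_eq_true] at h4
  rcases h4 with h4 | h4 | h4
  · exact absurd (Nat.eq_of_beq_eq_true h4) hne
  · exfalso
    have h5 : Nat.beq (Nat.land m m') 0 = true := by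
      change Nat.beq (m &&& m') 0 = true
      rw [hmm]
      rfl
    rw [h5] at h4
    exact absurd h4 (by decide)
  · obtain ⟨i, hi, h5⟩ := List.any_eq_true.1 h4
    rw [forceN_eq] at h5
    simp only [Bool.and_eq_true] at h5
    obtain ⟨e1, e2, e3⟩ := h5
    have hi' := trioO15_lt i hi
    refine ⟨i, hi', ?_⟩
    symm
    apply Finset.eq_of_subset_of_card_le
    · intro u hu
      by_cases huO : u = bitsOf octO
      · rw [huO]
        exact has3_mem _ _ e1
      · have hu' : u ∈ T.erase (bitsOf octO) := Finset.mem_erase.2 ⟨huO, hu⟩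
        rw [he, Finset.mem_insert, Finset.mem_singleton] at hu'
        rcases hu' with rfl | rfl
        · rw [← hma]
          exact has3_mem _ _ e2
        · rw [← hmb]
          exact has3_mem _ _ e3
    · rw [h1, semK_card 3 _ (famChk_valid 3 trioLE 3795 trio_fam i hi')]

set_option maxRecDepth 100000 in
theorem trio0_chk : trioChk (codeAt 3 trioLE 0) = true := by decide +kernel

theorem trio0_mem : semK 3 (codeAt 3 trioLE 0) ∈ trios := trio_of_chk _ trio0_chk

theorem mem_trios (T : Finset (Finset GolayPt)) :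
    T ∈ trios ↔ ∃ i < 3795, semK 3 (codeAt 3 trioLE i) = T := by
  constructor
  · intro hT
    have hne : T.Nonempty := by
      rw [← Finset.card_pos, hT.1]
      decide
    obtain ⟨o, ho⟩ := hne
    obtain ⟨σ, hσ, hσo, _⟩ := oct_to_octO o (hT.2.1 o ho)
    have h1 : bitsOf octO ∈ σ⁻¹ • T := by
      rw [← hσo] at ho
      have h2 := Finset.smul_mem_smul_finset (a := σ⁻¹) ho
      rw [inv_smul_smul] at h2
      exact h2
    obtain ⟨i, hi, he⟩ := trio_local _ (trios_smul σ⁻¹ (inv_mem hσ) T hT) h1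
    obtain ⟨j, hj, he'⟩ := trio_closed σ hσ i hi
    exact ⟨j, hj, by rw [← he', he, smul_inv_smul]⟩
  · rintro ⟨i, hi, rfl⟩
    obtain ⟨g, hg, he⟩ := trio_orbit i hi
    rw [← he]
    exact trios_smul g hg _ trio0_mem

theorem bitsOf_compl (x : ℕ) : (bitsOf x)ᶜ = bitsOf (16777215 ^^^ x) := by
  ext p
  rw [Finset.mem_compl, mem_bitsOf, mem_bitsOf, Nat.testBit_xor, full_testBit _ (idx_lt p)]
  simp

set_option maxRecDepth 100000 in
theorem oct_compl_chk : octL.all (fun m => !(Nat.beq (Nat.land octO m) 0) ||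
    memL (Nat.xor 16777215 (Nat.lor octO m)) octL) = true := by decide +kernel

theorem oct_compl (o o' : Finset GolayPt) (ho : o ∈ octads) (ho' : o' ∈ octads)
    (hd : Disjoint o o') : (o ∪ o')ᶜ ∈ octads := by
  obtain ⟨σ, hσ, hσo, _⟩ := oct_to_octO o ho
  obtain ⟨m, hm, hmb⟩ := (mem_octads _).1 (octads_smul σ⁻¹ (inv_mem hσ) o' ho')
  have hd' : Disjoint (bitsOf octO) (bitsOf m) := by
    rw [hmb, ← disjoint_smul_iff σ, smul_inv_smul, hσo]
    exact hd
  have h0 : octO &&& m = 0 := land_eq_zero_of_disj octO m (by decide) hd'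
  have h1 := List.all_eq_true.1 oct_compl_chk m hm
  rw [Bool.or_eq_true] at h1
  rcases h1 with h1 | h1
  · exfalso
    have h5 : Nat.beq (Nat.land octO m) 0 = true := by
      change Nat.beq (octO &&& m) 0 = true
      rw [h0]
      rfl
    rw [h5] at h1
    exact absurd h1 (by decide)
  · have h2 : (bitsOf octO ∪ bitsOf m)ᶜ ∈ octads := by
      rw [bitsOf_or, bitsOf_compl]
      exact (mem_octads _).2 ⟨_, memL_mem _ _ h1, rfl⟩
    have h3 : (o ∪ o')ᶜ = σ • (bitsOf octO ∪ bitsOf m)ᶜ := by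
      rw [smul_compl', Finset.smul_finset_union, hσo, hmb, smul_inv_smul]
    rw [h3]
    exact octads_smul σ hσ _ h2

theorem s1557 : (∀ o o' : Finset GolayPt, o ∈ octads → o' ∈ octads → Disjoint o o' →
    (o ∪ o')ᶜ ∈ octads) ∧ trios.ncard = 3795 :=
  ⟨oct_compl, ncard_enum trios 3 trioLE 3795 mem_trios trio_fam⟩

end Cfsg.Agent.Lib.Helper9.Leech
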