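import Cfsg.Agent.Lib.Helper9.Cls
import Cfsg.Agent.Lib.Helper9.Trio

set_option autoImplicit false
open Cfsg

namespace Cfsg.Agent.Lib.Helper9.Leech

open scoped Pointwise
open Cfsg.Agent.S5393 Cfsg.Agent.S5548

/-! ### fixed points read off a packed table -/

theorem tbl_fix_iff (r : Equiv.Perm GolayPt) (t : ℕ) (hr : TblP r (tblOf t)) (p : GolayPt) :
    r p = p ↔ fld t (idx p) = idx p := by
  rw [← TblP_idx r t hr]
  constructor
  · intro h
    rw [h]
  · intro h
    exact idx_inj _ _ h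

theorem conj_fix_iff (K g : Equiv.Perm GolayPt) (p : GolayPt) :
    (K * g * K⁻¹) (K p) = K p ↔ g p = p := by
  rw [conj_apply K g p (g p) rfl]
  exact K.injective.eq_iff

theorem fixF_conj (K g : Equiv.Perm GolayPt) :
    (Finset.univ.filter fun p => g p = p) =
      K⁻¹ • (Finset.univ.filter fun p => (K * g * K⁻¹) p = p) := by
  ext p
  rw [inv_smul_mem_iff, Finset.mem_filter, Finset.mem_filter, conj_fix_iff]
  simp

theorem fixF_tbl (r : Equiv.Perm GolayPt) (t mask : ℕ) (hr : TblP r (tblOf t))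
    (h : ∀ i < 24, Nat.beq (fld t i) i = mask.testBit i) :
    (Finset.univ.filter fun p => r p = p) = bitsOf mask := by
  ext p
  rw [Finset.mem_filter, mem_bitsOf, ← h _ (idx_lt p), tbl_fix_iff r t hr, beq_iff]
  simp

theorem fp_of_conj (K g : Equiv.Perm GolayPt) (t : ℕ) (hK : TblP (K * g * K⁻¹) (tblOf t))
    (i : ℕ) (hi : i < 24) (h : fld t i = i) : g (K⁻¹ (ptOf i)) = K⁻¹ (ptOf i) := by
  rw [← conj_fix_iff K g]
  have h1 : K (K⁻¹ (ptOf i)) = ptOf i := by
    change K (K.symm (ptOf i)) = ptOf i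
    rw [Equiv.apply_symm_apply]
  rw [h1, tbl_fix_iff _ t hK, idx_ptOf i hi, h]

theorem nofp_of_conj (K g : Equiv.Perm GolayPt) (t : ℕ) (hK : TblP (K * g * K⁻¹) (tblOf t))
    (h : ∀ i < 24, fld t i ≠ i) : ∀ p, g p ≠ p := by
  intro p hp
  have h1 := (conj_fix_iff K g p).2 hp
  rw [tbl_fix_iff _ t hK] at h1
  exact h _ (idx_lt _) h1

theorem pow_one_of_tbl (r : Equiv.Perm GolayPt) (t m : ℕ) (hr : TblP r (tblOf t))
    (h : ∀ i < 24, powFld t m i = i) : r ^ m = 1 := by
  apply Equiv.ext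
  intro p
  apply idx_inj
  rw [powFld_spec r t hr m p, h _ (idx_lt p)]
  rfl

theorem ne_one_of_tbl (r : Equiv.Perm GolayPt) (t i : ℕ) (hr : TblP r (tblOf t)) (hi : i < 24)
    (h : fld t i ≠ i) : r ≠ 1 := by
  intro h1
  apply h
  have h2 := TblP_idx r t hr (ptOf i)
  rw [h1, idx_ptOf i hi] at h2
  have h3 : idx ((1 : Equiv.Perm GolayPt) (ptOf i)) = i := idx_ptOf i hi
  rw [h3] at h2
  exact h2.symm

theorem order_two (g : Equiv.Perm GolayPt) (h : orderOf g = 2) : g ^ 2 = 1 ∧ g ≠ 1 := by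
  constructor
  · rw [← h]
    exact pow_orderOf_eq_one g
  · intro h1
    rw [h1, orderOf_one] at h
    exact absurd h (by norm_num)

theorem order_three (g : Equiv.Perm GolayPt) (h : orderOf g = 3) : g ^ 3 = 1 ∧ g ≠ 1 := by
  constructor
  · rw [← h]
    exact pow_orderOf_eq_one g
  · intro h1
    rw [h1, orderOf_one] at h
    exact absurd h (by norm_num)

/-! ### sets fixed by an element, via pull-backs -/

def anyBelow (p : ℕ → Bool) : ℕ → Bool
  | 0 => false
  | k + 1 => p k || anyBelow p k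

theorem anyBelow_iff (p : ℕ → Bool) : ∀ n, anyBelow p n = true ↔ ∃ i < n, p i = true := by
  intro n
  induction n with
  | zero => simp [anyBelow]
  | succ n ih =>
    rw [anyBelow, Bool.or_eq_true, ih]
    constructor
    · rintro (h | ⟨i, hi, h⟩)
      · exact ⟨n, Nat.lt_succ_self n, h⟩
      · exact ⟨i, Nat.lt_succ_of_lt hi, h⟩
    · rintro ⟨i, hi, h⟩
      rcases Nat.lt_succ_iff_lt_or_eq.1 hi with h1 | h1
      · exact Or.inr ⟨i, h1, h⟩
      · left
        rw [← h1]
        exact h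

theorem allBelow_of (p : ℕ → Bool) : ∀ n, (∀ i < n, p i = true) → allBelow p n = true := by
  intro n
  induction n with
  | zero =>
    intro _
    rfl
  | succ n ih =>
    intro h
    rw [allBelow, Bool.and_eq_true]
    exact ⟨h n (Nat.lt_succ_self n), ih (fun i hi => h i (Nat.lt_succ_of_lt hi))⟩

theorem smul_eq_iff_inv {β : Type*} [MulAction (Equiv.Perm GolayPt) β] (g : Equiv.Perm GolayPt)
    (X : β) : g • X = X ↔ g⁻¹ • X = X := by
  constructor
  · intro h
    rw [inv_smul_eq_iff, h]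
  · intro h
    rw [inv_smul_eq_iff] at h
    exact h.symm

theorem fix_mask_iff (g : Equiv.Perm GolayPt) (s : ℕ) (hg : TblP g (tblOf s)) (n : ℕ)
    (hn : n < 2 ^ 24) : g • bitsOf n = bitsOf n ↔ Nat.beq (pullN s n) n = true := by
  rw [smul_eq_iff_inv, pullN_spec g s hg, beq_iff]
  constructor
  · intro h
    exact bitsOf_inj _ _ (pullN_lt s n) hn h
  · intro h
    rw [h]

def fixK (k s c : ℕ) : Bool :=
  allBelow (fun i => forceN (pullN s (ent c 24 i)) (fun m =>
    anyBelow (fun j => Nat.beq m (ent c 24 j)) k)) k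

theorem fixK_iff (g : Equiv.Perm GolayPt) (s : ℕ) (hg : TblP g (tblOf s)) (k c : ℕ) :
    g • semK k c = semK k c ↔ fixK k s c = true := by
  rw [smul_eq_iff_inv]
  constructor
  · intro h
    unfold fixK
    apply allBelow_of
    intro i hi
    rw [forceN_eq, anyBelow_iff]
    have h1 : g⁻¹ • bitsOf (ent c 24 i) ∈ g⁻¹ • semK k c :=
      Finset.smul_mem_smul_finset ((mem_semK k c _).2 ⟨i, hi, rfl⟩)
    rw [h, pullN_spec g s hg, mem_semK] at h1
    obtain ⟨j, hj, hje⟩ := h1
    refine ⟨j, hj, ?_⟩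
    rw [beq_iff]
    exact (bitsOf_inj _ _ (ent_lt c 24 j) (pullN_lt s _) hje).symm
  · intro h
    unfold fixK at h
    have h1 := allBelow_spec _ k h
    apply Finset.eq_of_subset_of_card_le
    · intro t ht
      obtain ⟨u, hu, rfl⟩ := Finset.mem_smul_finset.1 ht
      obtain ⟨i, hi, rfl⟩ := (mem_semK k c u).1 hu
      have h2 := h1 i hi
      rw [forceN_eq, anyBelow_iff] at h2
      obtain ⟨j, hj, hje⟩ := h2
      rw [beq_iff] at hje
      rw [mem_semK]
      refine ⟨j, hj, ?_⟩
      rw [← hje]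
      exact (pullN_spec g s hg _).symm
    · rw [Finset.card_smul_finset]

/-! ### counting fixed members of the four families -/

theorem fix_count_conj {β : Type*} [MulAction (Equiv.Perm GolayPt) β] (F : Set β)
    (hF : ∀ K ∈ M24, ∀ X ∈ F, K • X ∈ F) (g K : Equiv.Perm GolayPt) (hK : K ∈ M24) :
    {X | X ∈ F ∧ g • X = X}.ncard = {X | X ∈ F ∧ (K * g * K⁻¹) • X = X}.ncard := by
  symm
  apply ncard_conj K
  intro s
  simp only [Set.mem_ofPred_eq]
  have h1 : K • s ∈ F ↔ s ∈ F := by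
    constructor
    · intro h
      have := hF K⁻¹ (inv_mem hK) _ h
      rwa [inv_smul_smul] at this
    · exact hF K hK s
  have h2 : (K * g * K⁻¹) • K • s = K • s ↔ g • s = s := by
    rw [mul_smul, mul_smul, inv_smul_smul]
    exact smul_left_cancel_iff K
  rw [h1, h2]

theorem oct_fix_count (r : Equiv.Perm GolayPt) (s : ℕ) (hr : TblP r (tblOf s)) :
    {o : Finset GolayPt | o ∈ octads ∧ r • o = o}.ncard =
      (octL.filter (fun n => Nat.beq (pullN s n) n)).length :=
  ncard_fam octads octL mem_octads octL_lt octL_sorted (fun o => r • o = o) _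
    (fun n hn => fix_mask_iff r s hr n (octL_lt n hn))

theorem dod_fix_count (r : Equiv.Perm GolayPt) (s : ℕ) (hr : TblP r (tblOf s)) :
    {o : Finset GolayPt | o ∈ dodecads ∧ r • o = o}.ncard =
      (dodL.filter (fun n => Nat.beq (pullN s n) n)).length :=
  ncard_fam dodecads dodL mem_dodecads dodL_lt dodL_sorted (fun o => r • o = o) _
    (fun n hn => fix_mask_iff r s hr n (dodL_lt n hn))

theorem sext_fix_count (r : Equiv.Perm GolayPt) (s : ℕ) (hr : TblP r (tblOf s)) :
    {S : Finset (Finset GolayPt) | S ∈ sextets ∧ r • S = S}.ncard =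
      ((List.range 1771).filter (fun i => fixK 6 s (codeAt 6 sextLE i))).length :=
  ncard_famG sextets 1771 (fun i => semK 6 (codeAt 6 sextLE i)) mem_sextets
    (fun i hi j hj hij => fam_inj 6 sextLE 1771 sext_fam i j hi hj hij) (fun S => r • S = S) _
    (fun _ _ => fixK_iff r s hr 6 _)

theorem trio_fix_count (r : Equiv.Perm GolayPt) (s : ℕ) (hr : TblP r (tblOf s)) :
    {T : Finset (Finset GolayPt) | T ∈ trios ∧ r • T = T}.ncard =
      ((List.range 3795).filter (fun i => fixK 3 s (codeAt 3 trioLE i))).length :=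
  ncard_famG trios 3795 (fun i => semK 3 (codeAt 3 trioLE i)) mem_trios
    (fun i hi j hj hij => fam_inj 3 trioLE 3795 trio_fam i j hi hj hij) (fun T => r • T = T) _
    (fun _ _ => fixK_iff r s hr 3 _)

/-! ### the four representatives -/

theorem invRK_ok : ∀ c < 2, (Nat.blt (invRK.getD c 0) elN &&
    Nat.beq (nodeTbl elS (invRK.getD c 0)) (ent invREP 120 c)) = true := by decide +kernel

theorem o3RK_ok : ∀ c < 2, (Nat.blt (o3RK.getD c 0) elN &&
    Nat.beq (nodeTbl elS (o3RK.getD c 0)) (ent o3REP 120 c)) = true := by decide +kernel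

theorem inv_rep (c : ℕ) (hc : c < 2) : ∃ r ∈ M24, TblP r (tblOf (ent invREP 120 c)) := by
  have h := invRK_ok c hc
  rw [Bool.and_eq_true] at h
  rw [← Nat.eq_of_beq_eq_true h.2]
  exact slpChk_spec M24 (shift_mem 1) projInv_mem cubeTwist_mem elS elN elS_ok _
    (Nat.le_of_ble_eq_true h.1)

theorem o3_rep (c : ℕ) (hc : c < 2) : ∃ r ∈ M24, TblP r (tblOf (ent o3REP 120 c)) := by
  have h := o3RK_ok c hc
  rw [Bool.and_eq_true] at h
  rw [← Nat.eq_of_beq_eq_true h.2]
  exact slpChk_spec M24 (shift_mem 1) projInv_mem cubeTwist_mem elS elN elS_ok _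
    (Nat.le_of_ble_eq_true h.1)

theorem invA_fix : ∃ mask ∈ octL, ∀ i < 24,
    Nat.beq (fld (ent invREP 120 0) i) i = mask.testBit i := by
  refine ⟨((List.range 24).filter (fun i => Nat.beq (fld (ent invREP 120 0) i) i)).foldr
    (fun i acc => acc + 2 ^ i) 0, ?_, ?_⟩
  · apply memL_mem
    decide +kernel
  · decide +kernel

theorem invB_nofix : ∀ i < 24, fld (ent invREP 120 1) i ≠ i := by decide +kernel

theorem o3A_fix : ∃ mask, popc mask = 6 ∧ ∀ i < 24,
    Nat.beq (fld (ent o3REP 120 0) i) i = mask.testBit i := by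
  refine ⟨((List.range 24).filter (fun i => Nat.beq (fld (ent o3REP 120 0) i) i)).foldr
    (fun i acc => acc + 2 ^ i) 0, ?_, ?_⟩
  · decide +kernel
  · decide +kernel

theorem o3B_nofix : ∀ i < 24, fld (ent o3REP 120 1) i ≠ i := by decide +kernel

theorem inv_sq : ∀ c < 2, ∀ i < 24, powFld (ent invREP 120 c) 2 i = i := by decide +kernel

theorem o3_cube : ∀ c < 2, ∀ i < 24, powFld (ent o3REP 120 c) 3 i = i := by decide +kernel

end Cfsg.Agent.Lib.Helper9.Leech
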