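import Cfsg.Agent.Lib.Helper9.Cls2

set_option autoImplicit false
open Cfsg

namespace Cfsg.Agent.Lib.Helper9.Leech

open scoped Pointwise
open Cfsg.Agent.S5393 Cfsg.Agent.S5548

theorem inv_moved : ∀ c < 2, ∃ i < 24, fld (ent invREP 120 c) i ≠ i := by decide +kernel

theorem o3_moved : ∀ c < 2, ∃ i < 24, fld (ent o3REP 120 c) i ≠ i := by decide +kernel

theorem invA_fixoct (K g : Equiv.Perm GolayPt) (hK : K ∈ M24)
    (h : TblP (K * g * K⁻¹) (tblOf (ent invREP 120 0))) :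
    (Finset.univ.filter fun p => g p = p) ∈ octads := by
  obtain ⟨mask, hm, hfix⟩ := invA_fix
  rw [fixF_conj K g, fixF_tbl _ _ mask h hfix]
  exact octads_smul K⁻¹ (inv_mem hK) _ ((mem_octads _).2 ⟨mask, hm, rfl⟩)

theorem invA_fp (K g : Equiv.Perm GolayPt) (hK : K ∈ M24)
    (h : TblP (K * g * K⁻¹) (tblOf (ent invREP 120 0))) : ∃ p, g p = p := by
  have h1 := octad_card _ (invA_fixoct K g hK h)
  have h2 : (Finset.univ.filter fun p => g p = p).Nonempty := by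
    rw [← Finset.card_pos, h1]
    norm_num
  obtain ⟨p, hp⟩ := h2
  exact ⟨p, (Finset.mem_filter.1 hp).2⟩

theorem conj_of_same (g h Kg Kh : Equiv.Perm GolayPt) (t : ℕ)
    (hg : TblP (Kg * g * Kg⁻¹) (tblOf t)) (hh : TblP (Kh * h * Kh⁻¹) (tblOf t)) :
    (Kh⁻¹ * Kg) * g * (Kh⁻¹ * Kg)⁻¹ = h := by
  have h1 := TblP_ext _ _ _ hg hh
  have h2 : (Kh⁻¹ * Kg) * g * (Kh⁻¹ * Kg)⁻¹ = Kh⁻¹ * (Kg * g * Kg⁻¹) * Kh := by group
  rw [h2, h1]
  group

theorem s5394 : (∀ g ∈ M24, orderOf g = 2 →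
      (Finset.univ.filter fun p => g p = p) ∈ octads ∨ ∀ p, g p ≠ p) ∧
    (∃ g ∈ M24, orderOf g = 2 ∧ (Finset.univ.filter fun p => g p = p) ∈ octads) ∧
    (∃ g ∈ M24, orderOf g = 2 ∧ ∀ p, g p ≠ p) ∧
    ∀ g ∈ M24, ∀ h ∈ M24, orderOf g = 2 → orderOf h = 2 →
      ((∀ p, g p ≠ p) ↔ (∀ p, h p ≠ p)) → ∃ k ∈ M24, k * g * k⁻¹ = h := by
  have : Fact (Nat.Prime 2) := ⟨by norm_num⟩
  refine ⟨?_, ?_, ?_, ?_⟩
  · intro g hg h2
    obtain ⟨K, hK, c, hc, hKt⟩ := inv_class g hg (order_two g h2).1 (order_two g h2).2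
    interval_cases c
    · left
      exact invA_fixoct K g hK hKt
    · right
      exact nofp_of_conj K g _ hKt invB_nofix
  · obtain ⟨r, hr, hrt⟩ := inv_rep 0 (by norm_num)
    obtain ⟨i, hi, hne⟩ := inv_moved 0 (by norm_num)
    refine ⟨r, hr, orderOf_eq_prime (pow_one_of_tbl r _ 2 hrt (inv_sq 0 (by norm_num)))
      (ne_one_of_tbl r _ i hrt hi hne), ?_⟩
    apply invA_fixoct 1 r (one_mem _)
    have h1 : (1 : Equiv.Perm GolayPt) * r * 1⁻¹ = r := by group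
    rw [h1]
    exact hrt
  · obtain ⟨r, hr, hrt⟩ := inv_rep 1 (by norm_num)
    obtain ⟨i, hi, hne⟩ := inv_moved 1 (by norm_num)
    refine ⟨r, hr, orderOf_eq_prime (pow_one_of_tbl r _ 2 hrt (inv_sq 1 (by norm_num)))
      (ne_one_of_tbl r _ i hrt hi hne), ?_⟩
    apply nofp_of_conj 1 r _ _ invB_nofix
    have h1 : (1 : Equiv.Perm GolayPt) * r * 1⁻¹ = r := by group
    rw [h1]
    exact hrt
  · intro g hg h hh hg2 hh2 hiff
    obtain ⟨Kg, hKg, cg, hcg, hKgt⟩ := inv_class g hg (order_two g hg2).1 (order_two g hg2).2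
    obtain ⟨Kh, hKh, ch, hch, hKht⟩ := inv_class h hh (order_two h hh2).1 (order_two h hh2).2
    have hsame : cg = ch := by
      interval_cases cg <;> interval_cases ch
      · rfl
      · exfalso
        obtain ⟨p, hp⟩ := invA_fp Kg g hKg hKgt
        exact hiff.2 (nofp_of_conj Kh h _ hKht invB_nofix) p hp
      · exfalso
        obtain ⟨p, hp⟩ := invA_fp Kh h hKh hKht
        exact hiff.1 (nofp_of_conj Kg g _ hKgt invB_nofix) p hp
      · rfl
    subst hsame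
    exact ⟨Kh⁻¹ * Kg, mul_mem (inv_mem hKh) hKg, conj_of_same g h Kg Kh _ hKgt hKht⟩

/-! ### subgroups of order three -/

theorem fixset_zpowers (x : ↥M24) :
    {p : GolayPt | ∀ y ∈ Subgroup.zpowers x, ((y : ↥M24) : Equiv.Perm GolayPt) p = p} =
      {p : GolayPt | (x : Equiv.Perm GolayPt) p = p} := by
  ext p
  simp only [Set.mem_ofPred_eq]
  constructor
  · intro h
    exact h x (Subgroup.mem_zpowers x)
  · intro h y hy
    obtain ⟨k, rfl⟩ := Subgroup.mem_zpowers_iff.1 hy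
    have h1 : ((x ^ k : ↥M24) : Equiv.Perm GolayPt) = (x : Equiv.Perm GolayPt) ^ k := by
      push_cast
      rfl
    rw [h1]
    exact Equiv.Perm.zpow_apply_eq_self_of_apply_eq_self h k

theorem card3_gen (X : Subgroup ↥M24) (h : Nat.card X = 3) :
    ∃ x : ↥M24, X = Subgroup.zpowers x ∧ orderOf (x : Equiv.Perm GolayPt) = 3 := by
  have : Fact (Nat.Prime 3) := ⟨by norm_num⟩
  have : Finite X := Nat.finite_of_card_ne_zero (by rw [h]; norm_num)
  have : Nontrivial X := Finite.one_lt_card_iff_nontrivial.1 (by rw [h]; norm_num)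
  obtain ⟨x', hx'⟩ := exists_ne (1 : X)
  have htop := zpowers_eq_top_of_prime_card h hx'
  refine ⟨(x' : ↥M24), ?_, ?_⟩
  · ext y
    constructor
    · intro hy
      have h1 : (⟨y, hy⟩ : X) ∈ Subgroup.zpowers x' := by rw [htop]; exact Subgroup.mem_top _
      obtain ⟨k, hk⟩ := Subgroup.mem_zpowers_iff.1 h1
      rw [Subgroup.mem_zpowers_iff]
      refine ⟨k, ?_⟩
      have h2 := congrArg (fun z : X => (z : ↥M24)) hk
      simpa using h2
    · intro hy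
      obtain ⟨k, rfl⟩ := Subgroup.mem_zpowers_iff.1 hy
      exact zpow_mem x'.2 k
  · rw [Subgroup.orderOf_coe, Subgroup.orderOf_coe]
    apply orderOf_eq_prime
    · rw [← h]
      exact pow_card_eq_one'
    · exact hx'

theorem ncard_fix_eq (g : Equiv.Perm GolayPt) :
    {p : GolayPt | g p = p}.ncard = (Finset.univ.filter fun p => g p = p).card := by
  rw [← Set.ncard_coe_finset]
  congr 1
  ext p
  simp

theorem o3_fix (g : Equiv.Perm GolayPt) (hg : g ∈ M24) (h3 : orderOf g = 3) :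
    ∃ K ∈ M24, (TblP (K * g * K⁻¹) (tblOf (ent o3REP 120 0)) ∧ {p : GolayPt | g p = p}.ncard = 6) ∨
      (TblP (K * g * K⁻¹) (tblOf (ent o3REP 120 1)) ∧ {p : GolayPt | g p = p}.ncard = 0) := by
  obtain ⟨K, hK, c, hc, hKt⟩ := o3_class g hg (order_three g h3).1 (order_three g h3).2
  refine ⟨K, hK, ?_⟩
  interval_cases c
  · left
    refine ⟨hKt, ?_⟩
    obtain ⟨mask, hm, hfix⟩ := o3A_fix
    rw [ncard_fix_eq, fixF_conj K g, fixF_tbl _ _ mask hKt hfix, Finset.card_smul_finset,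
      card_bitsOf, hm]
  · right
    refine ⟨hKt, ?_⟩
    have h1 : {p : GolayPt | g p = p} = ∅ := by
      ext p
      simp only [Set.mem_ofPred_eq, Set.mem_empty_iff_false, iff_false]
      exact nofp_of_conj K g _ hKt o3B_nofix p
    rw [h1, Set.ncard_empty]

theorem conj_zpowers (k x : ↥M24) :
    MulAut.conj k • Subgroup.zpowers x = Subgroup.zpowers (k * x * k⁻¹) := by
  ext z
  have h1 : (MulAut.conj k)⁻¹ • z = k⁻¹ * z * k := by
    rw [← map_inv, MulAut.smul_def, MulAut.conj_apply, inv_inv]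
  rw [Subgroup.mem_pointwise_smul_iff_inv_smul_mem, h1, Subgroup.mem_zpowers_iff,
    Subgroup.mem_zpowers_iff]
  constructor
  · rintro ⟨n, hn⟩
    refine ⟨n, ?_⟩
    rw [conj_zpow, hn]
    group
  · rintro ⟨n, hn⟩
    refine ⟨n, ?_⟩
    rw [← hn, conj_zpow]
    group

theorem o3_rep_sub (c : ℕ) (hc : c < 2) : ∃ x : ↥M24, Nat.card (Subgroup.zpowers x) = 3 ∧
    orderOf (x : Equiv.Perm GolayPt) = 3 ∧
    TblP (x : Equiv.Perm GolayPt) (tblOf (ent o3REP 120 c)) := by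
  have : Fact (Nat.Prime 3) := ⟨by norm_num⟩
  obtain ⟨r, hr, hrt⟩ := o3_rep c hc
  obtain ⟨i, hi, hne⟩ := o3_moved c hc
  have h3 : orderOf r = 3 := orderOf_eq_prime (pow_one_of_tbl r _ 3 hrt (o3_cube c hc))
    (ne_one_of_tbl r _ i hrt hi hne)
  refine ⟨⟨r, hr⟩, ?_, h3, hrt⟩
  rw [Nat.card_zpowers, Subgroup.orderOf_mk, h3]

theorem s5601 : (∀ X : Subgroup ↥M24, Nat.card X = 3 →
      {p : GolayPt | ∀ x ∈ X, ((x : ↥M24) : Equiv.Perm GolayPt) p = p}.ncard = 6 ∨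
      {p : GolayPt | ∀ x ∈ X, ((x : ↥M24) : Equiv.Perm GolayPt) p = p}.ncard = 0) ∧
    (∃ X : Subgroup ↥M24, Nat.card X = 3 ∧
      {p : GolayPt | ∀ x ∈ X, ((x : ↥M24) : Equiv.Perm GolayPt) p = p}.ncard = 6) ∧
    (∃ X : Subgroup ↥M24, Nat.card X = 3 ∧
      {p : GolayPt | ∀ x ∈ X, ((x : ↥M24) : Equiv.Perm GolayPt) p = p}.ncard = 0) ∧
    ∀ X Y : Subgroup ↥M24, Nat.card X = 3 → Nat.card Y = 3 →
      {p : GolayPt | ∀ x ∈ X, ((x : ↥M24) : Equiv.Perm GolayPt) p = p}.ncard =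
        {p : GolayPt | ∀ x ∈ Y, ((x : ↥M24) : Equiv.Perm GolayPt) p = p}.ncard →
      ∃ k : ↥M24, MulAut.conj k • X = Y := by
  refine ⟨?_, ?_, ?_, ?_⟩
  · intro X hX
    obtain ⟨x, rfl, h3⟩ := card3_gen X hX
    rw [fixset_zpowers]
    obtain ⟨K, _, h | h⟩ := o3_fix x x.2 h3
    · exact Or.inl h.2
    · exact Or.inr h.2
  · obtain ⟨x, hcard, h3, hxt⟩ := o3_rep_sub 0 (by norm_num)
    refine ⟨Subgroup.zpowers x, hcard, ?_⟩
    rw [fixset_zpowers]
    obtain ⟨K, hK, h | h⟩ := o3_fix x x.2 h3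
    · exact h.2
    · exfalso
      obtain ⟨mask, hm, hfix⟩ := o3A_fix
      have h1 := ncard_fix_eq (x : Equiv.Perm GolayPt)
      rw [h.2, fixF_tbl _ _ mask hxt hfix, card_bitsOf, hm] at h1
      exact absurd h1 (by norm_num)
  · obtain ⟨x, hcard, h3, hxt⟩ := o3_rep_sub 1 (by norm_num)
    refine ⟨Subgroup.zpowers x, hcard, ?_⟩
    rw [fixset_zpowers]
    have h1 : {p : GolayPt | (x : Equiv.Perm GolayPt) p = p} = ∅ := by
      ext p
      simp only [Set.mem_ofPred_eq, Set.mem_empty_iff_false, iff_false]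
      intro hp
      exact o3B_nofix _ (idx_lt p) ((tbl_fix_iff _ _ hxt p).1 hp)
    rw [h1, Set.ncard_empty]
  · intro X Y hX hY hXY
    obtain ⟨x, rfl, hx3⟩ := card3_gen X hX
    obtain ⟨y, rfl, hy3⟩ := card3_gen Y hY
    rw [fixset_zpowers, fixset_zpowers] at hXY
    obtain ⟨Kx, hKx, hx | hx⟩ := o3_fix x x.2 hx3 <;>
      obtain ⟨Ky, hKy, hy | hy⟩ := o3_fix y y.2 hy3
    · refine ⟨⟨Ky⁻¹ * Kx, mul_mem (inv_mem hKy) hKx⟩, ?_⟩
      rw [conj_zpowers]
      congr 1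
      apply Subtype.ext
      exact conj_of_same _ _ Kx Ky _ hx.1 hy.1
    · rw [hx.2, hy.2] at hXY
      exact absurd hXY (by norm_num)
    · rw [hx.2, hy.2] at hXY
      exact absurd hXY (by norm_num)
    · refine ⟨⟨Ky⁻¹ * Kx, mul_mem (inv_mem hKy) hKx⟩, ?_⟩
      rw [conj_zpowers]
      congr 1
      apply Subtype.ext
      exact conj_of_same _ _ Kx Ky _ hx.1 hy.1

end Cfsg.Agent.Lib.Helper9.Leech
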