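import Cfsg.Agent.Lib.Helper9.Code4
import Cfsg.Agent.Lib.Helper9.CmData

set_option autoImplicit false
open Cfsg

namespace Cfsg.Agent.Lib.Helper9.Leech

open scoped Pointwise
open Cfsg.Agent.S5393 Cfsg.Agent.S5548

set_option maxRecDepth 100000 in
theorem cmS_ok : slpChk cmS cmN = true := by decide +kernel

set_option maxRecDepth 100000 in
theorem cmSext_k : ((0, 5517840) :: cmSextKH).all (fun jp => Nat.blt jp.1 cmN &&
    stepK 6 (nodeTbl cmS jp.1) cfSextA cfSextA jp.2) = true := by decide +kernel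

set_option maxRecDepth 100000 in
theorem cmSext_g13 : ∃ r ∈ M24, r • semK 6 cfSextA = semK 6 (codeAt 6 sextLE 13) ∧
    ∀ K : Subgroup (Equiv.Perm GolayPt),
      (∀ h ∈ M24, h • semK 6 cfSextA = semK 6 cfSextA → h ∈ K) → r ∈ K → M24 ≤ K :=
  gen_clsB cmS cmN cmS_ok 6 cfSextA (0, 5517840) cmSextKH cmSext_k (codeAt 6 sextLE 13) 197 75075
    (by decide +kernel) cmSextG13 79 70 74 78 (by decide +kernel) (by decide +kernel)

set_option maxRecDepth 100000 in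
theorem cmSext_g1 : ∃ r ∈ M24, r • semK 6 cfSextA = semK 6 (codeAt 6 sextLE 1) ∧
    ∀ K : Subgroup (Equiv.Perm GolayPt),
      (∀ h ∈ M24, h • semK 6 cfSextA = semK 6 cfSextA → h ∈ K) → r ∈ K → M24 ≤ K :=
  gen_clsB cmS cmN cmS_ok 6 cfSextA (0, 5517840) cmSextKH cmSext_k (codeAt 6 sextLE 1) 184 5505825
    (by decide +kernel) cmSextG1 68 58 63 67 (by decide +kernel) (by decide +kernel)

set_option maxRecDepth 100000 in
theorem cmSext_g7 : ∃ r ∈ M24, r • semK 6 cfSextA = semK 6 (codeAt 6 sextLE 7) ∧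
    ∀ K : Subgroup (Equiv.Perm GolayPt),
      (∀ h ∈ M24, h • semK 6 cfSextA = semK 6 cfSextA → h ∈ K) → r ∈ K → M24 ≤ K :=
  gen_clsB cmS cmN cmS_ok 6 cfSextA (0, 5517840) cmSextKH cmSext_k (codeAt 6 sextLE 7) 187 5321220
    (by decide +kernel) cmSextG7 77 68 73 76 (by decide +kernel) (by decide +kernel)

set_option maxRecDepth 100000 in
theorem cmTrio_k : ((0, 528) :: cmTrioKH).all (fun jp => Nat.blt jp.1 cmN &&
    stepK 3 (nodeTbl cmS jp.1) cfTrioA cfTrioA jp.2) = true := by decide +kernel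

set_option maxRecDepth 100000 in
theorem cmTrio_g1 : ∃ r ∈ M24, r • semK 3 cfTrioA = semK 3 (codeAt 3 trioLE 1) ∧
    ∀ K : Subgroup (Equiv.Perm GolayPt),
      (∀ h ∈ M24, h • semK 3 cfTrioA = semK 3 cfTrioA → h ∈ K) → r ∈ K → M24 ≤ K :=
  gen_clsB cmS cmN cmS_ok 3 cfTrioA (0, 528) cmTrioKH cmTrio_k (codeAt 3 trioLE 1) 213 513
    (by decide +kernel) cmTrioG1 81 70 76 80 (by decide +kernel) (by decide +kernel)

set_option maxRecDepth 100000 in
theorem cmTrio_g16 : ∃ r ∈ M24, r • semK 3 cfTrioA = semK 3 (codeAt 3 trioLE 16) ∧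
    ∀ K : Subgroup (Equiv.Perm GolayPt),
      (∀ h ∈ M24, h • semK 3 cfTrioA = semK 3 cfTrioA → h ∈ K) → r ∈ K → M24 ≤ K :=
  gen_clsB cmS cmN cmS_ok 3 cfTrioA (0, 528) cmTrioKH cmTrio_k (codeAt 3 trioLE 16) 209 258
    (by decide +kernel) cmTrioG16 73 63 69 72 (by decide +kernel) (by decide +kernel)

set_option maxRecDepth 100000 in
theorem cmTrio_g17 : ∃ r ∈ M24, r • semK 3 cfTrioA = semK 3 (codeAt 3 trioLE 17) ∧
    ∀ K : Subgroup (Equiv.Perm GolayPt),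
      (∀ h ∈ M24, h • semK 3 cfTrioA = semK 3 cfTrioA → h ∈ K) → r ∈ K → M24 ≤ K :=
  gen_clsB cmS cmN cmS_ok 3 cfTrioA (0, 528) cmTrioKH cmTrio_k (codeAt 3 trioLE 17) 185 528
    (by decide +kernel) cmTrioG17 67 57 62 66 (by decide +kernel) (by decide +kernel)

set_option maxRecDepth 100000 in
theorem cmTrio_g30 : ∃ r ∈ M24, r • semK 3 cfTrioA = semK 3 (codeAt 3 trioLE 30) ∧
    ∀ K : Subgroup (Equiv.Perm GolayPt),
      (∀ h ∈ M24, h • semK 3 cfTrioA = semK 3 cfTrioA → h ∈ K) → r ∈ K → M24 ≤ K :=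
  gen_clsB cmS cmN cmS_ok 3 cfTrioA (0, 528) cmTrioKH cmTrio_k (codeAt 3 trioLE 30) 211 528
    (by decide +kernel) cmTrioG30 77 68 73 76 (by decide +kernel) (by decide +kernel)

end Cfsg.Agent.Lib.Helper9.Leech
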