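import Cfsg.Agent.Lib.Helper9.Max3

set_option autoImplicit false
open Cfsg

namespace Cfsg.Agent.Lib.Helper9.Leech

open scoped Pointwise
open Cfsg.Agent.S5393 Cfsg.Agent.S5548

/-! ### codes: `k` masks packed in 24-bit fields -/

theorem ent_eq (E W i : ℕ) : ent E W i = (E >>> (W * i)) % 2 ^ W := rfl

theorem ent_lt (E W i : ℕ) : ent E W i < 2 ^ W := by
  rw [ent_eq]
  exact Nat.mod_lt _ (Nat.pos_of_ne_zero (by positivity))

def semK (k n : ℕ) : Finset (Finset GolayPt) :=
  (Finset.range k).image (fun i => bitsOf (ent n 24 i))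

theorem mem_semK (k n : ℕ) (t : Finset GolayPt) :
    t ∈ semK k n ↔ ∃ i < k, bitsOf (ent n 24 i) = t := by
  unfold semK
  rw [Finset.mem_image]
  constructor
  · rintro ⟨i, hi, h⟩
    exact ⟨i, Finset.mem_range.1 hi, h⟩
  · rintro ⟨i, hi, h⟩
    exact ⟨i, Finset.mem_range.2 hi, h⟩

def validK (k n : ℕ) : Bool :=
  allBelow (fun i => Nat.blt (ent n 24 i) (ent n 24 (Nat.add i 1))) (Nat.sub k 1)

theorem validK_lt (k n : ℕ) (h : validK k n = true) :
    ∀ j, ∀ i, i < j → j < k → ent n 24 i < ent n 24 j := by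
  have h1 := allBelow_spec _ _ h
  intro j
  induction j with
  | zero =>
    intro i hi _
    exact absurd hi (by simp)
  | succ j ih =>
    intro i hi hj
    have h2 : ent n 24 j < ent n 24 (j + 1) :=
      Nat.le_of_ble_eq_true (h1 j (by change j < k - 1; omega))
    rcases Nat.lt_succ_iff_lt_or_eq.1 hi with h3 | h3
    · exact lt_trans (ih i h3 (by omega)) h2
    · rw [h3]
      exact h2

theorem validK_inj (k n : ℕ) (h : validK k n = true) (i j : ℕ) (hi : i < k) (hj : j < k)
    (hij : bitsOf (ent n 24 i) = bitsOf (ent n 24 j)) : i = j := by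
  have h1 := bitsOf_inj _ _ (ent_lt n 24 i) (ent_lt n 24 j) hij
  rcases Nat.lt_trichotomy i j with h2 | h2 | h2
  · exact absurd h1 (ne_of_lt (validK_lt k n h j i h2 hj))
  · exact h2
  · exact absurd h1.symm (ne_of_lt (validK_lt k n h i j h2 hi))

theorem semK_card (k n : ℕ) (h : validK k n = true) : (semK k n).card = k := by
  unfold semK
  rw [Finset.card_image_of_injOn, Finset.card_range]
  intro i hi j hj hij
  exact validK_inj k n h i j (Finset.mem_range.1 hi) (Finset.mem_range.1 hj) hij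

def flds (k n : ℕ) : List ℕ := (List.range k).map (fun i => ent n 24 i)

theorem mem_flds (k n a : ℕ) : a ∈ flds k n ↔ ∃ i < k, ent n 24 i = a := by
  unfold flds
  rw [List.mem_map]
  constructor
  · rintro ⟨i, hi, h⟩
    exact ⟨i, List.mem_range.1 hi, h⟩
  · rintro ⟨i, hi, h⟩
    exact ⟨i, List.mem_range.2 hi, h⟩

theorem flds_pairwise (k n : ℕ) (h : validK k n = true) : (flds k n).Pairwise (· < ·) := by
  unfold flds
  rw [List.pairwise_map]
  have h1 : (List.range k).Pairwise (· < ·) := List.pairwise_lt_range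
  have h2 : (List.range k).Pairwise (fun a b => a < b ∧ b < k) := by
    have h3 := List.Pairwise.and_mem.1 h1
    exact h3.imp (fun ⟨_, hb, hab⟩ => ⟨hab, List.mem_range.1 hb⟩)
  exact h2.imp (fun ⟨hab, hb⟩ => validK_lt k n h _ _ hab hb)

theorem ent_testBit (n i r : ℕ) (hr : r < 24) :
    (ent n 24 i).testBit r = n.testBit (24 * i + r) := by
  rw [ent_eq, Nat.testBit_mod_two_pow, Nat.testBit_shiftRight]
  simp [hr]

theorem code_ext (k n m : ℕ) (hn : n < 2 ^ (24 * k)) (hm : m < 2 ^ (24 * k))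
    (h : ∀ i < k, ent n 24 i = ent m 24 i) : n = m := by
  apply Nat.eq_of_testBit_eq
  intro j
  by_cases hj : j < 24 * k
  · have h1 : j = 24 * (j / 24) + j % 24 := (Nat.div_add_mod j 24).symm
    have h2 : j / 24 < k := by omega
    have h3 : j % 24 < 24 := Nat.mod_lt _ (by decide)
    rw [h1, ← ent_testBit n _ _ h3, ← ent_testBit m _ _ h3, h _ h2]
  · have h1 : 2 ^ (24 * k) ≤ 2 ^ j := Nat.pow_le_pow_right (by decide) (by omega)
    rw [Nat.testBit_eq_false_of_lt (lt_of_lt_of_le hn h1),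
      Nat.testBit_eq_false_of_lt (lt_of_lt_of_le hm h1)]

theorem semK_inj (k n m : ℕ) (hn : validK k n = true) (hm : validK k m = true)
    (hn' : n < 2 ^ (24 * k)) (hm' : m < 2 ^ (24 * k)) (h : semK k n = semK k m) : n = m := by
  have hsub : ∀ a b : ℕ, semK k a = semK k b → ∀ x, x ∈ flds k a → x ∈ flds k b := by
    intro a b hab x hx
    obtain ⟨i, hi, rfl⟩ := (mem_flds k a x).1 hx
    have h1 : bitsOf (ent a 24 i) ∈ semK k b := by
      rw [← hab]
      exact (mem_semK k a _).2 ⟨i, hi, rfl⟩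
    obtain ⟨j, hj, hje⟩ := (mem_semK k b _).1 h1
    rw [mem_flds]
    exact ⟨j, hj, bitsOf_inj _ _ (ent_lt b 24 j) (ent_lt a 24 i) hje⟩
  have h1 : flds k n = flds k m :=
    List.Pairwise.eq_of_mem_iff (flds_pairwise k n hn) (flds_pairwise k m hm)
      (fun x => ⟨hsub n m h x, hsub m n h.symm x⟩)
  apply code_ext k n m hn' hm'
  intro i hi
  have h2 : (flds k n)[i]? = (flds k m)[i]? := by rw [h1]
  unfold flds at h2
  rw [List.getElem?_map, List.getElem?_map, List.getElem?_range hi] at h2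
  exact Option.some.inj h2

/-! ### action on codes, with a hint for the matching of the fields -/

def stepK (k t a b p : ℕ) : Bool :=
  validK k a && (validK k b && allBelow (fun i => forceN (ent p 4 i) (fun j =>
    Nat.blt j k && stepN t (ent a 24 i) (ent b 24 j))) k)

theorem stepK_smul (g : Equiv.Perm GolayPt) (k t : ℕ) (hg : TblP g (tblOf t)) (a b p : ℕ)
    (h : stepK k t a b p = true) : g • semK k a = semK k b := by
  unfold stepK at h
  simp only [Bool.and_eq_true] at h
  obtain ⟨ha, hb, hs⟩ := h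
  have hs' := allBelow_spec _ k hs
  apply Finset.eq_of_subset_of_card_le
  · intro u hu
    obtain ⟨t', ht', rfl⟩ := Finset.mem_smul_finset.1 hu
    obtain ⟨i, hi, rfl⟩ := (mem_semK k a t').1 ht'
    have h1 := hs' i hi
    rw [forceN_eq, Bool.and_eq_true] at h1
    rw [mem_semK]
    exact ⟨_, Nat.le_of_ble_eq_true h1.1, (stepN_smul g t hg _ _ h1.2).symm⟩
  · rw [Finset.card_smul_finset, semK_card k a ha, semK_card k b hb]

/-- tree entries for codes: (code, hint), root, parent, generator, depth -/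
def decK (k c : ℕ) : (ℕ × ℕ) × ℕ × ℕ × ℕ × ℕ :=
  ((Nat.mod c (Nat.pow 2 (Nat.mul 24 k)),
      Nat.mod (Nat.shiftRight c (Nat.mul 24 k)) (Nat.pow 2 (Nat.mul 4 k))),
    Nat.mod (Nat.shiftRight c (Nat.mul 28 k)) 4096,
    Nat.mod (Nat.shiftRight c (Nat.add (Nat.mul 28 k) 12)) 4096,
    Nat.mod (Nat.shiftRight c (Nat.add (Nat.mul 28 k) 24)) 256,
    Nat.shiftRight c (Nat.add (Nat.mul 28 k) 32))

def stepKO (k t : ℕ) (a b : ℕ × ℕ) : Bool := stepK k t a.1 b.1 b.2

theorem stepKO_smul (k : ℕ) (g : Equiv.Perm GolayPt) (t : ℕ) (hg : TblP g (tblOf t))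
    (a b : ℕ × ℕ) (h : stepKO k t a b = true) : g • semK k a.1 = semK k b.1 :=
  stepK_smul g k t hg a.1 b.1 b.2 h

end Cfsg.Agent.Lib.Helper9.Leech
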