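import Cfsg.Agent.Lib.Helper9.Code

set_option autoImplicit false
open Cfsg

namespace Cfsg.Agent.Lib.Helper9.Leech

open scoped Pointwise
open Cfsg.Agent.S5393 Cfsg.Agent.S5548

/-! ### closure of a coded family under the group -/

theorem closed_of_gens (k : ℕ) (P : ℕ → Prop)
    (h : ∀ s ∈ ({shift 1, projInv, cubeTwist} : Set (Equiv.Perm GolayPt)), ∀ n, P n →
      ∃ n', P n' ∧ s • semK k n = semK k n')
    (L : List ℕ) (hL : ∀ n, P n ↔ n ∈ L) :
    ∀ g ∈ M24, ∀ n, P n → ∃ n', P n' ∧ g • semK k n = semK k n' := by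
  classical
  have hA : ∀ X, X ∈ (L.map (semK k)).toFinset ↔ ∃ n, P n ∧ semK k n = X := by
    intro X
    rw [List.mem_toFinset, List.mem_map]
    constructor
    · rintro ⟨n, hn, h1⟩
      exact ⟨n, (hL n).2 hn, h1⟩
    · rintro ⟨n, hn, h1⟩
      exact ⟨n, (hL n).1 hn, h1⟩
  have hs : ∀ s ∈ ({shift 1, projInv, cubeTwist} : Set (Equiv.Perm GolayPt)),
      s ∈ MulAction.stabilizer (Equiv.Perm GolayPt) (L.map (semK k)).toFinset := by
    intro s hs
    rw [MulAction.mem_stabilizer_iff]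
    apply Finset.eq_of_subset_of_card_le
    · intro X hX
      obtain ⟨Y, hY, rfl⟩ := Finset.mem_smul_finset.1 hX
      obtain ⟨n, hn, rfl⟩ := (hA Y).1 hY
      obtain ⟨n', hn', he⟩ := h s hs n hn
      rw [he]
      exact (hA _).2 ⟨n', hn', rfl⟩
    · rw [Finset.card_smul_finset]
  have hM : M24 ≤ MulAction.stabilizer (Equiv.Perm GolayPt) (L.map (semK k)).toFinset := by
    rw [M24_eq_Gcl]
    unfold Gcl
    rw [Subgroup.closure_le]
    exact hs
  intro g hg n hn
  have h1 : g • semK k n ∈ g • (L.map (semK k)).toFinset :=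
    Finset.smul_mem_smul_finset ((hA _).2 ⟨n, hn, rfl⟩)
  rw [MulAction.mem_stabilizer_iff.1 (hM hg)] at h1
  obtain ⟨n', hn', he⟩ := (hA _).1 h1
  exact ⟨n', hn', he.symm⟩

/-- Nat encodings of the three generators -/
def tS : ℕ := 0xb82d5a4e5183dcd62d4941cc520c41
def tP : ℕ := 0x5883388a1c8f5140b46cd317aed7
def tC : ℕ := 0xbba8ab116d7c52899d90286a219a40

theorem tS_tbl : TblP (shift 1) (tblOf tS) := by
  have h : tblOf tS = genT.getD 1 [] := by decide +kernel
  rw [h]
  exact shift_one_tbl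

theorem tP_tbl : TblP projInv (tblOf tP) := by
  have h : tblOf tP = genT.getD 3 [] := by decide +kernel
  rw [h]
  exact proj_tbl'

theorem tC_tbl : TblP cubeTwist (tblOf tC) := by
  have h : tblOf tC = genT.getD 4 [] := by decide +kernel
  rw [h]
  exact cube_tbl'

/-! ### families stored in arrays -/

def codeAt (k LE i : ℕ) : ℕ := ent LE (Nat.mul 24 k) i

theorem codeAt_lt (k LE i : ℕ) : codeAt k LE i < 2 ^ (24 * k) := ent_lt LE (24 * k) i

def edgeOK (k LE N t a e : ℕ) : Bool :=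
  forceN (Nat.mod e 4096) (fun j => Nat.blt j N &&
    forceN (codeAt k LE j) (fun b => stepK k t a b (Nat.shiftRight e 12)))

theorem edgeOK_spec (g : Equiv.Perm GolayPt) (k LE N t : ℕ) (hg : TblP g (tblOf t)) (a e : ℕ)
    (h : edgeOK k LE N t a e = true) : ∃ j < N, g • semK k a = semK k (codeAt k LE j) := by
  unfold edgeOK at h
  rw [forceN_eq, Bool.and_eq_true, forceN_eq] at h
  exact ⟨_, Nat.le_of_ble_eq_true h.1, stepK_smul g k t hg _ _ _ h.2⟩

def closeChk (k LE N CE : ℕ) : Bool :=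
  allBelow (fun i => forceN (codeAt k LE i) (fun a =>
    forceN (ent CE 40 (Nat.mul 3 i)) (fun e0 => edgeOK k LE N tS a e0) &&
    (forceN (ent CE 40 (Nat.add (Nat.mul 3 i) 1)) (fun e1 => edgeOK k LE N tP a e1) &&
      forceN (ent CE 40 (Nat.add (Nat.mul 3 i) 2)) (fun e2 => edgeOK k LE N tC a e2)))) N

theorem closeChk_spec (k LE N CE : ℕ) (h : closeChk k LE N CE = true) :
    ∀ g ∈ M24, ∀ i < N, ∃ j < N, g • semK k (codeAt k LE i) = semK k (codeAt k LE j) := by
  have hall := allBelow_spec _ N h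
  have h1 := closed_of_gens k (fun n => ∃ i < N, codeAt k LE i = n) (by
    intro s hs n hn
    obtain ⟨i, hi, rfl⟩ := hn
    have h2 := hall i hi
    simp only [forceN_eq, Bool.and_eq_true] at h2
    obtain ⟨h3, h4, h5⟩ := h2
    simp only [Set.mem_insert_iff, Set.mem_singleton_iff] at hs
    rcases hs with rfl | rfl | rfl
    · obtain ⟨j, hj, he⟩ := edgeOK_spec _ k LE N tS tS_tbl _ _ h3
      exact ⟨_, ⟨j, hj, rfl⟩, he⟩
    · obtain ⟨j, hj, he⟩ := edgeOK_spec _ k LE N tP tP_tbl _ _ h4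
      exact ⟨_, ⟨j, hj, rfl⟩, he⟩
    · obtain ⟨j, hj, he⟩ := edgeOK_spec _ k LE N tC tC_tbl _ _ h5
      exact ⟨_, ⟨j, hj, rfl⟩, he⟩) ((List.range N).map (codeAt k LE)) (by
    intro n
    rw [List.mem_map]
    constructor
    · rintro ⟨i, hi, rfl⟩
      exact ⟨i, List.mem_range.2 hi, rfl⟩
    · rintro ⟨i, hi, rfl⟩
      exact ⟨i, List.mem_range.1 hi, rfl⟩)
  intro g hg i hi
  obtain ⟨n', ⟨j, hj, rfl⟩, he⟩ := h1 g hg _ ⟨i, hi, rfl⟩
  exact ⟨j, hj, he⟩

def famChk (k LE N : ℕ) : Bool :=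
  allBelow (fun i => forceN (codeAt k LE i) (fun a =>
    validK k a && Nat.blt a (codeAt k LE (Nat.add i 1)))) (Nat.sub N 1) &&
    validK k (codeAt k LE (Nat.sub N 1))

theorem famChk_valid (k LE N : ℕ) (h : famChk k LE N = true) :
    ∀ i < N, validK k (codeAt k LE i) = true := by
  unfold famChk at h
  rw [Bool.and_eq_true] at h
  have hall := allBelow_spec _ _ h.1
  intro i hi
  by_cases h1 : i < N - 1
  · have h2 := hall i h1
    rw [forceN_eq, Bool.and_eq_true] at h2
    exact h2.1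
  · have h2 : i = N - 1 := by omega
    rw [h2]
    exact h.2

theorem famChk_lt (k LE N : ℕ) (h : famChk k LE N = true) :
    ∀ j, ∀ i, i < j → j < N → codeAt k LE i < codeAt k LE j := by
  unfold famChk at h
  rw [Bool.and_eq_true] at h
  have hall := allBelow_spec _ _ h.1
  intro j
  induction j with
  | zero =>
    intro i hi _
    exact absurd hi (by simp)
  | succ j ih =>
    intro i hi hj
    have h2 := hall j (by change j < N - 1; omega)
    rw [forceN_eq, Bool.and_eq_true] at h2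
    have h3 : codeAt k LE j < codeAt k LE (j + 1) := Nat.le_of_ble_eq_true h2.2
    rcases Nat.lt_succ_iff_lt_or_eq.1 hi with h4 | h4
    · exact lt_trans (ih i h4 (by omega)) h3
    · rw [h4]
      exact h3

theorem fam_inj (k LE N : ℕ) (h : famChk k LE N = true) (i j : ℕ) (hi : i < N) (hj : j < N)
    (hij : semK k (codeAt k LE i) = semK k (codeAt k LE j)) : i = j := by
  have h1 := semK_inj k _ _ (famChk_valid k LE N h i hi) (famChk_valid k LE N h j hj)
    (codeAt_lt k LE i) (codeAt_lt k LE j) hij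
  rcases Nat.lt_trichotomy i j with h2 | h2 | h2
  · exact absurd h1 (ne_of_lt (famChk_lt k LE N h j i h2 hj))
  · exact h2
  · exact absurd h1.symm (ne_of_lt (famChk_lt k LE N h i j h2 hi))

/-! ### trees on coded families -/

def rootAt (k E W i : ℕ) : ℕ := (decK k (ent E W i)).2.1

def treeCodes (k E W N LE : ℕ) : Bool :=
  allBelow (fun i => forceN (ent E W i) (fun c =>
    Nat.beq (decK k c).1.1 (codeAt k LE i) && Nat.blt (decK k c).2.1 N)) N

theorem ktree (K : Subgroup (Equiv.Perm GolayPt)) (k : ℕ) (T : ℕ → ℕ)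
    (hT : ∀ gi, ∃ g ∈ K, TblP g (tblOf (T gi))) (E W N LE : ℕ)
    (h : treeOKN (stepKO k) T (decK k) (ent E W) N = true)
    (hc : treeCodes k E W N LE = true) :
    ∀ i < N, rootAt k E W i < N ∧
      ∃ g ∈ K, g • semK k (codeAt k LE (rootAt k E W i)) = semK k (codeAt k LE i) := by
  have hall := allBelow_spec _ N hc
  have hcode : ∀ i < N, (decK k (ent E W i)).1.1 = codeAt k LE i ∧ rootAt k E W i < N := by
    intro i hi
    have h1 := hall i hi
    rw [forceN_eq, Bool.and_eq_true] at h1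
    exact ⟨Nat.eq_of_beq_eq_true h1.1, Nat.le_of_ble_eq_true h1.2⟩
  intro i hi
  refine ⟨(hcode i hi).2, ?_⟩
  obtain ⟨g, hg, hgr⟩ := tree_reach K (fun a : ℕ × ℕ => semK k a.1) (stepKO k)
    (fun g t hg a b hs => stepKO_smul k g t hg a b hs) T hT (decK k) (ent E W) N h _ i hi rfl
  refine ⟨g, hg, ?_⟩
  have h2 : (decK k (ent E W (decK k (ent E W i)).2.1)).1.1 = codeAt k LE (rootAt k E W i) :=
    (hcode _ (hcode i hi).2).1
  change g • semK k (decK k (ent E W (decK k (ent E W i)).2.1)).1.1 =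
    semK k (decK k (ent E W i)).1.1 at hgr
  rw [h2, (hcode i hi).1] at hgr
  exact hgr

def genN (gi : ℕ) : ℕ := cond (Nat.beq gi 0) tS (cond (Nat.beq gi 1) tP tC)

theorem genN_valid : ∀ gi, ∃ g ∈ M24, TblP g (tblOf (genN gi)) := by
  intro gi
  unfold genN
  cases h0 : Nat.beq gi 0 with
  | true => exact ⟨shift 1, shift_mem 1, tS_tbl⟩
  | false =>
    cases h1 : Nat.beq gi 1 with
    | true => exact ⟨projInv, projInv_mem, tP_tbl⟩
    | false => exact ⟨cubeTwist, cubeTwist_mem, tC_tbl⟩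

/-- the whole array is one orbit of the group, through entry 0 -/
theorem fam_orbit (k FE W N LE : ℕ)
    (h : treeOKN (stepKO k) genN (decK k) (ent FE W) N = true)
    (hc : treeCodes k FE W N LE = true)
    (hr : allBelow (fun i => Nat.beq (rootAt k FE W i) 0) N = true) :
    ∀ i < N, ∃ g ∈ M24, g • semK k (codeAt k LE 0) = semK k (codeAt k LE i) := by
  intro i hi
  obtain ⟨_, g, hg, he⟩ := ktree M24 k genN genN_valid FE W N LE h hc i hi
  rw [Nat.eq_of_beq_eq_true (allBelow_spec _ N hr i hi)] at he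
  exact ⟨g, hg, he⟩

/-! ### counting and small semantic lemmas -/

theorem ncard_famG {γ : Type*} (F : Set γ) (N : ℕ) (sem : ℕ → γ)
    (hF : ∀ X, X ∈ F ↔ ∃ i < N, sem i = X)
    (hinj : ∀ i < N, ∀ j < N, sem i = sem j → i = j)
    (Q : γ → Prop) (q : ℕ → Bool) (hq : ∀ i < N, Q (sem i) ↔ q i = true) :
    {X | X ∈ F ∧ Q X}.ncard = ((List.range N).filter q).length := by
  have h1 : {X | X ∈ F ∧ Q X} = sem '' {i | i ∈ (List.range N).filter q} := by
    ext X
    constructor
    · rintro ⟨hX, hQ⟩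
      obtain ⟨i, hi, rfl⟩ := (hF X).1 hX
      exact ⟨i, List.mem_filter.2 ⟨List.mem_range.2 hi, (hq i hi).1 hQ⟩, rfl⟩
    · rintro ⟨i, hi, rfl⟩
      have h2 := List.mem_filter.1 hi
      have hi' := List.mem_range.1 h2.1
      exact ⟨(hF _).2 ⟨i, hi', rfl⟩, (hq i hi').2 h2.2⟩
  rw [h1, Set.InjOn.ncard_image, ncard_list _ (List.Nodup.filter _ List.nodup_range)]
  intro i hi j hj hij
  exact hinj i (List.mem_range.1 (List.mem_filter.1 hi).1) j
    (List.mem_range.1 (List.mem_filter.1 hj).1) hij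

theorem ncard_enum (F : Set (Finset (Finset GolayPt))) (k LE N : ℕ)
    (hF : ∀ X, X ∈ F ↔ ∃ i < N, semK k (codeAt k LE i) = X) (hchk : famChk k LE N = true) :
    F.ncard = N := by
  have h := ncard_famG F N (fun i => semK k (codeAt k LE i)) hF
    (fun i hi j hj hij => fam_inj k LE N hchk i j hi hj hij) (fun _ => True) (fun _ => true)
    (fun _ _ => by simp)
  have h2 : {X | X ∈ F ∧ True} = F := by
    ext X
    simp
  rw [h2] at h
  rw [h, List.filter_true, List.length_range]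

theorem bitsOf_list (m : ℕ) :
    bitsOf m = (((List.range 24).filter (fun j => m.testBit j)).map ptOf).toFinset := by
  ext p
  rw [mem_bitsOf, List.mem_toFinset, List.mem_map]
  constructor
  · intro h
    exact ⟨idx p, List.mem_filter.2 ⟨List.mem_range.2 (idx_lt p), h⟩, ptOf_idx p⟩
  · rintro ⟨j, hj, rfl⟩
    have h1 := List.mem_filter.1 hj
    rw [idx_ptOf j (List.mem_range.1 h1.1)]
    exact h1.2

theorem smul_toFinset (σ : Equiv.Perm GolayPt) (xs ys : List GolayPt)
    (hlen : xs.length = ys.length)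
    (h : ∀ i (hi : i < xs.length), σ (xs[i]) = ys[i]'(hlen ▸ hi)) :
    σ • xs.toFinset = ys.toFinset := by
  ext p
  rw [List.mem_toFinset]
  constructor
  · intro hp
    obtain ⟨q, hq, rfl⟩ := Finset.mem_smul_finset.1 hp
    obtain ⟨i, hi, rfl⟩ := List.mem_iff_getElem.1 (List.mem_toFinset.1 hq)
    change σ (xs[i]) ∈ ys
    rw [h i hi]
    exact List.getElem_mem _
  · intro hp
    obtain ⟨i, hi, rfl⟩ := List.mem_iff_getElem.1 hp
    have hi' : i < xs.length := hlen ▸ hi
    rw [← h i hi']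
    exact Finset.smul_mem_smul_finset (List.mem_toFinset.2 (List.getElem_mem _))

theorem bitsOf_or (a b : ℕ) : bitsOf a ∪ bitsOf b = bitsOf (a ||| b) := by
  ext p
  rw [Finset.mem_union, mem_bitsOf, mem_bitsOf, mem_bitsOf, Nat.testBit_or, Bool.or_eq_true]

end Cfsg.Agent.Lib.Helper9.Leech
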