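import Cfsg.Agent.Lib.Helper9.Srch
import Cfsg.Agent.Lib.Helper9.Cls3

set_option autoImplicit false
open Cfsg

namespace Cfsg.Agent.Lib.Helper9.Leech

open scoped Pointwise
open Cfsg.Agent.S5393 Cfsg.Agent.S5548

/-! ### table criteria -/

theorem comm_iff_tbl (g h : Equiv.Perm GolayPt) (t s : ℕ) (hg : TblP g (tblOf t))
    (hh : TblP h (tblOf s)) :
    g * h = h * g ↔ all24 (fun i => Nat.beq (fld t (fld s i)) (fld s (fld t i))) = true := by
  constructor
  · intro he
    apply all24_of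
    intro i hi
    rw [beq_iff]
    have h1 : idx ((g * h) (ptOf i)) = idx ((h * g) (ptOf i)) := by rw [he]
    simp only [Equiv.Perm.mul_apply, TblP_idx g t hg, TblP_idx h s hh, idx_ptOf i hi] at h1
    exact h1
  · intro hall
    apply Equiv.ext
    intro p
    apply idx_inj
    simp only [Equiv.Perm.mul_apply, TblP_idx g t hg, TblP_idx h s hh]
    exact Nat.eq_of_beq_eq_true (all24_spec _ hall _ (idx_lt p))

theorem pow_iff_tbl (g : Equiv.Perm GolayPt) (t m : ℕ) (hg : TblP g (tblOf t)) :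
    g ^ m = 1 ↔ all24 (fun i => Nat.beq (powFld t m i) i) = true := by
  constructor
  · intro he
    apply all24_of
    intro i hi
    rw [beq_iff]
    have h2 := powFld_spec g t hg m (ptOf i)
    rw [he, idx_ptOf i hi] at h2
    have h3 : idx ((1 : Equiv.Perm GolayPt) (ptOf i)) = i := idx_ptOf i hi
    rw [h3] at h2
    exact h2.symm
  · intro hall
    exact pow_one_of_tbl g t m hg (fun i hi => Nat.eq_of_beq_eq_true (all24_spec _ hall i hi))

theorem fpf_iff_tbl (g : Equiv.Perm GolayPt) (t : ℕ) (hg : TblP g (tblOf t)) :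
    (∀ p, g p ≠ p) ↔ all24 (fun i => !(Nat.beq (fld t i) i)) = true := by
  constructor
  · intro h
    apply all24_of
    intro i hi
    cases hq : Nat.beq (fld t i) i with
    | false => rfl
    | true =>
      exfalso
      apply h (ptOf i)
      rw [tbl_fix_iff g t hg, idx_ptOf i hi]
      exact Nat.eq_of_beq_eq_true hq
  · intro hall p hp
    have h1 := all24_spec _ hall _ (idx_lt p)
    rw [(beq_iff _ _).2 ((tbl_fix_iff g t hg p).1 hp)] at h1
    exact absurd h1 (by decide)

theorem conj_nofp (k s : Equiv.Perm GolayPt) (h : ∀ p, s p ≠ p) : ∀ p, (k * s * k⁻¹) p ≠ p := by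
  intro p hp
  apply h (k⁻¹ p)
  have h1 : (k * s * k⁻¹) p = k (s (k⁻¹ p)) := rfl
  rw [h1] at hp
  have h2 : k⁻¹ (k (s (k⁻¹ p))) = s (k⁻¹ p) := by
    change k.symm (k _) = _
    rw [Equiv.symm_apply_apply]
  rw [← h2, hp]

/-! ### no fixed-point-free involution commutes with an element of order three having
fixed points -/

def zT : ℕ := ent u6A 120 1

def locZ (d _a y : ℕ) : Bool :=
  Nat.beq d 6 || (Nat.beq (fld zT y) y && !(Nat.beq y (baseL.getD d 0)))

def passZ (t : ℕ) : Bool :=
  all24 (fun i => Nat.beq (fld t (fld zT i)) (fld zT (fld t i))) &&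
    (all24 (fun i => Nat.beq (powFld t 2 i) i) && all24 (fun i => !(Nat.beq (fld t i) i)))

set_option maxRecDepth 100000 in
theorem srchZ : srch locZ passZ srLv 0 idN = 0 := by decide +kernel

theorem zfix : ∀ d < 6, fld zT (baseL.getD d 0) = baseL.getD d 0 := by decide +kernel

theorem z_cube : ∀ i < 24, powFld zT 3 i = i := by decide +kernel

theorem z_moved : ∃ i < 24, fld zT i ≠ i := by decide +kernel

theorem no_fpf_inv_comm_z (z : Equiv.Perm GolayPt) (hz : TblP z (tblOf zT)) :
    ∀ s ∈ M24, s * z = z * s → s ^ 2 = 1 → (∀ p, s p ≠ p) → False := by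
  have hcnt := m24_count (fun g => g * z = z * g ∧ g ^ 2 = 1 ∧ ∀ p, g p ≠ p) locZ passZ
    (by
      intro g _ t hg
      unfold passZ
      rw [Bool.and_eq_true, Bool.and_eq_true, ← comm_iff_tbl g z t zT hg hz,
        ← pow_iff_tbl g t 2 hg, ← fpf_iff_tbl g t hg])
    (by
      rintro g _ ⟨hcomm, _, hfpf⟩ d hd a _
      unfold locZ
      rw [Bool.or_eq_true]
      by_cases h6 : d = 6
      · left
        rw [h6]
        rfl
      · right
        rw [Bool.and_eq_true]
        have hb := getD_lt d hd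
        have hzb : fld zT (baseL.getD d 0) = baseL.getD d 0 := zfix d (by omega)
        constructor
        · rw [beq_iff]
          have h1 : z (ptOf (baseL.getD d 0)) = ptOf (baseL.getD d 0) := by
            apply idx_inj
            rw [TblP_idx z zT hz, idx_ptOf _ hb, hzb]
          have h2 : (g * z) (ptOf (baseL.getD d 0)) = (z * g) (ptOf (baseL.getD d 0)) := by
            rw [hcomm]
          rw [Equiv.Perm.mul_apply, Equiv.Perm.mul_apply, h1] at h2
          rw [← TblP_idx z zT hz, ← h2]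
        · cases hq : Nat.beq (idx (g (ptOf (baseL.getD d 0)))) (baseL.getD d 0) with
          | false => rfl
          | true =>
            exfalso
            apply hfpf (ptOf (baseL.getD d 0))
            rw [← ptOf_idx (g (ptOf (baseL.getD d 0))), Nat.eq_of_beq_eq_true hq])
  rw [srchZ, Set.ncard_eq_zero (Set.toFinite _)] at hcnt
  intro s hs h1 h2 h3
  have hmem : s ∈ {g | g ∈ M24 ∧ (g * z = z * g ∧ g ^ 2 = 1 ∧ ∀ p, g p ≠ p)} := ⟨hs, h1, h2, h3⟩
  rw [hcnt] at hmem
  exact hmem

/-! ### an element of order three without fixed points cannot commute with an involution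
fixing eight points -/

theorem no_fpf3_on_fix8 (x s : Equiv.Perm GolayPt) (hx3 : x ^ 3 = 1) (hfpf : ∀ p, x p ≠ p)
    (hc : Commute x s) (h8 : (Finset.univ.filter fun p => s p = p).card = 8) : False := by
  have : Fact (Nat.Prime 3) := ⟨by norm_num⟩
  have hO : ∀ p, x p ∈ (Finset.univ.filter fun p => s p = p) ↔
      p ∈ (Finset.univ.filter fun p => s p = p) := by
    intro p
    rw [Finset.mem_filter, Finset.mem_filter]
    have h1 : s (x p) = x (s p) := by
      have h2 : (x * s) p = (s * x) p := by rw [hc.eq]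
      exact h2.symm
    rw [h1]
    simp
  have hσ : (x.subtypePerm hO) ^ 3 ^ 1 = 1 := by
    rw [pow_one, Equiv.Perm.subtypePerm_pow]
    ext q
    simp [hx3]
  have h1 := Equiv.Perm.card_compl_support_modEq hσ
  have h2 : (x.subtypePerm hO).supportᶜ = ∅ := by
    ext q
    simp only [Finset.mem_compl, Equiv.Perm.mem_support, not_not, Finset.notMem_empty,
      iff_false]
    intro hq
    apply hfpf q.1
    have h3 := congrArg Subtype.val hq
    exact h3
  rw [h2, Finset.card_empty, Fintype.card_coe, h8] at h1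
  exact absurd h1 (by decide)

theorem o3A_card (K g : Equiv.Perm GolayPt)
    (h : TblP (K * g * K⁻¹) (tblOf (ent o3REP 120 0))) :
    (Finset.univ.filter fun p => g p = p).card = 6 := by
  obtain ⟨mask, hm, hfix⟩ := o3A_fix
  rw [fixF_conj K g, fixF_tbl _ _ mask h hfix, Finset.card_smul_finset, card_bitsOf, hm]

theorem nofp_card (g : Equiv.Perm GolayPt) (h : ∀ p, g p ≠ p) :
    (Finset.univ.filter fun p => g p = p).card = 0 :=
  Finset.card_eq_zero.2 (Finset.filter_eq_empty_iff.2 (fun p _ => h p))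

theorem s5608 (x s : Equiv.Perm GolayPt) (hx : x ∈ M24) (hs : s ∈ M24) (h₃ : orderOf x = 3)
    (h₂ : orderOf s = 2) (hc : Commute x s) :
    ((Finset.univ.filter fun p => x p = p).card = 6 ∧
      (Finset.univ.filter fun p => s p = p).card = 8) ∨
    ((Finset.univ.filter fun p => x p = p).card = 0 ∧
      (Finset.univ.filter fun p => s p = p).card = 0) := by
  obtain ⟨Kx, hKx, cx, hcx, hKxt⟩ := o3_class x hx (order_three x h₃).1 (order_three x h₃).2
  obtain ⟨Ks, hKs, cs, hcs, hKst⟩ := inv_class s hs (order_two s h₂).1 (order_two s h₂).2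
  interval_cases cx <;> interval_cases cs
  · left
    exact ⟨o3A_card Kx x hKxt, octad_card _ (invA_fixoct Ks s hKs hKst)⟩
  · exfalso
    obtain ⟨z, hzM, hzt, hzfix⟩ := lev6.1 1 (by norm_num)
    obtain ⟨i, hi, hne⟩ := z_moved
    have hz3 : z ^ 3 = 1 := pow_one_of_tbl z zT 3 hzt z_cube
    obtain ⟨Kz, hKz, cz, hcz, hKzt⟩ := o3_class z hzM hz3 (ne_one_of_tbl z zT i hzt hi hne)
    have hcz0 : cz = 0 := by
      interval_cases cz
      · rfl
      · exfalso
        exact nofp_of_conj Kz z _ hKzt o3B_nofix (ptOf 23) (hzfix 23 (by decide))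
    subst hcz0
    have hconj := conj_of_same x z Kx Kz _ hKxt hKzt
    have hk : Kz⁻¹ * Kx ∈ M24 := mul_mem (inv_mem hKz) hKx
    subst hconj
    refine no_fpf_inv_comm_z _ hzt ((Kz⁻¹ * Kx) * s * (Kz⁻¹ * Kx)⁻¹) (conj_mem _ s hk hs) ?_ ?_
      (conj_nofp _ s (nofp_of_conj Ks s _ hKst invB_nofix))
    · have e1 : (Kz⁻¹ * Kx) * s * (Kz⁻¹ * Kx)⁻¹ * ((Kz⁻¹ * Kx) * x * (Kz⁻¹ * Kx)⁻¹) =
          (Kz⁻¹ * Kx) * (s * x) * (Kz⁻¹ * Kx)⁻¹ := by group
      have e2 : (Kz⁻¹ * Kx) * x * (Kz⁻¹ * Kx)⁻¹ * ((Kz⁻¹ * Kx) * s * (Kz⁻¹ * Kx)⁻¹) =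
          (Kz⁻¹ * Kx) * (x * s) * (Kz⁻¹ * Kx)⁻¹ := by group
      rw [e1, e2, hc.eq]
    · rw [conj_pow, (order_two s h₂).1]
      group
  · exfalso
    exact no_fpf3_on_fix8 x s (order_three x h₃).1 (nofp_of_conj Kx x _ hKxt o3B_nofix) hc
      (octad_card _ (invA_fixoct Ks s hKs hKst))
  · right
    exact ⟨nofp_card x (nofp_of_conj Kx x _ hKxt o3B_nofix),
      nofp_card s (nofp_of_conj Ks s _ hKst invB_nofix)⟩

end Cfsg.Agent.Lib.Helper9.Leech
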