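import Cfsg.Agent.Lib.Helper9.SimpGroups

set_option autoImplicit false
open Cfsg

namespace Cfsg.Agent.Lib.Helper9.Leech

open scoped Pointwise
open Cfsg.Agent.S5393 Cfsg.Agent.S5548

/-! ### kernel-performance helpers: Nat-encoded arrays -/

def forceN {β : Type} (n : ℕ) (k : ℕ → β) : β :=
  match n with
  | 0 => k 0
  | Nat.succ m => k (Nat.succ m)

theorem forceN_eq {β : Type} (n : ℕ) (k : ℕ → β) : forceN n k = k n := by
  cases n <;> rfl

def ent (E W i : ℕ) : ℕ := Nat.mod (Nat.shiftRight E (Nat.mul W i)) (Nat.pow 2 W)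

def allBelow (p : ℕ → Bool) : ℕ → Bool
  | 0 => true
  | k + 1 => p k && allBelow p k

theorem allBelow_spec (p : ℕ → Bool) : ∀ n, allBelow p n = true → ∀ i < n, p i = true := by
  intro n
  induction n with
  | zero =>
    intro _ i hi
    exact absurd hi (by simp)
  | succ n ih =>
    intro h i hi
    rw [allBelow, Bool.and_eq_true] at h
    rcases Nat.lt_succ_iff_lt_or_eq.1 hi with h1 | h1
    · exact ih h.2 i h1
    · rw [h1]
      exact h.1

def all24 (p : ℕ → Bool) : Bool :=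
  p 0 && p 1 && p 2 && p 3 && p 4 && p 5 && p 6 && p 7 && p 8 && p 9 && p 10 && p 11 &&
    p 12 && p 13 && p 14 && p 15 && p 16 && p 17 && p 18 && p 19 && p 20 && p 21 && p 22 && p 23

theorem all24_spec (p : ℕ → Bool) (h : all24 p = true) : ∀ i < 24, p i = true := by
  unfold all24 at h
  simp only [Bool.and_eq_true] at h
  intro i hi
  interval_cases i <;> simp only [h]

/-- field `i` of a Nat-encoded permutation table (5 bits per entry) -/
def fld (t i : ℕ) : ℕ := Nat.mod (Nat.shiftRight t (Nat.mul 5 i)) 32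

def tblOf (tn : ℕ) : List ℕ := r24.map (fld tn)

theorem tblOf_getD (tn i : ℕ) (hi : i < 24) : (tblOf tn).getD i 0 = fld tn i :=
  r24_map_getD _ i hi

theorem r24_lt : ∀ i ∈ r24, i < 24 := by decide

def stepN (tn a b : ℕ) : Bool :=
  forceN a (fun a' => forceN b (fun b' => all24 (fun i =>
    Nat.beq (Nat.mod (Nat.shiftRight b' (fld tn i)) 2) (Nat.mod (Nat.shiftRight a' i) 2))))

theorem stepN_stepT (tn a b : ℕ) (h : stepN tn a b = true) : stepT (tblOf tn) a b = true := by
  unfold stepN at h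
  rw [forceN_eq, forceN_eq] at h
  have h1 := all24_spec _ h
  unfold stepT
  rw [List.all_eq_true]
  intro i hi
  rw [tblOf_getD tn i (r24_lt i hi)]
  exact h1 i (r24_lt i hi)

theorem stepN_smul (g : Equiv.Perm GolayPt) (tn : ℕ) (h : TblP g (tblOf tn)) (a b : ℕ)
    (hs : stepN tn a b = true) : g • bitsOf a = bitsOf b :=
  stepT_smul g _ h a b (stepN_stepT tn a b hs)

def mulChk (t a b : ℕ) : Bool := all24 (fun i => Nat.beq (fld t i) (fld a (fld b i)))

def invChk (a t : ℕ) : Bool := all24 (fun i => Nat.beq (fld t (fld a i)) i)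

theorem TblP_idx (g : Equiv.Perm GolayPt) (tn : ℕ) (h : TblP g (tblOf tn)) (p : GolayPt) :
    idx (g p) = fld tn (idx p) := by
  rw [h p, tblOf_getD tn _ (idx_lt p)]

theorem TblP_of_idx (g : Equiv.Perm GolayPt) (tn : ℕ) (h : ∀ p, idx (g p) = fld tn (idx p)) :
    TblP g (tblOf tn) := by
  intro p
  rw [h p, tblOf_getD tn _ (idx_lt p)]

theorem mulChk_spec (g h : Equiv.Perm GolayPt) (t a b : ℕ) (hg : TblP g (tblOf a))
    (hh : TblP h (tblOf b)) (hc : mulChk t a b = true) : TblP (g * h) (tblOf t) := by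
  apply TblP_of_idx
  intro p
  have h1 := Nat.eq_of_beq_eq_true (all24_spec _ hc (idx p) (idx_lt p))
  rw [Equiv.Perm.mul_apply, TblP_idx g a hg, TblP_idx h b hh, h1]

theorem invChk_spec (g : Equiv.Perm GolayPt) (a t : ℕ) (hg : TblP g (tblOf a))
    (hc : invChk a t = true) : TblP g⁻¹ (tblOf t) := by
  apply TblP_of_idx
  intro q
  have h1 := Nat.eq_of_beq_eq_true (all24_spec _ hc (idx (g.symm q)) (idx_lt _))
  have h2 := TblP_idx g a hg (g.symm q)
  rw [Equiv.apply_symm_apply] at h2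
  change idx (g.symm q) = fld t (idx q)
  rw [h2, h1]

/-! ### Nat-encoded straight-line programs: 160 bits per node
(table: 120 bits, op: 4 bits, i: 16 bits, j: 16 bits) -/

def nodeTbl (S k : ℕ) : ℕ := Nat.mod (ent S 160 k) 1329227995784915872903807060280344576

def slpStep (S k : ℕ) : Bool :=
  forceN (ent S 160 k) (fun e =>
    forceN (Nat.mod e 1329227995784915872903807060280344576) (fun t =>
      if Nat.beq (Nat.mod (Nat.shiftRight e 120) 16) 0 then
        eqT (tblOf t) (genT.getD (Nat.mod (Nat.shiftRight e 124) 65536) idT)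
      else if Nat.beq (Nat.mod (Nat.shiftRight e 120) 16) 1 then
        Nat.blt (Nat.mod (Nat.shiftRight e 124) 65536) k &&
          (Nat.blt (Nat.mod (Nat.shiftRight e 140) 65536) k &&
            forceN (nodeTbl S (Nat.mod (Nat.shiftRight e 124) 65536)) (fun a =>
              forceN (nodeTbl S (Nat.mod (Nat.shiftRight e 140) 65536)) (fun b =>
                mulChk t a b)))
      else
        Nat.blt (Nat.mod (Nat.shiftRight e 124) 65536) k &&
          forceN (nodeTbl S (Nat.mod (Nat.shiftRight e 124) 65536)) (fun a => invChk a t)))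

def slpChk (S n : ℕ) : Bool := allBelow (slpStep S) n

theorem slpChk_spec (H : Subgroup (Equiv.Perm GolayPt)) (hS : shift 1 ∈ H) (hP : projInv ∈ H)
    (hC : cubeTwist ∈ H) (S n : ℕ) (h : slpChk S n = true) :
    ∀ k < n, ∃ g ∈ H, TblP g (tblOf (nodeTbl S k)) := by
  have hall := allBelow_spec _ n h
  intro k
  induction k using Nat.strong_induction_on with
  | _ k ih =>
    intro hk
    have h1 := hall k hk
    unfold slpStep at h1
    rw [forceN_eq, forceN_eq] at h1
    have hnode : Nat.mod (ent S 160 k) 1329227995784915872903807060280344576 = nodeTbl S k := rfl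
    rw [hnode] at h1
    by_cases hop0 : Nat.beq (Nat.mod (Nat.shiftRight (ent S 160 k) 120) 16) 0 = true
    · rw [if_pos hop0] at h1
      obtain ⟨g, hg, ht⟩ := getD_valid H genT (genT_valid H hS hP hC)
        (Nat.mod (Nat.shiftRight (ent S 160 k) 124) 65536)
      rw [← eqT_eq _ _ h1] at ht
      exact ⟨g, hg, ht⟩
    · rw [if_neg hop0] at h1
      by_cases hop1 : Nat.beq (Nat.mod (Nat.shiftRight (ent S 160 k) 120) 16) 1 = true
      · rw [if_pos hop1, Bool.and_eq_true, Bool.and_eq_true, forceN_eq, forceN_eq] at h1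
        obtain ⟨hi, hj, hm⟩ := h1
        have hi' := Nat.le_of_ble_eq_true hi
        have hj' := Nat.le_of_ble_eq_true hj
        obtain ⟨g1, hg1, ht1⟩ := ih _ hi' (lt_trans hi' hk)
        obtain ⟨g2, hg2, ht2⟩ := ih _ hj' (lt_trans hj' hk)
        exact ⟨g1 * g2, Subgroup.mul_mem _ hg1 hg2, mulChk_spec g1 g2 _ _ _ ht1 ht2 hm⟩
      · rw [if_neg hop1, Bool.and_eq_true, forceN_eq] at h1
        obtain ⟨hi, hm⟩ := h1
        have hi' := Nat.le_of_ble_eq_true hi
        obtain ⟨g1, hg1, ht1⟩ := ih _ hi' (lt_trans hi' hk)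
        exact ⟨g1⁻¹, Subgroup.inv_mem _ hg1, invChk_spec g1 _ _ ht1 hm⟩

theorem kgens_valid (S n : ℕ) (hS : slpChk S n = true) (ms ps : List ℕ)
    (hps : ∀ j ∈ ps, j < 24) (kidx : List ℕ)
    (hk : (0 :: kidx).all (fun k => Nat.blt k n && cfgOK (tblOf (nodeTbl S k)) ms ps) = true) :
    ∀ gi, ∃ g ∈ cfgSub ms ps, TblP g (tblOf (nodeTbl S (kidx.getD gi 0))) := by
  intro gi
  rw [List.all_eq_true] at hk
  have hmem : kidx.getD gi 0 ∈ 0 :: kidx := by
    rw [List.getD_eq_getElem?_getD]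
    cases hi : kidx[gi]? with
    | none => exact List.mem_cons_self
    | some t => exact List.mem_cons_of_mem _ (List.mem_of_getElem? hi)
  have h1 := hk _ hmem
  rw [Bool.and_eq_true] at h1
  obtain ⟨g, hg, ht⟩ := slpChk_spec M24 (shift_mem 1) projInv_mem cubeTwist_mem S n hS _
    (Nat.le_of_ble_eq_true h1.1)
  exact ⟨g, cfgOK_mem g hg _ ht ms ps hps h1.2, ht⟩

/-- literal tables checked against SLP nodes -/
def tblsOK (S n : ℕ) : List (List ℕ) → List ℕ → Bool
  | [], [] => true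
  | t :: ts, k :: ks => Nat.blt k n && eqT t (tblOf (nodeTbl S k)) && tblsOK S n ts ks
  | _, _ => false

theorem tblsOK_spec (S n : ℕ) (hS : slpChk S n = true) :
    ∀ (ts : List (List ℕ)) (ks : List ℕ), tblsOK S n ts ks = true →
      ∀ t ∈ ts, ∃ g ∈ M24, TblP g t := by
  intro ts
  induction ts with
  | nil =>
    intro ks _ t ht
    exact absurd ht (by simp)
  | cons a ts ih =>
    intro ks h t ht
    cases ks with
    | nil => exact absurd h (by simp [tblsOK])
    | cons k ks =>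
      rw [tblsOK, Bool.and_eq_true, Bool.and_eq_true] at h
      rw [List.mem_cons] at ht
      rcases ht with rfl | ht
      · obtain ⟨g, hg, hgt⟩ := slpChk_spec M24 (shift_mem 1) projInv_mem cubeTwist_mem S n hS k
          (Nat.le_of_ble_eq_true h.1.1)
        rw [← eqT_eq _ _ h.1.2] at hgt
        exact ⟨g, hg, hgt⟩
      · exact ih ks h.2 t ht

section Tree

variable {O α : Type} [MulAction (Equiv.Perm GolayPt) α]

/-- decoded entries: (object, root position, parent position, generator index, depth) -/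
def treeStepN (step : ℕ → O → O → Bool) (T : ℕ → ℕ) (dec : ℕ → O × ℕ × ℕ × ℕ × ℕ)
    (get : ℕ → ℕ) (len : ℕ) (i : ℕ) : Bool :=
  forceN (get i) (fun c =>
    match dec c with
    | (x, r, p, gi, dp) =>
      if Nat.beq p i then Nat.beq r i
      else
        forceN (get p) (fun c' =>
          match dec c' with
          | (px, pr, _, _, pd) =>
            Nat.blt p len && (Nat.blt pd dp &&
              (Nat.beq pr r && forceN (T gi) (fun t => step t px x)))))

def treeOKN (step : ℕ → O → O → Bool) (T : ℕ → ℕ) (dec : ℕ → O × ℕ × ℕ × ℕ × ℕ)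
    (get : ℕ → ℕ) (len : ℕ) : Bool := allBelow (treeStepN step T dec get len) len

theorem tree_reach (K : Subgroup (Equiv.Perm GolayPt)) (sem : O → α)
    (step : ℕ → O → O → Bool)
    (hstep : ∀ (g : Equiv.Perm GolayPt) (t : ℕ), TblP g (tblOf t) → ∀ a b : O,
      step t a b = true → g • sem a = sem b)
    (T : ℕ → ℕ) (hT : ∀ gi, ∃ g ∈ K, TblP g (tblOf (T gi))) (dec : ℕ → O × ℕ × ℕ × ℕ × ℕ)
    (get : ℕ → ℕ) (len : ℕ) (h : treeOKN step T dec get len = true) :
    ∀ (n i : ℕ), i < len → (dec (get i)).2.2.2.2 = n → ∃ g ∈ K,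
      g • sem (dec (get (dec (get i)).2.1)).1 = sem (dec (get i)).1 := by
  have hall := allBelow_spec _ len h
  intro n
  induction n using Nat.strong_induction_on with
  | _ n ih =>
    intro i hi hn
    have h1 := hall i hi
    unfold treeStepN at h1
    rw [forceN_eq] at h1
    rcases hde : dec (get i) with ⟨x, r, p, gi, dp⟩
    rw [hde] at h1 hn
    simp only at h1 hn
    by_cases hp : Nat.beq p i = true
    · rw [if_pos hp] at h1
      have h2 : r = i := Nat.eq_of_beq_eq_true h1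
      refine ⟨1, Subgroup.one_mem _, ?_⟩
      simp only
      rw [h2, hde, one_smul]
    · rw [if_neg hp, forceN_eq] at h1
      rcases hdp : dec (get p) with ⟨px, pr, pp, pgi, pd⟩
      rw [hdp] at h1
      simp only at h1
      rw [Bool.and_eq_true, Bool.and_eq_true, Bool.and_eq_true, forceN_eq] at h1
      obtain ⟨h0, h2, h3, h4⟩ := h1
      have hpl : p < len := Nat.le_of_ble_eq_true h0
      have hlt : pd < dp := Nat.le_of_ble_eq_true h2
      have hpr : pr = r := Nat.eq_of_beq_eq_true h3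
      obtain ⟨g, hg, hgr⟩ := ih pd (by rw [← hn]; exact hlt) p hpl (by rw [hdp])
      rw [hdp] at hgr
      simp only at hgr
      obtain ⟨u, hu, hut⟩ := hT gi
      have h5 := hstep u _ hut _ _ h4
      refine ⟨u * g, Subgroup.mul_mem _ hu hg, ?_⟩
      simp only
      rw [mul_smul, ← hpr, hgr, h5]

theorem tree_same (K : Subgroup (Equiv.Perm GolayPt)) (sem : O → α)
    (step : ℕ → O → O → Bool)
    (hstep : ∀ (g : Equiv.Perm GolayPt) (t : ℕ), TblP g (tblOf t) → ∀ a b : O,
      step t a b = true → g • sem a = sem b)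
    (T : ℕ → ℕ) (hT : ∀ gi, ∃ g ∈ K, TblP g (tblOf (T gi))) (dec : ℕ → O × ℕ × ℕ × ℕ × ℕ)
    (get : ℕ → ℕ) (len : ℕ) (h : treeOKN step T dec get len = true)
    (inv : O → ℕ) (rootF : ℕ → ℕ)
    (hroot : ∀ i < len, (dec (get i)).2.1 = rootF (inv (dec (get i)).1))
    (i j : ℕ) (hi : i < len) (hj : j < len)
    (hxy : inv (dec (get i)).1 = inv (dec (get j)).1) :
    ∃ g ∈ K, g • sem (dec (get i)).1 = sem (dec (get j)).1 := by
  obtain ⟨g, hg, hgr⟩ := tree_reach K sem step hstep T hT dec get len h _ i hi rfl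
  obtain ⟨g', hg', hgr'⟩ := tree_reach K sem step hstep T hT dec get len h _ j hj rfl
  rw [hroot i hi] at hgr
  rw [hroot j hj, ← hxy] at hgr'
  refine ⟨g' * g⁻¹, Subgroup.mul_mem _ hg' (inv_mem hg), ?_⟩
  rw [mul_smul, ← hgr, inv_smul_smul, hgr']

theorem tree_root (K : Subgroup (Equiv.Perm GolayPt)) (sem : O → α)
    (step : ℕ → O → O → Bool)
    (hstep : ∀ (g : Equiv.Perm GolayPt) (t : ℕ), TblP g (tblOf t) → ∀ a b : O,
      step t a b = true → g • sem a = sem b)
    (T : ℕ → ℕ) (hT : ∀ gi, ∃ g ∈ K, TblP g (tblOf (T gi))) (dec : ℕ → O × ℕ × ℕ × ℕ × ℕ)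
    (get : ℕ → ℕ) (len : ℕ) (h : treeOKN step T dec get len = true)
    (inv : O → ℕ) (rootF : ℕ → ℕ)
    (hroot : ∀ i < len, (dec (get i)).2.1 = rootF (inv (dec (get i)).1))
    (i : ℕ) (hi : i < len) :
    ∃ g ∈ K, g • sem (dec (get (rootF (inv (dec (get i)).1)))).1 = sem (dec (get i)).1 := by
  obtain ⟨g, hg, hgr⟩ := tree_reach K sem step hstep T hT dec get len h _ i hi rfl
  rw [hroot i hi] at hgr
  exact ⟨g, hg, hgr⟩

end Tree

/-! ### coverage of a family list by the entries of a Nat-encoded array -/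

def covGo (obj : ℕ → ℕ) (len : ℕ) : ℕ → List ℕ → Bool
  | i, [] => Nat.beq i len
  | i, m :: rest => Nat.beq (obj i) m && covGo obj len (i + 1) rest

theorem covGo_spec (obj : ℕ → ℕ) (len : ℕ) : ∀ (l : List ℕ) (i : ℕ),
    covGo obj len i l = true → ∀ x ∈ l, ∃ j < len, obj j = x := by
  intro l
  induction l with
  | nil =>
    intro i _ x hx
    exact absurd hx (by simp)
  | cons m rest ih =>
    intro i h x hx
    rw [covGo, Bool.and_eq_true] at h
    have hlen : ∀ (l' : List ℕ) (k : ℕ), covGo obj len k l' = true → k ≤ len := by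
      intro l'
      induction l' with
      | nil =>
        intro k hk
        rw [covGo] at hk
        exact le_of_eq (Nat.eq_of_beq_eq_true hk)
      | cons m' rest' ih' =>
        intro k hk
        rw [covGo, Bool.and_eq_true] at hk
        have := ih' (k + 1) hk.2
        omega
    rw [List.mem_cons] at hx
    rcases hx with rfl | hx
    · have := hlen rest (i + 1) h.2
      exact ⟨i, by omega, Nat.eq_of_beq_eq_true h.1⟩
    · exact ih (i + 1) h.2 x hx

/-! ### mask trees -/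

def decM (c : ℕ) : ℕ × ℕ × ℕ × ℕ × ℕ :=
  (Nat.mod c 16777216, Nat.mod (Nat.shiftRight c 24) 4096, Nat.mod (Nat.shiftRight c 36) 4096,
    Nat.mod (Nat.shiftRight c 48) 256, Nat.shiftRight c 56)

def objM (E i : ℕ) : ℕ := Nat.mod (ent E 64 i) 16777216

def rootOKM (E : ℕ) (inv rootF : ℕ → ℕ) (i : ℕ) : Bool :=
  forceN (ent E 64 i) (fun c =>
    Nat.beq (Nat.mod (Nat.shiftRight c 24) 4096) (rootF (inv (Nat.mod c 16777216))))

theorem mtree_same (K : Subgroup (Equiv.Perm GolayPt))
    (T : ℕ → ℕ) (hT : ∀ gi, ∃ g ∈ K, TblP g (tblOf (T gi)))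
    (E len : ℕ) (h : treeOKN stepN T decM (ent E 64) len = true)
    (inv : ℕ → ℕ) (rootF : ℕ → ℕ)
    (hroot : allBelow (rootOKM E inv rootF) len = true)
    (F : List ℕ) (sel : ℕ → Bool)
    (hcov : covGo (objM E) len 0 (F.filter sel) = true)
    (x y : ℕ) (hx : x ∈ F) (hy : y ∈ F) (hsx : sel x = true) (hsy : sel y = true)
    (hxy : inv x = inv y) : ∃ g ∈ K, g • bitsOf x = bitsOf y := by
  obtain ⟨i, hi, hix⟩ := covGo_spec _ len _ 0 hcov x (List.mem_filter.2 ⟨hx, hsx⟩)
  obtain ⟨j, hj, hjy⟩ := covGo_spec _ len _ 0 hcov y (List.mem_filter.2 ⟨hy, hsy⟩)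
  have hr : ∀ k < len, (decM (ent E 64 k)).2.1 = rootF (inv (decM (ent E 64 k)).1) := by
    intro k hk
    have h1 := allBelow_spec _ len hroot k hk
    unfold rootOKM at h1
    rw [forceN_eq] at h1
    exact Nat.eq_of_beq_eq_true h1
  have h1 : (decM (ent E 64 i)).1 = x := hix
  have h2 : (decM (ent E 64 j)).1 = y := hjy
  have := tree_same K bitsOf stepN stepN_smul T hT decM (ent E 64) len h inv rootF hr i j hi hj
    (by rw [h1, h2]; exact hxy)
  rw [h1, h2] at this
  exact this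

/-! ### counting and transport -/

theorem ncard_fam (F : Set (Finset GolayPt)) (l : List ℕ)
    (hF : ∀ o, o ∈ F ↔ ∃ n ∈ l, bitsOf n = o)
    (hl : ∀ n ∈ l, n < 2 ^ 24) (hs : List.IsChain (· < ·) l) (Q : Finset GolayPt → Prop)
    (q : ℕ → Bool) (hq : ∀ n ∈ l, Q (bitsOf n) ↔ q n = true) :
    {o | o ∈ F ∧ Q o}.ncard = (l.filter q).length := by
  rw [← ncard_filter l hl hs q]
  congr 1
  ext o
  constructor
  · rintro ⟨ho, hQ⟩
    obtain ⟨n, hn, rfl⟩ := (hF o).1 ho
    exact ⟨n, ⟨hn, (hq n hn).1 hQ⟩, rfl⟩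
  · rintro ⟨n, ⟨hn, hqn⟩, rfl⟩
    exact ⟨(hF _).2 ⟨n, hn, rfl⟩, (hq n hn).2 hqn⟩

theorem ncard_conj {β : Type*} [MulAction (Equiv.Perm GolayPt) β] (σ : Equiv.Perm GolayPt)
    (A B : Set β) (h : ∀ s, s ∈ A ↔ σ • s ∈ B) : B.ncard = A.ncard := by
  have hB : B = (fun s => σ • s) '' A := by
    ext s
    constructor
    · intro hs
      refine ⟨σ⁻¹ • s, (h _).2 ?_, smul_inv_smul σ s⟩
      rw [smul_inv_smul]
      exact hs
    · rintro ⟨s', hs', rfl⟩
      exact (h s').1 hs'
  rw [hB]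
  exact Set.ncard_image_of_injective _ (MulAction.injective σ)

theorem octads_smul_iff (σ : Equiv.Perm GolayPt) (hσ : σ ∈ M24) (o : Finset GolayPt) :
    σ • o ∈ octads ↔ o ∈ octads := by
  constructor
  · intro h
    have := octads_smul σ⁻¹ (inv_mem hσ) _ h
    rwa [inv_smul_smul] at this
  · exact octads_smul σ hσ o

theorem dodecads_smul_iff (σ : Equiv.Perm GolayPt) (hσ : σ ∈ M24) (o : Finset GolayPt) :
    σ • o ∈ dodecads ↔ o ∈ dodecads := by
  constructor
  · intro h
    have := dodecads_smul σ⁻¹ (inv_mem hσ) _ h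
    rwa [inv_smul_smul] at this
  · exact dodecads_smul σ hσ o

theorem card_inter_smul (σ : Equiv.Perm GolayPt) (s t : Finset GolayPt) :
    (σ • s ∩ σ • t).card = (s ∩ t).card := by
  rw [← Finset.smul_finset_inter, Finset.card_smul_finset]

theorem mem_smul_iff (σ : Equiv.Perm GolayPt) (p : GolayPt) (s : Finset GolayPt) :
    σ p ∈ σ • s ↔ p ∈ s := by
  constructor
  · intro h
    obtain ⟨q, hq, hqp⟩ := Finset.mem_smul_finset.1 h
    have : q = p := σ.injective hqp
    rw [← this]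
    exact hq
  · intro h
    exact Finset.smul_mem_smul_finset h

theorem conj_smul (σ g : Equiv.Perm GolayPt) (s s' : Finset GolayPt) (h : g • s = s') :
    (σ * g * σ⁻¹) • (σ • s) = σ • s' := by
  rw [mul_smul, mul_smul, inv_smul_smul, h]

theorem conj_apply (σ g : Equiv.Perm GolayPt) (p p' : GolayPt) (h : g p = p') :
    (σ * g * σ⁻¹) (σ p) = σ p' := by
  rw [Equiv.Perm.mul_apply, Equiv.Perm.mul_apply]
  change σ (g (σ.symm (σ p))) = σ p'
  rw [Equiv.symm_apply_apply, h]

theorem conj_mem (σ g : Equiv.Perm GolayPt) (hσ : σ ∈ M24) (hg : g ∈ M24) :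
    σ * g * σ⁻¹ ∈ M24 :=
  Subgroup.mul_mem _ (Subgroup.mul_mem _ hσ hg) (inv_mem hσ)

theorem inv_smul_mem_iff (σ : Equiv.Perm GolayPt) (p : GolayPt) (s : Finset GolayPt) :
    p ∈ σ⁻¹ • s ↔ σ p ∈ s := by
  rw [← mem_smul_iff σ p (σ⁻¹ • s), smul_inv_smul]

end Cfsg.Agent.Lib.Helper9.Leech
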