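import Cfsg.Agent.Lib.Helper9.M24Trans
import Cfsg.Agent.Lib.Helper9.TreeCert
import Cfsg.Agent.Lib.Helper9.EltData

set_option autoImplicit false
open Cfsg

namespace Cfsg.Agent.Lib.Helper9.Leech

open scoped Pointwise

/-! ### Horner packing of digit lists -/

def hornerL (B : ℕ) : List ℕ → ℕ
  | [] => 0
  | c :: r => c + B * hornerL B r

theorem horner_digit (B : ℕ) (hB : 0 < B) : ∀ (l : List ℕ), (∀ c ∈ l, c < B) →
    ∀ i < l.length, hornerL B l / B ^ i % B = l.getD i 0 := by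
  intro l
  induction l with
  | nil =>
    intro _ i hi
    exact absurd hi (by simp)
  | cons c r ih =>
    intro hl i hi
    have hc : c < B := hl c List.mem_cons_self
    cases i with
    | zero =>
      rw [pow_zero, Nat.div_one]
      change (c + B * hornerL B r) % B = c
      rw [Nat.add_mul_mod_self_left, Nat.mod_eq_of_lt hc]
    | succ i =>
      change (c + B * hornerL B r) / B ^ (i + 1) % B = r.getD i 0
      rw [pow_succ', ← Nat.div_div_eq_div_mul, Nat.add_mul_div_left _ _ hB, Nat.div_eq_of_lt hc,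
        zero_add]
      exact ih (fun c' hc' => hl c' (List.mem_cons_of_mem _ hc')) i (by simpa using hi)

theorem horner_lt (B : ℕ) (_hB : 0 < B) : ∀ (l : List ℕ), (∀ c ∈ l, c < B) →
    hornerL B l < B ^ l.length := by
  intro l
  induction l with
  | nil =>
    intro _
    simp [hornerL]
  | cons c r ih =>
    intro hl
    have hc : c < B := hl c List.mem_cons_self
    have h1 := ih (fun c' hc' => hl c' (List.mem_cons_of_mem _ hc'))
    change c + B * hornerL B r < B ^ (r.length + 1)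
    rw [pow_succ']
    have h2 : B * (hornerL B r + 1) ≤ B * B ^ r.length := Nat.mul_le_mul_left B h1
    rw [Nat.mul_add, Nat.mul_one] at h2
    omega

def h24 (f : ℕ → ℕ) : ℕ :=
  Nat.add (f 0) (Nat.mul 32 (Nat.add (f 1) (Nat.mul 32 (Nat.add (f 2) (Nat.mul 32 (Nat.add (f 3) (Nat.mul 32 (Nat.add (f 4) (Nat.mul 32 (Nat.add (f 5) (Nat.mul 32 (Nat.add (f 6) (Nat.mul 32 (Nat.add (f 7) (Nat.mul 32 (Nat.add (f 8) (Nat.mul 32 (Nat.add (f 9) (Nat.mul 32 (Nat.add (f 10) (Nat.mul 32 (Nat.add (f 11) (Nat.mul 32 (Nat.add (f 12) (Nat.mul 32 (Nat.add (f 13) (Nat.mul 32 (Nat.add (f 14) (Nat.mul 32 (Nat.add (f 15) (Nat.mul 32 (Nat.add (f 16) (Nat.mul 32 (Nat.add (f 17) (Nat.mul 32 (Nat.add (f 18) (Nat.mul 32 (Nat.add (f 19) (Nat.mul 32 (Nat.add (f 20) (Nat.mul 32 (Nat.add (f 21) (Nat.mul 32 (Nat.add (f 22) (Nat.mul 32 (Nat.add (f 23) (Nat.mul 32 (0))))))))))))))))))))))))))))))))))))))))))))))))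

def b24 (f : ℕ → ℕ) : ℕ :=
  Nat.add (f 0) (Nat.mul 2 (Nat.add (f 1) (Nat.mul 2 (Nat.add (f 2) (Nat.mul 2 (Nat.add (f 3) (Nat.mul 2 (Nat.add (f 4) (Nat.mul 2 (Nat.add (f 5) (Nat.mul 2 (Nat.add (f 6) (Nat.mul 2 (Nat.add (f 7) (Nat.mul 2 (Nat.add (f 8) (Nat.mul 2 (Nat.add (f 9) (Nat.mul 2 (Nat.add (f 10) (Nat.mul 2 (Nat.add (f 11) (Nat.mul 2 (Nat.add (f 12) (Nat.mul 2 (Nat.add (f 13) (Nat.mul 2 (Nat.add (f 14) (Nat.mul 2 (Nat.add (f 15) (Nat.mul 2 (Nat.add (f 16) (Nat.mul 2 (Nat.add (f 17) (Nat.mul 2 (Nat.add (f 18) (Nat.mul 2 (Nat.add (f 19) (Nat.mul 2 (Nat.add (f 20) (Nat.mul 2 (Nat.add (f 21) (Nat.mul 2 (Nat.add (f 22) (Nat.mul 2 (Nat.add (f 23) (Nat.mul 2 (0))))))))))))))))))))))))))))))))))))))))))))))))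

theorem h24_eq (f : ℕ → ℕ) : h24 f = hornerL 32 (r24.map f) := rfl

theorem b24_eq (f : ℕ → ℕ) : b24 f = hornerL 2 (r24.map f) := rfl

theorem fld_eq (t i : ℕ) : fld t i = t / 32 ^ i % 32 := by
  unfold fld
  change (t >>> (5 * i)) % 32 = _
  rw [Nat.shiftRight_eq_div_pow, pow_mul]
  norm_num

theorem fld_lt (t i : ℕ) : fld t i < 32 := Nat.mod_lt _ (by norm_num)

theorem fld_h24 (f : ℕ → ℕ) (hf : ∀ i < 24, f i < 32) (i : ℕ) (hi : i < 24) :
    fld (h24 f) i = f i := by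
  rw [fld_eq, h24_eq, horner_digit 32 (by norm_num) _ _ i (by simpa [r24] using hi),
    r24_map_getD f i hi]
  intro c hc
  rw [List.mem_map] at hc
  obtain ⟨j, hj, rfl⟩ := hc
  exact hf j (r24_lt j hj)

/-! ### products of packed tables -/

def mulN (a b : ℕ) : ℕ :=
  forceN a (fun a' => forceN b (fun b' => h24 (fun i => fld a' (fld b' i))))

theorem fld_mulN (a b i : ℕ) (hi : i < 24) : fld (mulN a b) i = fld a (fld b i) := by
  unfold mulN
  rw [forceN_eq, forceN_eq, fld_h24 _ (fun j _ => fld_lt _ _) i hi]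

theorem mulN_spec (g h : Equiv.Perm GolayPt) (a b : ℕ) (hg : TblP g (tblOf a))
    (hh : TblP h (tblOf b)) : TblP (g * h) (tblOf (mulN a b)) := by
  apply TblP_of_idx
  intro p
  rw [Equiv.Perm.mul_apply, TblP_idx g a hg, TblP_idx h b hh, fld_mulN a b _ (idx_lt p)]

def idN : ℕ := 0xbdab49ca307b9ac5a928398a418820

theorem idN_tbl : TblP 1 (tblOf idN) := by
  have h : tblOf idN = idT := by decide +kernel
  rw [h]
  exact TblP_one

/-! ### pulling a mask back along a packed table -/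

def pullN (s a : ℕ) : ℕ :=
  forceN a (fun a' => b24 (fun j => Nat.mod (Nat.shiftRight a' (fld s j)) 2))

theorem testBit_pullN (s a j : ℕ) (hj : j < 24) :
    (pullN s a).testBit j = a.testBit (fld s j) := by
  unfold pullN
  rw [forceN_eq, Nat.testBit_eq_decide_div_mod_eq, b24_eq,
    horner_digit 2 (by norm_num) _ _ j (by simpa [r24] using hj), r24_map_getD _ j hj,
    Nat.testBit_eq_decide_div_mod_eq]
  · change decide ((a >>> fld s j) % 2 = 1) = _
    rw [Nat.shiftRight_eq_div_pow]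
  · intro c hc
    rw [List.mem_map] at hc
    obtain ⟨k, _, rfl⟩ := hc
    exact Nat.mod_lt _ (by norm_num)

theorem pullN_lt (s a : ℕ) : pullN s a < 2 ^ 24 := by
  unfold pullN
  rw [forceN_eq, b24_eq]
  have h := horner_lt 2 (by norm_num)
    (r24.map (fun j => Nat.mod (Nat.shiftRight a (fld s j)) 2)) (by
      intro c hc
      rw [List.mem_map] at hc
      obtain ⟨k, _, rfl⟩ := hc
      exact Nat.mod_lt _ (by norm_num))
  rw [List.length_map] at h
  exact h

theorem pullN_spec (g : Equiv.Perm GolayPt) (s : ℕ) (hg : TblP g (tblOf s)) (a : ℕ) :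
    g⁻¹ • bitsOf a = bitsOf (pullN s a) := by
  ext p
  rw [inv_smul_mem_iff, mem_bitsOf, mem_bitsOf, TblP_idx g s hg, testBit_pullN s a _ (idx_lt p)]

/-! ### powers -/

def powFld (t : ℕ) : ℕ → ℕ → ℕ
  | 0, i => i
  | m + 1, i => fld t (powFld t m i)

theorem powFld_spec (g : Equiv.Perm GolayPt) (t : ℕ) (hg : TblP g (tblOf t)) :
    ∀ (m : ℕ) (p : GolayPt), idx ((g ^ m) p) = powFld t m (idx p) := by
  intro m
  induction m with
  | zero =>
    intro p
    rfl
  | succ m ih =>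
    intro p
    rw [pow_succ', Equiv.Perm.mul_apply, TblP_idx g t hg, ih p]
    rfl

/-! ### enumeration of products over levels -/

def enumI (chk : ℕ → ℕ → Bool) : List ((ℕ → ℕ) × ℕ) → ℕ → ℕ → Bool
  | [], acc, ix => chk acc ix
  | (get, n) :: rest, acc, ix =>
      allBelow (fun j => forceN (mulN acc (get j)) (fun acc' =>
        enumI chk rest acc' (Nat.add (Nat.mul ix n) j))) n

theorem enumI_spec (chk : ℕ → ℕ → Bool) (P : Equiv.Perm GolayPt → Prop)
    (hP : ∀ (g : Equiv.Perm GolayPt) (t ix : ℕ), TblP g (tblOf t) → chk t ix = true → P g) :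
    ∀ (Ls : List ((ℕ → ℕ) × ℕ)) (S : ℕ → Set (Equiv.Perm GolayPt)),
      (∀ i (hi : i < Ls.length), ∀ g ∈ S i, ∃ j < (Ls[i]).2, ∃ γ : Equiv.Perm GolayPt,
        TblP γ (tblOf ((Ls[i]).1 j)) ∧ γ⁻¹ * g ∈ S (i + 1)) →
      (∀ g ∈ S Ls.length, g = 1) →
      ∀ (acc ix : ℕ) (a : Equiv.Perm GolayPt), TblP a (tblOf acc) →
        enumI chk Ls acc ix = true → ∀ g ∈ S 0, P (a * g) := by
  intro Ls
  induction Ls with
  | nil =>
    intro S _ hbot acc ix a ha hrun g hg
    rw [hbot g hg, mul_one]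
    exact hP a acc ix ha hrun
  | cons L rest ih =>
    intro S hlev hbot acc ix a ha hrun g hg
    obtain ⟨get, n⟩ := L
    obtain ⟨j, hj, γ, hγ, hγg⟩ := hlev 0 (by simp) g hg
    change j < n at hj
    change TblP γ (tblOf (get j)) at hγ
    unfold enumI at hrun
    have h1 := allBelow_spec _ n hrun j hj
    rw [forceN_eq] at h1
    have h2 := ih (fun i => S (i + 1)) (fun i hi g' hg' => by
        have := hlev (i + 1) (by simp; omega) g' hg'
        simpa using this) hbot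
      (mulN acc (get j)) _ (a * γ) (mulN_spec a γ acc (get j) ha hγ) h1 (γ⁻¹ * g) hγg
    have h3 : a * γ * (γ⁻¹ * g) = a * g := by group
    rw [h3] at h2
    exact h2

end Cfsg.Agent.Lib.Helper9.Leech
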