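import Cfsg.Agent.Lib.Helper9.M24El

set_option autoImplicit false
open Cfsg

namespace Cfsg.Agent.Lib.Helper9.Leech

open scoped Pointwise
open Cfsg.Agent.S5393 Cfsg.Agent.S5548

def Gcl : Subgroup (Equiv.Perm GolayPt) := Subgroup.closure {shift 1, projInv, cubeTwist}

theorem Gcl_le : Gcl ≤ M24 := by
  unfold Gcl
  rw [Subgroup.closure_le]
  rintro g (rfl | rfl | rfl)
  · exact shift_mem 1
  · exact projInv_mem
  · exact cubeTwist_mem

theorem allT_Gcl : ∀ t ∈ allT, ∃ g ∈ Gcl, TblP g t :=
  allT_valid Gcl (Subgroup.subset_closure (by simp)) (Subgroup.subset_closure (by simp))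
    (Subgroup.subset_closure (by simp))

def lvlOK (pre : List ℕ) (b : ℕ) (tr : List (ℕ × ℕ)) : Bool :=
  tr.all (fun xk => pre.all (fun j => Nat.beq ((allT.getD xk.2 idT).getD j 0) j) &&
    Nat.beq ((allT.getD xk.2 idT).getD b 0) xk.1)

theorem lvl_spec (pre : List ℕ) (b : ℕ) (tr : List (ℕ × ℕ)) (hpre : ∀ j ∈ pre, j < 24)
    (hb : b < 24) (h : lvlOK pre b tr = true) :
    ∀ x ∈ tr.map Prod.fst, ∃ u ∈ Gcl, FixL u pre ∧ u (ptOf b) = ptOf x := by
  intro x hx
  rw [List.mem_map] at hx
  obtain ⟨xk, hxk, rfl⟩ := hx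
  unfold lvlOK at h
  rw [List.all_eq_true] at h
  have h1 := h xk hxk
  rw [Bool.and_eq_true, List.all_eq_true] at h1
  obtain ⟨g, hg, ht⟩ := getD_valid Gcl allT allT_Gcl xk.2
  refine ⟨g, hg, ?_, ?_⟩
  · intro j hj
    rw [TblP_apply g _ ht j (hpre j hj), Nat.eq_of_beq_eq_true (h1.1 j hj)]
  · rw [TblP_apply g _ ht b hb, Nat.eq_of_beq_eq_true h1.2]

def orbL (i : ℕ) : List ℕ := (transL.getD i []).map Prod.fst

set_option maxRecDepth 100000 in
theorem reach (i : ℕ) (hi : i < 7) : ∀ x ∈ orbL i,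
    ∃ u ∈ Gcl, FixL u (baseL.take i) ∧ u (ptOf (baseL.getD i 0)) = ptOf x := by
  interval_cases i
  · exact lvl_spec _ _ _ (by decide) (by decide) (by decide +kernel)
  · exact lvl_spec _ _ _ (by decide) (by decide) (by decide +kernel)
  · exact lvl_spec _ _ _ (by decide) (by decide) (by decide +kernel)
  · exact lvl_spec _ _ _ (by decide) (by decide) (by decide +kernel)
  · exact lvl_spec _ _ _ (by decide) (by decide) (by decide +kernel)
  · exact lvl_spec _ _ _ (by decide) (by decide) (by decide +kernel)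
  · exact lvl_spec _ _ _ (by decide) (by decide) (by decide +kernel)

theorem base_lt : ∀ j ∈ baseL, j < 24 := by decide

theorem take_lt (i : ℕ) : ∀ j ∈ baseL.take i, j < 24 :=
  fun j hj => base_lt j (List.mem_of_mem_take hj)

theorem getD_lt : ∀ i < 7, baseL.getD i 0 < 24 := by decide

theorem getD_not_mem : ∀ i < 7, baseL.getD i 0 ∉ baseL.take i := by decide

theorem orb_compl : ∀ i < 5, ∀ n < 24, n ∉ baseL.take i → n ∈ orbL i := by decide +kernel

def octO : ℕ := 8536111

theorem octO_mem : octO ∈ octL := memL_mem _ _ (by decide +kernel)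

theorem octO_fix (g : Equiv.Perm GolayPt) (hg : g ∈ M24) (h : FixL g (baseL.take 5)) :
    g • bitsOf octO = bitsOf octO := by
  apply oct_inv g hg 8388623 octO _ octO_mem (by decide +kernel)
  exact fixOn_of_fixL g (baseL.take 5) 8388623 (by decide) h

theorem orb5_compl : ∀ n < 24, octO.testBit n = false → n ∈ orbL 5 := by decide +kernel

theorem orb6_compl : ∀ n < 24, octO.testBit n = true → n ∉ baseL.take 6 → n ∈ orbL 6 := by
  decide +kernel

theorem bound (i : ℕ) (hi : i < 7) (g : Equiv.Perm GolayPt) (hg : g ∈ M24)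
    (h : FixL g (baseL.take i)) : idx (g (ptOf (baseL.getD i 0))) ∈ orbL i := by
  have hne := idx_ne_of_fix g (baseL.take i) h (baseL.getD i 0) (getD_lt i hi)
    (getD_not_mem i hi)
  rcases Nat.lt_or_ge i 5 with h5 | h5
  · exact orb_compl i h5 _ (idx_lt _) hne
  · have h5' : FixL g (baseL.take 5) := by
      intro j hj
      exact h j (List.take_subset_take_left _ h5 hj)
    have hO := octO_fix g hg h5'
    have hi' : i = 5 ∨ i = 6 := by omega
    rcases hi' with rfl | rfl
    · apply orb5_compl _ (idx_lt _)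
      have h1 : g (ptOf 4) ∉ bitsOf octO := by
        intro hmem
        rw [← hO] at hmem
        have h2 : ptOf 4 ∈ bitsOf octO := (Finset.smul_mem_smul_finset_iff g).1 hmem
        rw [mem_bitsOf, idx_ptOf 4 (by decide)] at h2
        exact absurd h2 (by decide)
      rw [mem_bitsOf] at h1
      cases hh : octO.testBit (idx (g (ptOf 4)))
      · exact hh
      · exact absurd hh h1
    · apply orb6_compl _ (idx_lt _) _ hne
      have h2 : ptOf 5 ∈ bitsOf octO := by
        rw [mem_bitsOf, idx_ptOf 5 (by decide)]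
        decide
      have h3 := smul_mem_of_inv g _ hO _ h2
      rw [mem_bitsOf] at h3
      exact h3

set_option maxRecDepth 100000 in
theorem baseCert_ok : baseRun 8388671 baseCert = 16777215 := by decide +kernel

theorem base_prop (g : Equiv.Perm GolayPt) (hg : g ∈ M24) (h : FixL g baseL) : g = 1 := by
  apply eq_one_of_fixOn
  rw [← baseCert_ok]
  apply baseRun_spec g hg
  exact fixOn_of_fixL g baseL 8388671 (by decide) h

theorem take_succ_mem : ∀ i < 7, ∀ j, j ∈ baseL.take (i + 1) ↔
    j ∈ baseL.take i ∨ j = baseL.getD i 0 := by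
  intro i hi j
  interval_cases i <;> simp [baseL] <;> tauto

theorem strip_step (i : ℕ) (hi : i < 7) (g : Equiv.Perm GolayPt) (hg : g ∈ M24)
    (h : FixL g (baseL.take i)) :
    ∃ u ∈ Gcl, FixL u (baseL.take i) ∧ FixL (u⁻¹ * g) (baseL.take (i + 1)) := by
  obtain ⟨u, hu, hfix, hub⟩ := reach i hi _ (bound i hi g hg h)
  rw [ptOf_idx] at hub
  refine ⟨u, hu, hfix, ?_⟩
  intro j hj
  rw [take_succ_mem i hi] at hj
  rcases hj with hj | rfl
  · exact FixL_mul _ _ _ (FixL_inv _ _ hfix) h j hj
  · rw [Equiv.Perm.mul_apply, ← hub]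
    change u.symm (u _) = _
    rw [Equiv.symm_apply_apply]

theorem strip : ∀ k ≤ 7, ∀ g ∈ M24, FixL g (baseL.take (7 - k)) → g ∈ Gcl := by
  intro k
  induction k with
  | zero =>
    intro _ g hg h
    have h1 : g = 1 := base_prop g hg (by
      intro j hj
      exact h j (by rw [List.take_of_length_le (by decide)]; exact hj))
    rw [h1]
    exact Subgroup.one_mem _
  | succ k ih =>
    intro hk g hg h
    obtain ⟨u, hu, _, hfix'⟩ := strip_step (7 - (k + 1)) (by omega) g hg h
    have h2 : 7 - (k + 1) + 1 = 7 - k := by omega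
    rw [h2] at hfix'
    have h3 := ih (by omega) (u⁻¹ * g) (Subgroup.mul_mem _ (inv_mem (Gcl_le hu)) hg) hfix'
    have h4 : g = u * (u⁻¹ * g) := by group
    rw [h4]
    exact Subgroup.mul_mem _ hu h3

theorem M24_eq_Gcl : M24 = Gcl := by
  apply le_antisymm
  · intro g hg
    exact strip 7 le_rfl g hg (fun j hj => absurd hj (by simp))
  · exact Gcl_le

end Cfsg.Agent.Lib.Helper9.Leech
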