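import Cfsg.Agent.Lib.Helper9.Elt
import Cfsg.Agent.Lib.Helper9.M24Chain

set_option autoImplicit false
open Cfsg

namespace Cfsg.Agent.Lib.Helper9.Leech

open scoped Pointwise
open Cfsg.Agent.S5393 Cfsg.Agent.S5548

theorem all24_of (p : ℕ → Bool) (h : ∀ i < 24, p i = true) : all24 p = true := by
  unfold all24
  simp only [Bool.and_eq_true]
  repeat' constructor
  all_goals exact h _ (by norm_num)

theorem allT_M24' : ∀ t ∈ allT, ∃ g ∈ M24, TblP g t := by
  intro t ht
  obtain ⟨g, hg, h⟩ := allT_Gcl t ht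
  exact ⟨g, Gcl_le hg, h⟩

/-! ### nodes of a straight-line program addressed through an index array -/

def getIx (S IX : ℕ) (j : ℕ) : ℕ := nodeTbl S (ent IX 16 j)

theorem getIx_valid (S n : ℕ) (hS : slpChk S n = true) (IX n0 : ℕ)
    (hix : allBelow (fun j => Nat.blt (ent IX 16 j) n) n0 = true) :
    ∀ j < n0, ∃ τ ∈ M24, TblP τ (tblOf (getIx S IX j)) := by
  intro j hj
  exact slpChk_spec M24 (shift_mem 1) projInv_mem cubeTwist_mem S n hS _
    (Nat.le_of_ble_eq_true (allBelow_spec _ n0 hix j hj))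

/-! ### the last two levels of the stabiliser chain, as packed tables -/

def get5 (j : ℕ) : ℕ := ent u5A 120 j

def get6 (j : ℕ) : ℕ := ent u6A 120 j

def fixSet (i : ℕ) : Set (Equiv.Perm GolayPt) := {f | f ∈ M24 ∧ FixL f (baseL.take i)}

def lvOK (get : ℕ → ℕ) (n : ℕ) (ks pre : List ℕ) (b : ℕ) (orb : List ℕ) : Bool :=
  (List.range n).all (fun j => eqT (tblOf (get j)) (allT.getD (ks.getD j 0) idT) &&
    pre.all (fun q => Nat.beq (fld (get j) q) q)) &&
  orb.all (fun x => (List.range n).any (fun j => Nat.beq (fld (get j) b) x))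

theorem f48_lev (i : ℕ) (hi : i < 7) (get : ℕ → ℕ) (n : ℕ) (ks : List ℕ)
    (hok : lvOK get n ks (baseL.take i) (baseL.getD i 0) (orbL i) = true) :
    ∀ f ∈ fixSet i, ∃ j < n, ∃ γ : Equiv.Perm GolayPt,
      TblP γ (tblOf (get j)) ∧ γ⁻¹ * f ∈ fixSet (i + 1) := by
  intro f hf
  unfold lvOK at hok
  rw [Bool.and_eq_true, List.all_eq_true, List.all_eq_true] at hok
  obtain ⟨hv, hcov⟩ := hok
  have hx := bound i hi f hf.1 hf.2
  have h1 := hcov _ hx
  rw [List.any_eq_true] at h1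
  obtain ⟨j, hj, hjx⟩ := h1
  rw [List.mem_range] at hj
  have h2 := hv j (List.mem_range.2 hj)
  rw [Bool.and_eq_true, List.all_eq_true] at h2
  obtain ⟨u, hu, hut⟩ := getD_valid M24 allT allT_M24' (ks.getD j 0)
  rw [← eqT_eq _ _ h2.1] at hut
  have hb : baseL.getD i 0 < 24 := getD_lt i hi
  have hufix : FixL u (baseL.take i) := by
    intro q hq
    have h3 := Nat.eq_of_beq_eq_true (h2.2 q hq)
    have hq24 : q < 24 := take_lt i q hq
    have h4 := TblP_idx u _ hut (ptOf q)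
    rw [idx_ptOf q hq24, h3] at h4
    rw [← ptOf_idx (u (ptOf q)), h4]
  have hub : u (ptOf (baseL.getD i 0)) = f (ptOf (baseL.getD i 0)) := by
    have h4 := TblP_idx u _ hut (ptOf (baseL.getD i 0))
    rw [idx_ptOf _ hb, Nat.eq_of_beq_eq_true hjx] at h4
    exact idx_inj _ _ h4
  refine ⟨j, hj, u, hut, mul_mem (inv_mem hu) hf.1, ?_⟩
  intro q hq
  rw [take_succ_mem i hi] at hq
  rcases hq with hq | rfl
  · exact FixL_mul _ _ _ (FixL_inv _ _ hufix) hf.2 q hq
  · rw [Equiv.Perm.mul_apply, ← hub]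
    change u.symm (u _) = _
    rw [Equiv.symm_apply_apply]

set_option maxRecDepth 100000 in
theorem u5_ok : lvOK get5 16 ((transL.getD 5 []).map Prod.snd) (baseL.take 5) (baseL.getD 5 0)
    (orbL 5) = true := by decide +kernel

set_option maxRecDepth 100000 in
theorem u6_ok : lvOK get6 3 ((transL.getD 6 []).map Prod.snd) (baseL.take 6) (baseL.getD 6 0)
    (orbL 6) = true := by decide +kernel

/-! ### candidates: elements with prescribed images of the first five base points -/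

def candSet (get : ℕ → ℕ) (n : ℕ) : Set (Equiv.Perm GolayPt) :=
  {γ | γ ∈ M24 ∧ ∃ j < n, ∀ b ∈ baseL.take 5, idx (γ (ptOf b)) = fld (get j) b}

theorem cand_lev (get : ℕ → ℕ) (n : ℕ) (hv : ∀ j < n, ∃ τ ∈ M24, TblP τ (tblOf (get j))) :
    ∀ γ ∈ candSet get n, ∃ j < n, ∃ τ : Equiv.Perm GolayPt,
      TblP τ (tblOf (get j)) ∧ τ⁻¹ * γ ∈ fixSet 5 := by
  rintro γ ⟨hγ, j, hj, hjb⟩
  obtain ⟨τ, hτ, hτt⟩ := hv j hj
  refine ⟨j, hj, τ, hτt, mul_mem (inv_mem hτ) hγ, ?_⟩
  intro b hb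
  have hb24 := take_lt 5 b hb
  have h1 : τ (ptOf b) = γ (ptOf b) := by
    apply idx_inj
    rw [TblP_idx τ _ hτt, idx_ptOf b hb24, hjb b hb]
  rw [Equiv.Perm.mul_apply, ← h1]
  change τ.symm (τ _) = _
  rw [Equiv.symm_apply_apply]

def lvSet (C : Set (Equiv.Perm GolayPt)) : ℕ → Set (Equiv.Perm GolayPt)
  | 0 => C
  | 1 => fixSet 5
  | 2 => fixSet 6
  | _ => fixSet 7

theorem m24_enum (get0 : ℕ → ℕ) (n0 : ℕ) (hv : ∀ j < n0, ∃ τ ∈ M24, TblP τ (tblOf (get0 j)))
    (chk : ℕ → ℕ → Bool) (P : Equiv.Perm GolayPt → Prop)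
    (hP : ∀ (g : Equiv.Perm GolayPt) (t ix : ℕ), TblP g (tblOf t) → chk t ix = true → P g)
    (hrun : enumI chk [(get0, n0), (get5, 16), (get6, 3)] idN 0 = true) :
    ∀ γ ∈ candSet get0 n0, P γ := by
  intro γ hγ
  have h := enumI_spec chk P hP [(get0, n0), (get5, 16), (get6, 3)] (lvSet (candSet get0 n0))
    (by
      intro i hi g hg
      have hi3 : i < 3 := by simpa using hi
      interval_cases i
      · exact cand_lev get0 n0 hv g hg
      · exact f48_lev 5 (by norm_num) get5 16 _ u5_ok g hg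
      · exact f48_lev 6 (by norm_num) get6 3 _ u6_ok g hg)
    (by
      intro g hg
      exact base_prop g hg.1 hg.2)
    idN 0 1 idN_tbl hrun γ hγ
  rwa [one_mul] at h

/-! ### classification certificates -/

def clsChk (m nc S n REP CE : ℕ) (t ix : ℕ) : Bool :=
  forceN (ent CE 24 ix) (fun e =>
    if Nat.beq e 0 then !(all24 (fun i => Nat.beq (powFld t m i) i))
    else
      Nat.blt (Nat.shiftRight e 4) n && (Nat.blt (Nat.sub (Nat.mod e 16) 1) nc &&
        forceN (nodeTbl S (Nat.shiftRight e 4)) (fun K =>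
          forceN (ent REP 120 (Nat.sub (Nat.mod e 16) 1)) (fun r =>
            all24 (fun i => Nat.beq (fld K (fld t i)) (fld r (fld K i)))))))

def ClsP (m nc REP : ℕ) (g : Equiv.Perm GolayPt) : Prop :=
  g ^ m ≠ 1 ∨ ∃ K ∈ M24, ∃ c < nc, TblP (K * g * K⁻¹) (tblOf (ent REP 120 c))

theorem clsChk_spec (m nc S n REP CE : ℕ) (hS : slpChk S n = true) (g : Equiv.Perm GolayPt)
    (t ix : ℕ) (hg : TblP g (tblOf t)) (h : clsChk m nc S n REP CE t ix = true) :
    ClsP m nc REP g := by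
  unfold clsChk at h
  rw [forceN_eq] at h
  by_cases he : Nat.beq (ent CE 24 ix) 0 = true
  · rw [if_pos he] at h
    left
    intro hpow
    have h1 : all24 (fun i => Nat.beq (powFld t m i) i) = true := by
      apply all24_of
      intro i hi
      have h2 := powFld_spec g t hg m (ptOf i)
      rw [hpow, idx_ptOf i hi] at h2
      have h3 : idx ((1 : Equiv.Perm GolayPt) (ptOf i)) = i := idx_ptOf i hi
      rw [h3] at h2
      rw [← h2]
      exact Nat.beq_refl i
    rw [h1] at h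
    exact absurd h (by decide)
  · rw [if_neg he, Bool.and_eq_true, Bool.and_eq_true, forceN_eq, forceN_eq] at h
    obtain ⟨hk, hc, hall⟩ := h
    obtain ⟨K, hK, hKt⟩ := slpChk_spec M24 (shift_mem 1) projInv_mem cubeTwist_mem S n hS _
      (Nat.le_of_ble_eq_true hk)
    right
    refine ⟨K, hK, _, Nat.le_of_ble_eq_true hc, ?_⟩
    apply TblP_of_idx
    intro p
    have h1 := Nat.eq_of_beq_eq_true (all24_spec _ hall (idx (K.symm p)) (idx_lt _))
    have h2 : (K * g * K⁻¹) p = K (g (K.symm p)) := rfl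
    rw [h2, TblP_idx K _ hKt, TblP_idx g t hg, h1, ← TblP_idx K _ hKt, Equiv.apply_symm_apply]

end Cfsg.Agent.Lib.Helper9.Leech
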