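import Cfsg.Agent.Lib.Helper9.Code2
import Cfsg.Agent.Lib.Helper9.FamData

set_option autoImplicit false
open Cfsg

namespace Cfsg.Agent.Lib.Helper9.Leech

open scoped Pointwise
open Cfsg.Agent.S5393 Cfsg.Agent.S5548

set_option maxRecDepth 100000 in
theorem sext_fam : famChk 6 sextLE 1771 = true := by decide +kernel

set_option maxRecDepth 100000 in
theorem sext_close : closeChk 6 sextLE 1771 sextCE = true := by decide +kernel

set_option maxRecDepth 100000 in
theorem sext_tree : treeOKN (stepKO 6) genN (decK 6) (ent sextFE 216) 1771 = true := by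
  decide +kernel

set_option maxRecDepth 100000 in
theorem sext_codes : treeCodes 6 sextFE 216 1771 sextLE = true := by decide +kernel

set_option maxRecDepth 100000 in
theorem sext_root0 : allBelow (fun i => Nat.beq (rootAt 6 sextFE 216 i) 0) 1771 = true := by
  decide +kernel

theorem sext_closed : ∀ g ∈ M24, ∀ i < 1771, ∃ j < 1771,
    g • semK 6 (codeAt 6 sextLE i) = semK 6 (codeAt 6 sextLE j) :=
  closeChk_spec 6 sextLE 1771 sextCE sext_close

theorem sext_orbit : ∀ i < 1771, ∃ g ∈ M24,
    g • semK 6 (codeAt 6 sextLE 0) = semK 6 (codeAt 6 sextLE i) :=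
  fam_orbit 6 sextFE 216 1771 sextLE sext_tree sext_codes sext_root0

set_option maxRecDepth 100000 in
theorem trio_fam : famChk 3 trioLE 3795 = true := by decide +kernel

set_option maxRecDepth 100000 in
theorem trio_close : closeChk 3 trioLE 3795 trioCE = true := by decide +kernel

set_option maxRecDepth 100000 in
theorem trio_tree : treeOKN (stepKO 3) genN (decK 3) (ent trioFE 132) 3795 = true := by
  decide +kernel

set_option maxRecDepth 100000 in
theorem trio_codes : treeCodes 3 trioFE 132 3795 trioLE = true := by decide +kernel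

set_option maxRecDepth 100000 in
theorem trio_root0 : allBelow (fun i => Nat.beq (rootAt 3 trioFE 132 i) 0) 3795 = true := by
  decide +kernel

theorem trio_closed : ∀ g ∈ M24, ∀ i < 3795, ∃ j < 3795,
    g • semK 3 (codeAt 3 trioLE i) = semK 3 (codeAt 3 trioLE j) :=
  closeChk_spec 3 trioLE 3795 trioCE trio_close

theorem trio_orbit : ∀ i < 3795, ∃ g ∈ M24,
    g • semK 3 (codeAt 3 trioLE 0) = semK 3 (codeAt 3 trioLE i) :=
  fam_orbit 3 trioFE 132 3795 trioLE trio_tree trio_codes trio_root0

set_option maxRecDepth 100000 in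
theorem oct1_fam : famChk 1 oct1LE 759 = true := by decide +kernel

set_option maxRecDepth 100000 in
theorem oct1_close : closeChk 1 oct1LE 759 oct1CE = true := by decide +kernel

set_option maxRecDepth 100000 in
theorem oct1_tree : treeOKN (stepKO 1) genN (decK 1) (ent oct1FE 76) 759 = true := by
  decide +kernel

set_option maxRecDepth 100000 in
theorem oct1_codes : treeCodes 1 oct1FE 76 759 oct1LE = true := by decide +kernel

set_option maxRecDepth 100000 in
theorem oct1_root0 : allBelow (fun i => Nat.beq (rootAt 1 oct1FE 76 i) 0) 759 = true := by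
  decide +kernel

theorem oct1_closed : ∀ g ∈ M24, ∀ i < 759, ∃ j < 759,
    g • semK 1 (codeAt 1 oct1LE i) = semK 1 (codeAt 1 oct1LE j) :=
  closeChk_spec 1 oct1LE 759 oct1CE oct1_close

theorem oct1_orbit : ∀ i < 759, ∃ g ∈ M24,
    g • semK 1 (codeAt 1 oct1LE 0) = semK 1 (codeAt 1 oct1LE i) :=
  fam_orbit 1 oct1FE 76 759 oct1LE oct1_tree oct1_codes oct1_root0

end Cfsg.Agent.Lib.Helper9.Leech
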