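import Cfsg.Agent.Lib.Helper9.GolayOrb

set_option autoImplicit false
open Cfsg

namespace Cfsg.Agent.Lib.Helper9.Leech

open scoped Pointwise
open Cfsg.Agent.S5393 Cfsg.Agent.S5548

def ocert : List (List ℕ) := [
  [5279, 337856],
  [5279, 684577],
  [10558, 1369154],
  [21116, 2738308],
  [15777, 5441617],
  [15777, 2512448],
  [18147, 5017889],
  [15777, 1675812],
  [31554, 3351624],
  [63108, 6703248],
  [15777, 5063048],
  [31554, 1737489],
  [45159, 3489985],
  [90318, 6979970],
  [57883, 5709954],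
  [69395, 3050016],
  [138790, 6100032],
  [5279, 4063314],
  [10558, 8126628],
  [21116, 7864649],
  [18147, 7397512],
  [5279, 6379592],
  [5279, 4361520],
  [5279, 1009728, 15762208]]

set_option maxRecDepth 100000 in
theorem ocert_ok : certOK octL gL ocert = true := by decide +kernel

theorem golay_le_span_oct :
    golayCode ≤ Submodule.span (ZMod 2) (toWord '' {x | x ∈ octL}) := by
  have hg : ∀ g ∈ gL, toWord g ∈ Submodule.span (ZMod 2) (toWord '' {x | x ∈ octL}) :=
    certOK_mem octL _ (fun x hx => Submodule.subset_span (Set.mem_image_of_mem toWord hx))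
      gL ocert ocert_ok
  rw [golay_def, Submodule.span_le]
  rintro w (⟨t, rfl⟩ | hw)
  · rw [← toWord_qm]
    exact hg _ (qm_mem t)
  · rw [Set.mem_singleton_iff] at hw
    rw [hw, ← toWord_ones]
    exact hg _ (by unfold gL; simp)

theorem wordsOfWeight_smul (k : ℕ) (τ : Equiv.Perm GolayPt) (hτ : τ ∈ M24) (o : Finset GolayPt)
    (ho : o ∈ wordsOfWeight (golayCode : Set (GolayPt → ZMod 2)) k) :
    τ • o ∈ wordsOfWeight (golayCode : Set (GolayPt → ZMod 2)) k := by
  obtain ⟨u, hu, rfl, hw⟩ := (mem_wordsOfWeight' k o).1 ho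
  rw [mem_wordsOfWeight']
  exact ⟨act τ u, act_mem_of_M24 τ hτ u hu, (smul_support τ u).symm, by rw [wt_act, hw]⟩

theorem octads_smul (τ : Equiv.Perm GolayPt) (hτ : τ ∈ M24) (o : Finset GolayPt)
    (ho : o ∈ octads) : τ • o ∈ octads :=
  wordsOfWeight_smul 8 τ hτ o ho

theorem dodecads_smul (τ : Equiv.Perm GolayPt) (hτ : τ ∈ M24) (o : Finset GolayPt)
    (ho : o ∈ dodecads) : τ • o ∈ dodecads :=
  wordsOfWeight_smul 12 τ hτ o ho

theorem smul_octads_eq (τ : Equiv.Perm GolayPt) (hτ : τ ∈ M24) : τ • octads = octads := by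
  ext o
  constructor
  · rintro ⟨o', ho', rfl⟩
    exact octads_smul τ hτ o' ho'
  · intro ho
    refine ⟨τ⁻¹ • o, octads_smul τ⁻¹ (inv_mem hτ) o ho, ?_⟩
    exact smul_inv_smul τ o

theorem act_mem_of_octads (τ : Equiv.Perm GolayPt) (h : τ • octads = octads) :
    ∀ w ∈ golayCode, act τ w ∈ golayCode := by
  intro w hw
  have h1 : Submodule.map (act τ) (Submodule.span (ZMod 2) (toWord '' {x | x ∈ octL})) ≤
      golayCode := by
    rw [Submodule.map_span_le]
    rintro u ⟨n, hn, rfl⟩
    have h2 : bitsOf n ∈ octads := (mem_octads _).2 ⟨n, hn, rfl⟩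
    have h3 : τ • bitsOf n ∈ τ • octads := Set.smul_mem_smul_set h2
    rw [h] at h3
    obtain ⟨u', hu', hs, _⟩ := (mem_wordsOfWeight' 8 _).1 h3
    have h4 : support₂ u' = support₂ (act τ (toWord n)) := by
      rw [hs]
      exact smul_support τ (toWord n)
    rw [← eq_of_support _ _ h4]
    exact hu'
  exact h1 (Submodule.mem_map_of_mem (golay_le_span_oct hw))

theorem M24_eq_aut_octads : M24 = setSystemAut octads := by
  ext τ
  constructor
  · intro hτ
    exact MulAction.mem_stabilizer_iff.2 (smul_octads_eq τ hτ)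
  · intro hτ
    have h1 : τ • octads = octads := MulAction.mem_stabilizer_iff.1 hτ
    have h2 : τ⁻¹ • octads = octads :=
      MulAction.mem_stabilizer_iff.1 (inv_mem hτ)
    exact mem_M24 τ (act_mem_of_octads τ h1) (act_mem_of_octads τ⁻¹ h2)

end Cfsg.Agent.Lib.Helper9.Leech
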