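import Cfsg.Agent.Lib.Helper9.GolayWt

set_option autoImplicit false
open Cfsg

namespace Cfsg.Agent.Lib.Helper9.Leech

open scoped Pointwise
open Cfsg.Agent.S5393 Cfsg.Agent.S5548

def idx : GolayPt → ℕ
  | none => 23
  | some x => x.val

theorem idx_lt (p : GolayPt) : idx p < 24 := by
  cases p with
  | none => decide
  | some x => exact lt_trans (ZMod.val_lt x) (by decide)

def ptOf (i : ℕ) : GolayPt := if i = 23 then none else some (i : ZMod 23)

theorem idx_ptOf (i : ℕ) (h : i < 24) : idx (ptOf i) = i := by
  unfold ptOf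
  by_cases h1 : i = 23
  · rw [if_pos h1, h1]
    rfl
  · rw [if_neg h1]
    have h2 : i < 23 := by omega
    exact ZMod.val_natCast_of_lt h2

def toWord (n : ℕ) : GolayPt → ZMod 2 := fun p => if n.testBit (idx p) then 1 else 0

theorem toWord_apply (n : ℕ) (p : GolayPt) :
    toWord n p = if n.testBit (idx p) then 1 else 0 := rfl

theorem toWord_zero : toWord 0 = 0 := by
  funext p
  rw [toWord_apply, Nat.zero_testBit]
  rfl

theorem toWord_xor (a b : ℕ) : toWord (a ^^^ b) = toWord a + toWord b := by
  funext p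
  rw [Pi.add_apply, toWord_apply, toWord_apply, toWord_apply, Nat.testBit_xor]
  cases a.testBit (idx p) <;> cases b.testBit (idx p) <;> decide

theorem toWord_one_iff (n : ℕ) (p : GolayPt) : toWord n p = 1 ↔ n.testBit (idx p) = true := by
  rw [toWord_apply]
  cases n.testBit (idx p) <;> decide

theorem toWord_inj (a b : ℕ) (ha : a < 2 ^ 24) (hb : b < 2 ^ 24) (h : toWord a = toWord b) :
    a = b := by
  apply Nat.eq_of_testBit_eq
  intro i
  by_cases hi : i < 24
  · have h1 := congrFun h (ptOf i)
    rw [toWord_apply, toWord_apply, idx_ptOf i hi] at h1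
    revert h1
    cases a.testBit i <;> cases b.testBit i <;> decide
  · have h2 : (2 : ℕ) ^ 24 ≤ 2 ^ i := Nat.pow_le_pow_right (by decide) (by omega)
    rw [Nat.testBit_eq_false_of_lt (lt_of_lt_of_le ha h2),
      Nat.testBit_eq_false_of_lt (lt_of_lt_of_le hb h2)]

def combos : List ℕ → List ℕ
  | [] => [0]
  | b :: bs => combos bs ++ (combos bs).map (fun x => x ^^^ b)

theorem combos_lt (l : List ℕ) (hl : ∀ x ∈ l, x < 2 ^ 24) : ∀ n ∈ combos l, n < 2 ^ 24 := by
  induction l with
  | nil =>
    intro n hn
    rw [combos, List.mem_singleton] at hn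
    rw [hn]
    decide
  | cons b bs ih =>
    intro n hn
    have ih' := ih (fun x hx => hl x (List.mem_cons_of_mem _ hx))
    rw [combos, List.mem_append, List.mem_map] at hn
    rcases hn with hn | ⟨x, hx, rfl⟩
    · exact ih' n hn
    · exact Nat.xor_lt_two_pow (ih' x hx) (hl b List.mem_cons_self)

theorem mem_combos_span (l : List ℕ) :
    ∀ n ∈ combos l, toWord n ∈ Submodule.span (ZMod 2) (toWord '' {x | x ∈ l}) := by
  induction l with
  | nil =>
    intro n hn
    rw [combos, List.mem_singleton] at hn
    rw [hn, toWord_zero]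
    exact Submodule.zero_mem _
  | cons b bs ih =>
    intro n hn
    have hsub : toWord '' {x | x ∈ bs} ⊆ toWord '' {x | x ∈ b :: bs} :=
      Set.image_mono (fun x hx => List.mem_cons_of_mem _ hx)
    rw [combos, List.mem_append, List.mem_map] at hn
    rcases hn with hn | ⟨x, hx, rfl⟩
    · exact Submodule.span_mono hsub (ih n hn)
    · rw [toWord_xor]
      apply Submodule.add_mem
      · exact Submodule.span_mono hsub (ih x hx)
      · exact Submodule.subset_span ⟨b, List.mem_cons_self, rfl⟩

theorem span_combos (l : List ℕ) :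
    ∀ w ∈ Submodule.span (ZMod 2) (toWord '' {x | x ∈ l}), ∃ n ∈ combos l, toWord n = w := by
  induction l with
  | nil =>
    intro w hw
    have h : toWord '' {x | x ∈ ([] : List ℕ)} = ∅ := by
      ext y
      simp
    rw [h, Submodule.span_empty, Submodule.mem_bot] at hw
    exact ⟨0, by rw [combos]; exact List.mem_singleton_self _, by rw [hw, toWord_zero]⟩
  | cons b bs ih =>
    intro w hw
    have h : toWord '' {x | x ∈ b :: bs} = insert (toWord b) (toWord '' {x | x ∈ bs}) := by
      ext y
      simp only [Set.mem_image, Set.mem_ofPred_eq, List.mem_cons, Set.mem_insert_iff]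
      constructor
      · rintro ⟨x, hx | hx, rfl⟩
        · left
          rw [hx]
        · right
          exact ⟨x, hx, rfl⟩
      · rintro (rfl | ⟨x, hx, rfl⟩)
        · exact ⟨b, Or.inl rfl, rfl⟩
        · exact ⟨x, Or.inr hx, rfl⟩
    rw [h, Submodule.mem_span_insert] at hw
    obtain ⟨a, z, hz, rfl⟩ := hw
    obtain ⟨n, hn, rfl⟩ := ih z hz
    rcases z2_cases a with ha | ha
    · refine ⟨n, ?_, ?_⟩
      · rw [combos, List.mem_append]
        exact Or.inl hn
      · rw [ha, zero_smul, zero_add]
    · refine ⟨n ^^^ b, ?_, ?_⟩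
      · rw [combos, List.mem_append, List.mem_map]
        exact Or.inr ⟨n, hn, rfl⟩
      · rw [ha, one_smul, toWord_xor, add_comm]

def xorl : List ℕ → ℕ
  | [] => 0
  | a :: l => a ^^^ xorl l

theorem toWord_xorl (S : Submodule (ZMod 2) (GolayPt → ZMod 2)) (l : List ℕ)
    (h : ∀ x ∈ l, toWord x ∈ S) : toWord (xorl l) ∈ S := by
  induction l with
  | nil =>
    rw [xorl, toWord_zero]
    exact Submodule.zero_mem _
  | cons a l ih =>
    rw [xorl, toWord_xor]
    exact Submodule.add_mem _ (h a List.mem_cons_self)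
      (ih (fun x hx => h x (List.mem_cons_of_mem _ hx)))

end Cfsg.Agent.Lib.Helper9.Leech
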