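import Cfsg.Agent.Lib.Helper9.GolayAut

set_option autoImplicit false
open Cfsg

namespace Cfsg.Agent.Lib.Helper9.Leech

open scoped Pointwise
open Cfsg.Agent.S5393 Cfsg.Agent.S5548

theorem bitsOf_and (a b : ℕ) : bitsOf a ∩ bitsOf b = bitsOf (a &&& b) := by
  ext p
  unfold bitsOf
  rw [Finset.mem_inter, mem_support, mem_support, mem_support, toWord_one_iff, toWord_one_iff,
    toWord_one_iff, Nat.testBit_and, Bool.and_eq_true]

theorem card_inter_bits (a b : ℕ) : (bitsOf a ∩ bitsOf b).card = popc (a &&& b) := by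
  rw [bitsOf_and, card_bitsOf]

theorem smul_dodecads_eq (τ : Equiv.Perm GolayPt) (hτ : τ ∈ M24) : τ • dodecads = dodecads := by
  ext o
  constructor
  · rintro ⟨o', ho', rfl⟩
    exact dodecads_smul τ hτ o' ho'
  · intro ho
    refine ⟨τ⁻¹ • o, dodecads_smul τ⁻¹ (inv_mem hτ) o ho, ?_⟩
    exact smul_inv_smul τ o

theorem ncard_filter (l : List ℕ) (hl : ∀ n ∈ l, n < 2 ^ 24) (hs : List.IsChain (· < ·) l)
    (P : ℕ → Bool) : (bitsOf '' {n | n ∈ l ∧ P n = true}).ncard = (l.filter P).length := by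
  have h1 : {n | n ∈ l ∧ P n = true} = {n | n ∈ l.filter P} := by
    ext n
    simp [List.mem_filter]
  rw [h1]
  apply ncard_of_list
  · intro n hn
    exact hl n (List.mem_filter.1 hn).1
  · exact List.isChain_iff_pairwise.2
      ((List.isChain_iff_pairwise.1 hs).sublist List.filter_sublist)

theorem count_inter (F : Set (Finset GolayPt)) (l : List ℕ)
    (hF : F = bitsOf '' {n | n ∈ l}) (hl : ∀ n ∈ l, n < 2 ^ 24)
    (hs : List.IsChain (· < ·) l) (hinv : ∀ τ ∈ M24, τ • F = F)
    (r : ℕ) (d : Finset GolayPt) (g : Equiv.Perm GolayPt) (hg : g ∈ M24)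
    (hd : g • bitsOf r = d) (k : ℕ) :
    {o | o ∈ F ∧ (o ∩ d).card = k}.ncard =
      (l.filter (fun n => popc (n &&& r) == k)).length := by
  have hcard : ∀ o : Finset GolayPt, (g • o ∩ d).card = (o ∩ bitsOf r).card := by
    intro o
    rw [← hd, ← Finset.smul_finset_inter, Finset.card_smul_finset]
  have h1 : {o | o ∈ F ∧ (o ∩ d).card = k} =
      (fun o => g • o) '' {o | o ∈ F ∧ (o ∩ bitsOf r).card = k} := by
    ext o
    constructor
    · rintro ⟨ho, hk⟩
      refine ⟨g⁻¹ • o, ⟨?_, ?_⟩, smul_inv_smul g o⟩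
      · have h2 : g⁻¹ • o ∈ g⁻¹ • F := Set.smul_mem_smul_set ho
        rw [hinv g⁻¹ (inv_mem hg)] at h2
        exact h2
      · rw [← hcard, smul_inv_smul]
        exact hk
    · rintro ⟨o', ⟨ho', hk⟩, rfl⟩
      refine ⟨?_, ?_⟩
      · have h2 : g • o' ∈ g • F := Set.smul_mem_smul_set ho'
        rw [hinv g hg] at h2
        exact h2
      · change (g • o' ∩ d).card = k
        rw [hcard]
        exact hk
  have h3 : {o | o ∈ F ∧ (o ∩ bitsOf r).card = k} =
      bitsOf '' {n | n ∈ l ∧ (popc (n &&& r) == k) = true} := by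
    ext o
    constructor
    · rintro ⟨ho, hk⟩
      rw [hF] at ho
      obtain ⟨n, hn, rfl⟩ := ho
      refine ⟨n, ⟨hn, ?_⟩, rfl⟩
      rw [card_inter_bits] at hk
      rw [beq_iff_eq]
      exact hk
    · rintro ⟨n, ⟨hn, hk⟩, rfl⟩
      refine ⟨?_, ?_⟩
      · rw [hF]
        exact ⟨n, hn, rfl⟩
      · rw [card_inter_bits]
        rw [beq_iff_eq] at hk
        exact hk
  rw [h1, Set.ncard_image_of_injective _ (MulAction.injective g), h3,
    ncard_filter l hl hs]

theorem dodRoot_mem : dodRoot ∈ dodL := by decide +kernel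

theorem octRoot_mem : octRoot ∈ octL := by decide +kernel

theorem exists_dod (d : Finset GolayPt) (hd : d ∈ dodecads) :
    ∃ g ∈ M24, g • bitsOf dodRoot = d := by
  obtain ⟨g, hg⟩ := dodecads_trans (bitsOf dodRoot) d
    ((mem_dodecads _).2 ⟨dodRoot, dodRoot_mem, rfl⟩) hd
  exact ⟨g, g.2, hg⟩

theorem exists_oct (o : Finset GolayPt) (ho : o ∈ octads) :
    ∃ g ∈ M24, g • bitsOf octRoot = o := by
  obtain ⟨g, hg⟩ := octads_trans (bitsOf octRoot) o
    ((mem_octads _).2 ⟨octRoot, octRoot_mem, rfl⟩) ho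
  exact ⟨g, g.2, hg⟩

set_option maxRecDepth 100000 in
theorem oct_dod_6 : (octL.filter (fun n => popc (n &&& dodRoot) == 6)).length = 132 := by
  decide +kernel

set_option maxRecDepth 100000 in
theorem oct_dod_2 : (octL.filter (fun n => popc (n &&& dodRoot) == 2)).length = 132 := by
  decide +kernel

set_option maxRecDepth 100000 in
theorem oct_dod_4 : (octL.filter (fun n => popc (n &&& dodRoot) == 4)).length = 495 := by
  decide +kernel

set_option maxRecDepth 100000 in
theorem dod_dod_4 : (dodL.filter (fun n => popc (n &&& dodRoot) == 4)).length = 495 := by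
  decide +kernel

set_option maxRecDepth 100000 in
theorem dod_dod_6 : (dodL.filter (fun n => popc (n &&& dodRoot) == 6)).length = 1584 := by
  decide +kernel

set_option maxRecDepth 100000 in
theorem dod_dod_8 : (dodL.filter (fun n => popc (n &&& dodRoot) == 8)).length = 495 := by
  decide +kernel

theorem oct_meet_dod (d : Finset GolayPt) (hd : d ∈ dodecads) (k : ℕ) :
    {o | o ∈ octads ∧ (o ∩ d).card = k}.ncard =
      (octL.filter (fun n => popc (n &&& dodRoot) == k)).length := by
  obtain ⟨g, hg, hgd⟩ := exists_dod d hd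
  exact count_inter octads octL octads_eq octL_lt octL_sorted smul_octads_eq dodRoot d g hg hgd k

theorem dod_meet_dod (d : Finset GolayPt) (hd : d ∈ dodecads) (k : ℕ) :
    {o | o ∈ dodecads ∧ (o ∩ d).card = k}.ncard =
      (dodL.filter (fun n => popc (n &&& dodRoot) == k)).length := by
  obtain ⟨g, hg, hgd⟩ := exists_dod d hd
  exact count_inter dodecads dodL dodecads_eq dodL_lt dodL_sorted smul_dodecads_eq dodRoot d g hg
    hgd k

theorem dod_inter_cases (d d' : Finset GolayPt) (hd : d ∈ dodecads) (hd' : d' ∈ dodecads)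
    (hne : d' ≠ d) : (d ∩ d').card = 0 ∨ (d ∩ d').card = 4 ∨ (d ∩ d').card = 6 ∨
      (d ∩ d').card = 8 := by
  obtain ⟨u, hu, rfl, hwu⟩ := (mem_wordsOfWeight' 12 d).1 hd
  obtain ⟨v, hv, rfl, hwv⟩ := (mem_wordsOfWeight' 12 d').1 hd'
  have h4 := wt_add_card u v
  rw [hwu, hwv] at h4
  have h0 : u + v ≠ 0 := by
    intro h0
    apply hne
    have h5 : v = u := by
      funext p
      have h6 := congrFun h0 p
      rw [Pi.add_apply, Pi.zero_apply] at h6
      have key : ∀ a b : ZMod 2, a + b = 0 → b = a := by decide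
      exact key _ _ h6
    rw [h5]
  have h5 := wt_cases (u + v) (Submodule.add_mem _ hu hv)
  have h6 : wt (u + v) ≠ 0 := fun h => h0 (eq_zero_of_wt _ h)
  omega

end Cfsg.Agent.Lib.Helper9.Leech
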