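import Cfsg.Agent.Lib.Helper9.GolayData

set_option autoImplicit false
open Cfsg

namespace Cfsg.Agent.Lib.Helper9.Leech

open scoped Pointwise
open Cfsg.Agent.S5393 Cfsg.Agent.S5548

theorem qm_ok : ∀ t : ZMod 23, ∀ p : GolayPt, toWord (qmL.getD t.val 0) p = qw t p := by
  decide +kernel

theorem ones_ok : ∀ p : GolayPt, toWord onesM p = 1 := by decide +kernel

theorem qm_mem : ∀ t : ZMod 23, qmL.getD t.val 0 ∈ gL := by decide +kernel

theorem qm_surj : ∀ x ∈ qmL, ∃ t : ZMod 23, qmL.getD t.val 0 = x := by decide +kernel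

theorem toWord_qm (t : ZMod 23) : toWord (qmL.getD t.val 0) = qrWord t := by
  rw [qrWord_eq_qw]
  funext p
  exact qm_ok t p

theorem toWord_ones : toWord onesM = 1 := by
  funext p
  exact ones_ok p

theorem gL_mem : ∀ x ∈ gL, toWord x ∈ golayCode := by
  intro x hx
  unfold gL at hx
  rw [List.mem_append, List.mem_singleton] at hx
  rcases hx with hx | hx
  · obtain ⟨t, rfl⟩ := qm_surj x hx
    rw [toWord_qm]
    exact qr_mem t
  · rw [hx, toWord_ones]
    exact one_mem

def certOK (G : List ℕ) : List ℕ → List (List ℕ) → Bool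
  | [], [] => true
  | b :: bs, l :: ls => (xorl l == b) && l.all (fun x => G.contains x) && certOK G bs ls
  | _, _ => false

theorem certOK_mem (G : List ℕ) (S : Submodule (ZMod 2) (GolayPt → ZMod 2))
    (hG : ∀ x ∈ G, toWord x ∈ S) : ∀ (bs : List ℕ) (ls : List (List ℕ)),
    certOK G bs ls = true → ∀ b ∈ bs, toWord b ∈ S := by
  intro bs
  induction bs with
  | nil =>
    intro ls _ b hb
    exact absurd hb List.not_mem_nil
  | cons a bs ih =>
    intro ls h b hb
    cases ls with
    | nil => exact absurd h (by simp [certOK])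
    | cons l ls =>
      rw [certOK, Bool.and_eq_true, Bool.and_eq_true] at h
      obtain ⟨⟨h1, h2⟩, h3⟩ := h
      rw [List.mem_cons] at hb
      rcases hb with rfl | hb
      · have h4 : xorl l = b := by simpa using h1
        rw [← h4]
        apply toWord_xorl
        intro x hx
        rw [List.all_eq_true] at h2
        have h5 := h2 x hx
        exact hG x (by simpa using h5)
      · exact ih ls h3 b hb

theorem bcert_ok : certOK gL basisD bcert = true := by decide +kernel

theorem gcert_ok : certOK basisD gL gcert = true := by decide +kernel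

theorem golay_eq_span : golayCode = Submodule.span (ZMod 2) (toWord '' {x | x ∈ basisD}) := by
  apply le_antisymm
  · have hg : ∀ g ∈ gL, toWord g ∈ Submodule.span (ZMod 2) (toWord '' {x | x ∈ basisD}) :=
      certOK_mem basisD _ (fun x hx => Submodule.subset_span (Set.mem_image_of_mem toWord hx))
        gL gcert gcert_ok
    rw [golay_def, Submodule.span_le]
    rintro w (⟨t, rfl⟩ | hw)
    · rw [← toWord_qm]
      exact hg _ (qm_mem t)
    · rw [Set.mem_singleton_iff] at hw
      rw [hw, ← toWord_ones]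
      exact hg _ (by unfold gL; simp)
  · rw [Submodule.span_le]
    rintro w ⟨b, hb, rfl⟩
    exact certOK_mem gL golayCode gL_mem basisD bcert bcert_ok b hb

set_option maxRecDepth 100000 in
theorem cw_eq : combos basisD = cwL := by decide +kernel

theorem mem_golay_iff (w : GolayPt → ZMod 2) : w ∈ golayCode ↔ ∃ n ∈ cwL, toWord n = w := by
  rw [golay_eq_span, ← cw_eq]
  constructor
  · exact span_combos basisD w
  · rintro ⟨n, hn, rfl⟩
    exact mem_combos_span basisD n hn

theorem cwL_lt : ∀ n ∈ cwL, n < 2 ^ 24 := by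
  rw [← cw_eq]
  apply combos_lt
  decide

theorem bit_eq (n i : ℕ) : (if n.testBit i then 1 else 0) = (n >>> i) % 2 := by
  rw [Nat.testBit_eq_decide_div_mod_eq, Nat.shiftRight_eq_div_pow]
  rcases Nat.mod_two_eq_zero_or_one (n / 2 ^ i) with h | h
  · rw [h]
    rfl
  · rw [h]
    rfl

theorem card_bits (n : ℕ) : (support₂ (toWord n)).card = popc n := by
  have h1 : support₂ (toWord n) = Finset.univ.filter (fun p => n.testBit (idx p) = true) := by
    ext p
    rw [mem_support, toWord_one_iff, Finset.mem_filter]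
    exact ⟨fun h => ⟨Finset.mem_univ _, h⟩, fun h => h.2⟩
  rw [h1, Finset.card_filter, Fintype.sum_option]
  have h2 : ∑ x : ZMod 23, (if n.testBit (idx (some x)) = true then 1 else 0) =
      ∑ i ∈ Finset.range 23, (if n.testBit i = true then 1 else 0) :=
    Fin.sum_univ_eq_sum_range (fun i => if n.testBit i = true then 1 else 0) 23
  rw [h2, popc_eq]
  have h3 : idx none = 23 := rfl
  simp only [Finset.sum_range_succ, Finset.sum_range_zero, bit_eq, h3]
  rw [Nat.shiftRight_zero]
  ring

theorem wt_toWord (n : ℕ) : wt (toWord n) = (popc n : ℤ) := by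
  rw [wt_eq_card, card_bits]

set_option maxRecDepth 100000 in
theorem oct_eq : cwL.filter (fun n => popc n == 8) = octL := by decide +kernel

set_option maxRecDepth 100000 in
theorem dod_eq : cwL.filter (fun n => popc n == 12) = dodL := by decide +kernel

theorem mem_octL (n : ℕ) : n ∈ octL ↔ n ∈ cwL ∧ popc n = 8 := by
  rw [← oct_eq, List.mem_filter, beq_iff_eq]

theorem mem_dodL (n : ℕ) : n ∈ dodL ↔ n ∈ cwL ∧ popc n = 12 := by
  rw [← dod_eq, List.mem_filter, beq_iff_eq]

def bitsOf (n : ℕ) : Finset GolayPt := support₂ (toWord n)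

theorem card_bitsOf (n : ℕ) : (bitsOf n).card = popc n := card_bits n

theorem mem_wordsOfWeight (k : ℕ) (o : Finset GolayPt) :
    o ∈ wordsOfWeight (golayCode : Set (GolayPt → ZMod 2)) k ↔
      ∃ n ∈ cwL, popc n = k ∧ bitsOf n = o := by
  constructor
  · rintro ⟨⟨w, hw, rfl⟩, hc⟩
    obtain ⟨n, hn, rfl⟩ := (mem_golay_iff w).1 hw
    refine ⟨n, hn, ?_, rfl⟩
    rw [← card_bits]
    exact hc
  · rintro ⟨n, hn, hk, rfl⟩
    refine ⟨⟨toWord n, (mem_golay_iff _).2 ⟨n, hn, rfl⟩, rfl⟩, ?_⟩
    rw [← hk]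
    exact card_bits n

theorem mem_octads (o : Finset GolayPt) : o ∈ octads ↔ ∃ n ∈ octL, bitsOf n = o := by
  unfold octads
  rw [mem_wordsOfWeight]
  constructor
  · rintro ⟨n, hn, hk, rfl⟩
    exact ⟨n, (mem_octL n).2 ⟨hn, hk⟩, rfl⟩
  · rintro ⟨n, hn, rfl⟩
    exact ⟨n, ((mem_octL n).1 hn).1, ((mem_octL n).1 hn).2, rfl⟩

theorem mem_dodecads (o : Finset GolayPt) : o ∈ dodecads ↔ ∃ n ∈ dodL, bitsOf n = o := by
  unfold dodecads
  rw [mem_wordsOfWeight]
  constructor
  · rintro ⟨n, hn, hk, rfl⟩
    exact ⟨n, (mem_dodL n).2 ⟨hn, hk⟩, rfl⟩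
  · rintro ⟨n, hn, rfl⟩
    exact ⟨n, ((mem_dodL n).1 hn).1, ((mem_dodL n).1 hn).2, rfl⟩

theorem bitsOf_inj (a b : ℕ) (ha : a < 2 ^ 24) (hb : b < 2 ^ 24) (h : bitsOf a = bitsOf b) :
    a = b :=
  toWord_inj a b ha hb (eq_of_support _ _ h)

theorem ncard_of_list (l : List ℕ) (hl : ∀ n ∈ l, n < 2 ^ 24) (hs : List.IsChain (· < ·) l) :
    (bitsOf '' {n | n ∈ l}).ncard = l.length := by
  have hinj : Set.InjOn bitsOf {n | n ∈ l} := by
    intro a ha b hb hab
    exact bitsOf_inj a b (hl a ha) (hl b hb) hab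
  rw [Set.InjOn.ncard_image hinj]
  have hnd : l.Nodup := (List.isChain_iff_pairwise.1 hs).imp (fun h => ne_of_lt h)
  have h1 : {n | n ∈ l} = ((l.toFinset : Finset ℕ) : Set ℕ) := by
    ext n
    simp
  rw [h1, Set.ncard_coe_finset, List.toFinset_card_of_nodup hnd]

set_option maxRecDepth 100000 in
theorem octL_sorted : List.IsChain (· < ·) octL := by decide +kernel

set_option maxRecDepth 100000 in
theorem dodL_sorted : List.IsChain (· < ·) dodL := by decide +kernel

set_option maxRecDepth 100000 in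
theorem octL_length : octL.length = 759 := by decide +kernel

set_option maxRecDepth 100000 in
theorem dodL_length : dodL.length = 2576 := by decide +kernel

theorem octL_lt : ∀ n ∈ octL, n < 2 ^ 24 := fun n hn => cwL_lt n ((mem_octL n).1 hn).1

theorem dodL_lt : ∀ n ∈ dodL, n < 2 ^ 24 := fun n hn => cwL_lt n ((mem_dodL n).1 hn).1

theorem octads_eq : octads = bitsOf '' {n | n ∈ octL} := by
  ext o
  rw [mem_octads]
  rfl

theorem dodecads_eq : dodecads = bitsOf '' {n | n ∈ dodL} := by
  ext o
  rw [mem_dodecads]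
  rfl

theorem ncard_octads : octads.ncard = 759 := by
  rw [octads_eq, ncard_of_list octL octL_lt octL_sorted, octL_length]

theorem ncard_dodecads : dodecads.ncard = 2576 := by
  rw [dodecads_eq, ncard_of_list dodL dodL_lt dodL_sorted, dodL_length]

end Cfsg.Agent.Lib.Helper9.Leech
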