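import Cfsg.Agent.Lib.Helper9.GolayEnum

set_option autoImplicit false
open Cfsg

namespace Cfsg.Agent.Lib.Helper9.Leech

open scoped Pointwise
open Cfsg.Agent.S5393 Cfsg.Agent.S5548

theorem inter_card (u v : GolayPt → ZMod 2) :
    ∑ p, lift u p * lift v p = ((support₂ u ∩ support₂ v).card : ℤ) := by
  have h : support₂ u ∩ support₂ v = Finset.univ.filter (fun p => u p = 1 ∧ v p = 1) := by
    ext p
    rw [Finset.mem_inter, mem_support, mem_support, Finset.mem_filter]
    exact ⟨fun h => ⟨Finset.mem_univ _, h⟩, fun h => h.2⟩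
  rw [h, Finset.card_filter, Nat.cast_sum]
  apply Finset.sum_congr rfl
  intro p _
  rcases lift_cases u p with ⟨h1, h2⟩ | ⟨h1, h2⟩ <;>
    rcases lift_cases v p with ⟨h3, h4⟩ | ⟨h3, h4⟩
  · rw [h2, h4, if_neg (by rw [h1, h3]; decide)]
    rfl
  · rw [h2, h4, if_neg (by rw [h1, h3]; decide)]
    rfl
  · rw [h2, h4, if_neg (by rw [h1, h3]; decide)]
    rfl
  · rw [h2, h4, if_pos ⟨h1, h3⟩]
    rfl

theorem wt_add_card (u v : GolayPt → ZMod 2) :
    wt (u + v) = wt u + wt v - 2 * ((support₂ u ∩ support₂ v).card : ℤ) := by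
  rw [wt_add, inter_card]

theorem mem_wordsOfWeight' (k : ℕ) (o : Finset GolayPt) :
    o ∈ wordsOfWeight (golayCode : Set (GolayPt → ZMod 2)) k ↔
      ∃ w ∈ golayCode, support₂ w = o ∧ wt w = k := by
  constructor
  · rintro ⟨⟨w, hw, rfl⟩, hc⟩
    refine ⟨w, hw, rfl, ?_⟩
    rw [wt_eq_card, hc]
  · rintro ⟨w, hw, rfl, hk⟩
    refine ⟨⟨w, hw, rfl⟩, ?_⟩
    rw [wt_eq_card] at hk
    exact_mod_cast hk

theorem octad_unique (b b' s : Finset GolayPt) (hb : b ∈ octads) (hb' : b' ∈ octads)
    (hs : s.card = 5) (h1 : s ⊆ b) (h2 : s ⊆ b') : b = b' := by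
  obtain ⟨u, hu, rfl, hwu⟩ := (mem_wordsOfWeight' 8 b).1 hb
  obtain ⟨v, hv, rfl, hwv⟩ := (mem_wordsOfWeight' 8 b').1 hb'
  have h3 : 5 ≤ (support₂ u ∩ support₂ v).card := by
    rw [← hs]
    exact Finset.card_le_card (Finset.subset_inter h1 h2)
  have h4 := wt_add_card u v
  by_cases h0 : u + v = 0
  · have h5 : u = v := by
      funext p
      have h6 := congrFun h0 p
      rw [Pi.add_apply, Pi.zero_apply] at h6
      have key : ∀ a b : ZMod 2, a + b = 0 → a = b := by decide
      exact key _ _ h6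
    rw [h5]
  · have h5 := min_wt (u + v) (Submodule.add_mem _ hu hv) h0
    have h6 : (5 : ℤ) ≤ ((support₂ u ∩ support₂ v).card : ℤ) := by exact_mod_cast h3
    rw [hwu, hwv] at h4
    omega

theorem octads_finite : (octads : Set (Finset GolayPt)).Finite := Set.toFinite _

noncomputable def octF : Finset (Finset GolayPt) := octads_finite.toFinset

theorem mem_octF (o : Finset GolayPt) : o ∈ octF ↔ o ∈ octads :=
  Set.Finite.mem_toFinset octads_finite

theorem card_octF : octF.card = 759 := by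
  rw [← ncard_octads, Set.ncard_eq_toFinset_card octads octads_finite]
  rfl

theorem octad_card (o : Finset GolayPt) (ho : o ∈ octads) : o.card = 8 := ho.2

theorem octad_exists (s : Finset GolayPt) (hs : s.card = 5) : ∃ b ∈ octads, s ⊆ b := by
  have hdisj : ∀ x ∈ octF, ∀ y ∈ octF, x ≠ y →
      Disjoint (x.powersetCard 5) (y.powersetCard 5) := by
    intro x hx y hy hxy
    rw [Finset.disjoint_left]
    intro t ht1 ht2
    rw [Finset.mem_powersetCard] at ht1 ht2
    exact hxy (octad_unique x y t ((mem_octF x).1 hx) ((mem_octF y).1 hy) ht1.2 ht1.1 ht2.1)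
  have hcard : (octF.biUnion (fun b => b.powersetCard 5)).card = 42504 := by
    rw [Finset.card_biUnion hdisj]
    have h : ∀ b ∈ octF, (b.powersetCard 5).card = 56 := by
      intro b hb
      rw [Finset.card_powersetCard, octad_card b ((mem_octF b).1 hb)]
      decide
    rw [Finset.sum_congr rfl h, Finset.sum_const, card_octF]
    rfl
  have hsub : octF.biUnion (fun b => b.powersetCard 5) ⊆
      (Finset.univ : Finset GolayPt).powersetCard 5 := by
    intro t ht
    rw [Finset.mem_biUnion] at ht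
    obtain ⟨b, _, hb⟩ := ht
    rw [Finset.mem_powersetCard] at hb ⊢
    exact ⟨Finset.subset_univ _, hb.2⟩
  have hall : ((Finset.univ : Finset GolayPt).powersetCard 5).card = 42504 := by
    rw [Finset.card_powersetCard, card_pt]
    decide
  have heq := Finset.eq_of_subset_of_card_le hsub (by rw [hall, hcard])
  have hmem : s ∈ (Finset.univ : Finset GolayPt).powersetCard 5 := by
    rw [Finset.mem_powersetCard]
    exact ⟨Finset.subset_univ _, hs⟩
  rw [← heq, Finset.mem_biUnion] at hmem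
  obtain ⟨b, hb, hsb⟩ := hmem
  rw [Finset.mem_powersetCard] at hsb
  exact ⟨b, (mem_octF b).1 hb, hsb.1⟩

theorem steiner_octads : IsSteinerSystem 5 8 octads := by
  refine ⟨octad_card, ?_⟩
  intro s hs
  obtain ⟨b, hb, hsb⟩ := octad_exists s hs
  exact ⟨b, ⟨hb, hsb⟩, fun b' hb' => octad_unique b' b s hb'.1 hb hs hb'.2 hsb⟩

end Cfsg.Agent.Lib.Helper9.Leech
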