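import Cfsg.Agent.Lib.Helper9.GolayOrbData
import Cfsg.Agent.Lib.Helper9.GolaySteiner

set_option autoImplicit false
open Cfsg

namespace Cfsg.Agent.Lib.Helper9.Leech

open scoped Pointwise
open Cfsg.Agent.S5393 Cfsg.Agent.S5548

def stepOK (pairs : List (ℕ × ℕ)) (a b : ℕ) : Bool :=
  pairs.all (fun ij =>
    Nat.beq (Nat.mod (Nat.shiftRight b ij.2) 2) (Nat.mod (Nat.shiftRight a ij.1) 2))

def TblOK (g : Equiv.Perm GolayPt) (pairs : List (ℕ × ℕ)) : Prop :=
  ∀ p, (idx p, idx (g p)) ∈ pairs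

theorem bit_inj (a b i j : ℕ) (h : (b >>> j) % 2 = (a >>> i) % 2) :
    b.testBit j = a.testBit i := by
  rw [← bit_eq, ← bit_eq] at h
  revert h
  cases b.testBit j <;> cases a.testBit i <;> decide

theorem stepOK_act (g : Equiv.Perm GolayPt) (pairs : List (ℕ × ℕ)) (h : TblOK g pairs)
    (a b : ℕ) (hs : stepOK pairs a b = true) : act g (toWord a) = toWord b := by
  funext q
  rw [act_apply, toWord_apply, toWord_apply]
  have h1 := h (g.symm q)
  rw [Equiv.apply_symm_apply] at h1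
  unfold stepOK at hs
  rw [List.all_eq_true] at hs
  have h2 := hs _ h1
  have h3 : (b >>> idx q) % 2 = (a >>> idx (g.symm q)) % 2 := Nat.eq_of_beq_eq_true h2
  rw [bit_inj a b _ _ h3]

theorem act_mul (σ τ : Equiv.Perm GolayPt) (w : GolayPt → ZMod 2) :
    act (σ * τ) w = act σ (act τ w) := rfl

theorem act_inv_act (σ : Equiv.Perm GolayPt) (w : GolayPt → ZMod 2) :
    act σ⁻¹ (act σ w) = w := by
  have h := act_act_inv σ⁻¹ w
  rw [inv_inv] at h
  exact h

theorem act_one' (w : GolayPt → ZMod 2) : act 1 w = w := rfl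

theorem shift_tbl : ∀ k : ZMod 23, ∀ p : GolayPt,
    (idx p, idx (shiftFun k p)) ∈ gensL.getD k.val [] := by decide +kernel

theorem proj_tbl : ∀ p : GolayPt, (idx p, idx (projInvFun p)) ∈ gensL.getD 23 [] := by
  decide +kernel

theorem cube_tbl : ∀ p : GolayPt, (idx p, idx (cubeTwistFun p)) ∈ gensL.getD 24 [] := by
  decide +kernel

theorem gen_ok (g : ℕ) (hg : g < 25) : ∃ σ ∈ M24, TblOK σ (gensL.getD g []) := by
  rcases lt_or_ge g 23 with h | h
  · refine ⟨shift (g : ZMod 23), shift_mem _, ?_⟩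
    intro p
    have h1 := shift_tbl (g : ZMod 23) p
    rw [ZMod.val_natCast_of_lt h] at h1
    exact h1
  · have h2 : g = 23 ∨ g = 24 := by omega
    rcases h2 with rfl | rfl
    · exact ⟨projInv, projInv_mem, proj_tbl⟩
    · exact ⟨cubeTwist, cubeTwist_mem, cube_tbl⟩

def chainOK (a : ℕ) : List (ℕ × ℕ) → ℕ → Bool
  | [], b => Nat.beq a b
  | gm :: rest, b =>
    Nat.blt gm.1 25 && stepOK (gensL.getD gm.1 []) a gm.2 && chainOK gm.2 rest b

theorem chain_reach : ∀ (path : List (ℕ × ℕ)) (a b : ℕ), chainOK a path b = true →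
    ∃ σ ∈ M24, act σ (toWord a) = toWord b := by
  intro path
  induction path with
  | nil =>
    intro a b h
    have h1 : a = b := Nat.eq_of_beq_eq_true h
    exact ⟨1, Subgroup.one_mem _, by rw [h1]; rfl⟩
  | cons gm rest ih =>
    intro a b h
    rw [chainOK, Bool.and_eq_true, Bool.and_eq_true] at h
    obtain ⟨⟨h1, h2⟩, h3⟩ := h
    have hlt : gm.1 < 25 := by
      rw [Nat.blt_eq] at h1
      exact h1
    obtain ⟨σ, hσ, htbl⟩ := gen_ok gm.1 hlt
    obtain ⟨τ, hτ, hτ2⟩ := ih gm.2 b h3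
    refine ⟨τ * σ, Subgroup.mul_mem _ hτ hσ, ?_⟩
    rw [act_mul, stepOK_act σ _ htbl a gm.2 h2, hτ2]

def descOK (root : ℕ) : List ℕ → List (ℕ × List (ℕ × ℕ)) → Bool
  | [], [] => true
  | m :: ms, c :: cs =>
    (Nat.beq m root || (Nat.blt c.1 m && chainOK c.1 c.2 m)) && descOK root ms cs
  | _, _ => false

theorem descOK_spec (root : ℕ) : ∀ (ms : List ℕ) (cs : List (ℕ × List (ℕ × ℕ))),
    descOK root ms cs = true → ∀ m ∈ ms, m = root ∨
      ∃ par < m, ∃ σ ∈ M24, act σ (toWord par) = toWord m := by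
  intro ms
  induction ms with
  | nil =>
    intro cs _ m hm
    exact absurd hm List.not_mem_nil
  | cons a ms ih =>
    intro cs h m hm
    cases cs with
    | nil => exact absurd h (by simp [descOK])
    | cons c cs =>
      rw [descOK, Bool.and_eq_true] at h
      obtain ⟨h1, h2⟩ := h
      rw [List.mem_cons] at hm
      rcases hm with rfl | hm
      · rw [Bool.or_eq_true] at h1
        rcases h1 with h1 | h1
        · left
          exact Nat.eq_of_beq_eq_true h1
        · right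
          rw [Bool.and_eq_true] at h1
          have hlt : c.1 < m := by
            have h3 := h1.1
            rw [Nat.blt_eq] at h3
            exact h3
          exact ⟨c.1, hlt, chain_reach c.2 c.1 m h1.2⟩
      · exact ih cs h2 m hm

theorem reach_of_desc (k : ℕ) (l : List ℕ) (hl : ∀ n, n ∈ l ↔ n ∈ cwL ∧ popc n = k) (root : ℕ)
    (hd : ∀ m ∈ l, m = root ∨ ∃ par < m, ∃ σ ∈ M24, act σ (toWord par) = toWord m) :
    ∀ m ∈ l, ∃ σ ∈ M24, act σ (toWord root) = toWord m := by
  intro m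
  induction m using Nat.strong_induction_on with
  | _ m ih =>
    intro hm
    rcases hd m hm with rfl | ⟨par, hpar, σ, hσ, hact⟩
    · exact ⟨1, Subgroup.one_mem _, rfl⟩
    · have hm' := (hl m).1 hm
      have hmC : toWord m ∈ golayCode := (mem_golay_iff _).2 ⟨m, hm'.1, rfl⟩
      have hpw : toWord par = act σ⁻¹ (toWord m) := by
        rw [← hact, act_inv_act]
      have hparC : toWord par ∈ golayCode := by
        rw [hpw]
        exact act_mem_of_M24 _ (inv_mem hσ) _ hmC
      obtain ⟨n, hn, hn2⟩ := (mem_golay_iff _).1 hparC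
      have hmlt : m < 2 ^ 24 := cwL_lt m hm'.1
      have hnp : n = par := toWord_inj n par (cwL_lt n hn) (lt_trans hpar hmlt) hn2
      have hparL : par ∈ l := by
        rw [hl, ← hnp]
        refine ⟨hn, ?_⟩
        have h1 : wt (toWord n) = wt (toWord m) := by
          rw [hn2, hpw, wt_act]
        rw [wt_toWord, wt_toWord, hm'.2] at h1
        exact_mod_cast h1
      obtain ⟨τ, hτ, hτ2⟩ := ih par hpar hparL
      exact ⟨σ * τ, Subgroup.mul_mem _ hσ hτ, by rw [act_mul, hτ2, hact]⟩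

set_option maxRecDepth 100000 in
theorem octCert_ok : descOK octRoot octL octCert = true := by decide +kernel

set_option maxRecDepth 100000 in
theorem dodCert_ok : descOK dodRoot dodL dodCert = true := by decide +kernel

theorem oct_reach : ∀ m ∈ octL, ∃ σ ∈ M24, act σ (toWord octRoot) = toWord m :=
  reach_of_desc 8 octL mem_octL octRoot (descOK_spec octRoot octL octCert octCert_ok)

theorem dod_reach : ∀ m ∈ dodL, ∃ σ ∈ M24, act σ (toWord dodRoot) = toWord m :=
  reach_of_desc 12 dodL mem_dodL dodRoot (descOK_spec dodRoot dodL dodCert dodCert_ok)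

theorem trans_of_reach (l : List ℕ) (root : ℕ)
    (h : ∀ m ∈ l, ∃ σ ∈ M24, act σ (toWord root) = toWord m) (n n' : ℕ) (hn : n ∈ l)
    (hn' : n' ∈ l) : ∃ g : M24, g • bitsOf n = bitsOf n' := by
  obtain ⟨σ, hσ, h1⟩ := h n hn
  obtain ⟨τ, hτ, h2⟩ := h n' hn'
  refine ⟨⟨τ * σ⁻¹, Subgroup.mul_mem _ hτ (inv_mem hσ)⟩, ?_⟩
  change (τ * σ⁻¹) • support₂ (toWord n) = support₂ (toWord n')
  rw [smul_support, act_mul, ← h1, act_inv_act, h2]

theorem octads_trans (o o' : Finset GolayPt) (ho : o ∈ octads) (ho' : o' ∈ octads) :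
    ∃ g : M24, g • o = o' := by
  obtain ⟨n, hn, rfl⟩ := (mem_octads o).1 ho
  obtain ⟨n', hn', rfl⟩ := (mem_octads o').1 ho'
  exact trans_of_reach octL octRoot oct_reach n n' hn hn'

theorem dodecads_trans (d d' : Finset GolayPt) (hd : d ∈ dodecads) (hd' : d' ∈ dodecads) :
    ∃ g : M24, g • d = d' := by
  obtain ⟨n, hn, rfl⟩ := (mem_dodecads d).1 hd
  obtain ⟨n', hn', rfl⟩ := (mem_dodecads d').1 hd'
  exact trans_of_reach dodL dodRoot dod_reach n n' hn hn'

end Cfsg.Agent.Lib.Helper9.Leech
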