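import Cfsg.Agent.Lib.Helper9.Leech2

set_option autoImplicit false
open Cfsg

namespace Cfsg.Agent.Lib.Helper9.Leech

open scoped Pointwise
open Cfsg.Agent.S5393 Cfsg.Agent.S5548

theorem wt_eq_card (w : GolayPt → ZMod 2) : wt w = ((support₂ w).card : ℤ) := by
  unfold wt support₂
  rw [Finset.card_filter, Nat.cast_sum]
  apply Finset.sum_congr rfl
  intro p _
  unfold lift
  by_cases h : w p = 0
  · rw [if_pos h, if_neg (not_not.2 h)]
    rfl
  · rw [if_neg h, if_pos h]
    rfl

theorem wt_eq_hamming (w : GolayPt → ZMod 2) : wt w = (hammingNorm w : ℤ) :=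
  wt_eq_card w

theorem wt_compl (w : GolayPt → ZMod 2) : wt (1 + w) = 24 - wt w := by
  rw [wt_add, wt_one]
  have h : ∑ p, lift (1 : GolayPt → ZMod 2) p * lift w p = wt w := by
    unfold wt
    apply Finset.sum_congr rfl
    intro p _
    rw [lift_of_one 1 p rfl, one_mul]
  rw [h]
  ring

theorem wt_cases (w : GolayPt → ZMod 2) (hw : w ∈ golayCode) :
    wt w = 0 ∨ wt w = 8 ∨ wt w = 12 ∨ wt w = 16 ∨ wt w = 24 := by
  by_cases h0 : w = 0
  · left
    rw [h0, wt_zero]
  by_cases h1 : 1 + w = 0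
  · right; right; right; right
    have h2 := wt_compl w
    rw [h1, wt_zero] at h2
    omega
  · have h2 := min_wt w hw h0
    have h3 := min_wt (1 + w) (Submodule.add_mem _ one_mem hw) h1
    have h4 := wt_compl w
    have h5 := four_dvd_wt w hw
    omega

end Cfsg.Agent.Lib.Helper9.Leech
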