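import Cfsg.Agent.Lib.Helper9.OctA8b

set_option autoImplicit false
open Cfsg

namespace Cfsg.Agent.Lib.Helper9.Leech

open scoped Pointwise
open Cfsg.Agent.S5393 Cfsg.Agent.S5548

/-! ### six-point sets: two orbits, represented by `{23,0,1,2,3,t}` for `t = 4, 5` -/

def hexM (t : ℕ) : ℕ := 8388623 + 2 ^ t

def hexL (t : ℕ) : List ℕ := [23, 0, 1, 2, 3, t]

set_option maxRecDepth 100000 in
theorem srchHexIn : srch (fun d a y => locM [] d a y && locPt (hexM 5) d a y)
    (fun t => passM [] t && psPt (hexM 5) t) srLv 0 idN = 16 := by decide +kernel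

set_option maxRecDepth 100000 in
theorem srchHexOut : srch (fun d a y => locM [] d a y && locPt (hexM 4) d a y)
    (fun t => passM [] t && psPt (hexM 4) t) srLv 0 idN = 3 := by decide +kernel

set_option maxRecDepth 100000 in
theorem srchHexSet : srch (fun d a y => locM [hexM 4] d a y && locT d a y)
    (fun t => passM [hexM 4] t && psT t) srLv 0 idN = 2160 := by decide +kernel

set_option maxRecDepth 100000 in
theorem hexOut_chk : octL.all (fun m => !(Nat.beq (popc (hexM 4 &&& m)) 6)) = true := by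
  decide +kernel

theorem hex_ptstab (t : ℕ) : {g | g ∈ M24 ∧ ∀ p ∈ bitsOf (hexM t), g p = p}.ncard =
    srch (fun d a y => locM [] d a y && locPt (hexM t) d a y)
      (fun u => passM [] u && psPt (hexM t) u) srLv 0 idN := by
  rw [← stab_pt_count [] (fun m hm => absurd hm (List.not_mem_nil)) (hexM t)]
  congr 1
  ext g
  simp

theorem hexOut_no_oct (o : Finset GolayPt) (ho : o ∈ octads) : ¬ bitsOf (hexM 4) ⊆ o := by
  intro h
  obtain ⟨m, hm, rfl⟩ := (mem_octads _).1 ho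
  have h1 := (sub_iff_popc _ _).1 h
  have h2 := List.all_eq_true.1 hexOut_chk m hm
  rw [h1] at h2
  exact absurd h2 (by decide +kernel)

theorem hex_base5 : ∀ i < 5, baseL.getD i 0 < 24 ∧ tb octO (baseL.getD i 0) = true ∧
    baseL.getD i 0 ∈ baseL.take 5 ∧ baseL.getD i 0 ∈ baseL.take 6 := by decide +kernel

theorem hex_in3 : ∀ y < 24, y ∉ baseL.take 5 → tb octO y = true → y ∈ orbL 6 := by
  decide +kernel

theorem six_norm (xs : List GolayPt) (hnd : xs.Nodup) (hlen : xs.length = 6) :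
    ∃ g ∈ M24, ∃ t, (t = 4 ∨ t = 5) ∧
      ∀ i (hi : i < xs.length), g (xs[i]) = ptOf ((hexL t).getD i 0) := by
  have hnd5 : (xs.take 5).Nodup := hnd.sublist (List.take_sublist 5 xs)
  have hlen5 : (xs.take 5).length = 5 := by rw [List.length_take, hlen]; rfl
  obtain ⟨g, hg, hgx⟩ := to_base_list (xs.take 5) hnd5 (le_of_eq hlen5) 5 (le_of_eq hlen5.symm)
  have hgx' : ∀ i (hi : i < 5), g (xs[i]'(by omega)) = ptOf (baseL.getD i 0) := by
    intro i hi
    have := hgx i (by omega) hi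
    rw [List.getElem_take] at this
    exact this
  have hy : idx (g (xs[5]'(by omega))) ∉ baseL.take 5 := by
    intro hmem
    rw [List.mem_take_iff_getElem] at hmem
    obtain ⟨j, hj, hjeq⟩ := hmem
    have hj5 : j < 5 := (Nat.lt_min.1 hj).1
    have h1 := hgx' j hj5
    rw [base_getD j (Nat.lt_min.1 hj).2, hjeq, ptOf_idx] at h1
    have h3 : xs[j]'(by omega) = xs[5]'(by omega) := g.injective h1
    have h4 := (List.Nodup.getElem_inj_iff hnd).1 h3
    omega
  have key : ∀ (u : Equiv.Perm GolayPt) (t : ℕ), u ∈ M24 → (t = 4 ∨ t = 5) →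
      (∀ i < 5, u (ptOf (baseL.getD i 0)) = ptOf (baseL.getD i 0)) →
      u (ptOf t) = g (xs[5]'(by omega)) →
      ∃ g ∈ M24, ∃ t, (t = 4 ∨ t = 5) ∧
        ∀ i (hi : i < xs.length), g (xs[i]) = ptOf ((hexL t).getD i 0) := by
    intro u t hu ht hfix hut
    refine ⟨u⁻¹ * g, mul_mem (inv_mem hu) hg, t, ht, ?_⟩
    intro i hi
    rw [Equiv.Perm.mul_apply]
    have hi6 : i < 6 := by omega
    rcases Nat.lt_succ_iff_lt_or_eq.1 hi6 with hlt | heq
    · rw [hgx' i hlt]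
      have e : (hexL t).getD i 0 = baseL.getD i 0 := by
        interval_cases i <;> rfl
      rw [e, Equiv.Perm.inv_eq_iff_eq]
      exact (hfix i hlt).symm
    · subst heq
      rw [← hut]
      change u.symm (u _) = _
      rw [Equiv.symm_apply_apply]
      rfl
  cases htb : tb octO (idx (g (xs[5]'(by omega)))) with
  | false =>
    obtain ⟨k, hkM, hkpt, hk4⟩ := kO_trans _ (idx_lt _) htb
    rw [ptOf_idx] at hk4
    refine key k 4 hkM (Or.inl rfl) ?_ hk4
    intro i hi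
    obtain ⟨h24, htb', _, _⟩ := hex_base5 i hi
    exact hkpt _ ((mem_bits_tb octO _ h24).2 htb')
  | true =>
    have horb := hex_in3 _ (idx_lt _) hy htb
    obtain ⟨u, hu, hfix, hub⟩ := reach 6 (by norm_num) _ horb
    rw [ptOf_idx] at hub
    refine key u 5 (Gcl_le hu) (Or.inr rfl) ?_ hub
    intro i hi
    obtain ⟨_, _, _, h6⟩ := hex_base5 i hi
    exact hfix _ h6

theorem six_set (xs : List GolayPt) (hlen : xs.length = 6) (E : Finset GolayPt)
    (hE : E.card = 6) (hmem : ∀ p ∈ E, p ∈ xs) (g : Equiv.Perm GolayPt) (t : ℕ)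
    (ht : t = 4 ∨ t = 5)
    (h : ∀ i (hi : i < xs.length), g (xs[i]) = ptOf ((hexL t).getD i 0)) :
    g • E = bitsOf (hexM t) := by
  apply Finset.eq_of_subset_of_card_le
  · intro q hq
    obtain ⟨p, hp, rfl⟩ := Finset.mem_smul_finset.1 hq
    obtain ⟨i, hi, rfl⟩ := List.mem_iff_getElem.1 (hmem p hp)
    change g (xs[i]) ∈ _
    rw [h i hi]
    have hi6 : i < 6 := by omega
    rcases ht with rfl | rfl <;> interval_cases i <;>
      exact (mem_bits_tb _ _ (by decide)).2 (by decide +kernel)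
  · rw [card_bitsOf, Finset.card_smul_finset, hE]
    rcases ht with rfl | rfl <;> decide +kernel

theorem hex_cases (E : Finset GolayPt) (hE : E.card = 6) :
    ∃ g ∈ M24, ∃ t, (t = 4 ∨ t = 5) ∧ g • E = bitsOf (hexM t) := by
  have hl : E.toList.length = 6 := by rw [Finset.length_toList, hE]
  obtain ⟨g, hg, t, ht, h⟩ := six_norm E.toList (Finset.nodup_toList E) hl
  exact ⟨g, hg, t, ht, six_set E.toList hl E hE (fun p hp => Finset.mem_toList.2 hp) g t ht h⟩

theorem hexIn_sub : bitsOf (hexM 5) ⊆ bitsOf octO := (sub_iff_popc _ _).2 (by decide +kernel)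

theorem hex_in (E : Finset GolayPt) (g : Equiv.Perm GolayPt) (hg : g ∈ M24)
    (h : g • E = bitsOf (hexM 5)) : ∃ o ∈ octads, E ⊆ o := by
  refine ⟨g⁻¹ • bitsOf octO,
    octads_smul g⁻¹ (inv_mem hg) _ ((mem_octads _).2 ⟨octO, octO_mem, rfl⟩), ?_⟩
  intro p hp
  rw [inv_smul_mem_iff]
  apply hexIn_sub
  rw [← h]
  exact Finset.smul_mem_smul_finset hp

theorem hex_out (E : Finset GolayPt) (g : Equiv.Perm GolayPt) (hg : g ∈ M24)
    (h : g • E = bitsOf (hexM 4)) : ¬ ∃ o ∈ octads, E ⊆ o := by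
  rintro ⟨o, ho, hsub⟩
  apply hexOut_no_oct (g • o) (octads_smul g hg o ho)
  rw [← h]
  exact Finset.smul_finset_subset_smul_finset hsub

theorem hex_sym (E : Finset GolayPt) (hE : E.card = 6) (σ : Equiv.Perm ↥E) :
    ∃ g ∈ M24, ∀ p : ↥E, g p = σ p := by
  classical
  let f : GolayPt → GolayPt := fun x => if h : x ∈ E then ((σ ⟨x, h⟩ : ↥E) : GolayPt) else x
  have hf : ∀ x (h : x ∈ E), f x = ((σ ⟨x, h⟩ : ↥E) : GolayPt) := fun x h => dif_pos h
  have hinj : ∀ x ∈ E, ∀ y ∈ E, f x = f y → x = y := by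
    intro x hx y hy hxy
    rw [hf x hx, hf y hy] at hxy
    have := σ.injective (Subtype.ext hxy)
    exact congrArg Subtype.val this
  have hl : E.toList.length = 6 := by rw [Finset.length_toList, hE]
  have hnd : E.toList.Nodup := Finset.nodup_toList E
  have hnd2 : (E.toList.map f).Nodup :=
    List.Nodup.map_on (fun x hx y hy h =>
      hinj x (Finset.mem_toList.1 hx) y (Finset.mem_toList.1 hy) h) hnd
  have hl2 : (E.toList.map f).length = 6 := by rw [List.length_map, hl]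
  obtain ⟨g1, hg1, t1, ht1, h1⟩ := six_norm E.toList hnd hl
  obtain ⟨g2, hg2, t2, ht2, h2⟩ := six_norm (E.toList.map f) hnd2 hl2
  have s1 := six_set E.toList hl E hE (fun p hp => Finset.mem_toList.2 hp) g1 t1 ht1 h1
  have s2 := six_set (E.toList.map f) hl2 E hE (fun p hp => by
    rw [List.mem_map]
    refine ⟨((σ.symm ⟨p, hp⟩ : ↥E) : GolayPt), Finset.mem_toList.2 (σ.symm ⟨p, hp⟩).2, ?_⟩
    rw [hf _ (σ.symm ⟨p, hp⟩).2]
    change ((σ (σ.symm ⟨p, hp⟩) : ↥E) : GolayPt) = p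
    rw [Equiv.apply_symm_apply]) g2 t2 ht2 h2
  have ht : t1 = t2 := by
    rcases ht1 with rfl | rfl <;> rcases ht2 with rfl | rfl
    · rfl
    · exact absurd (hex_in E g2 hg2 s2) (hex_out E g1 hg1 s1)
    · exact absurd (hex_in E g1 hg1 s1) (hex_out E g2 hg2 s2)
    · rfl
  subst ht
  refine ⟨g2⁻¹ * g1, mul_mem (inv_mem hg2) hg1, ?_⟩
  intro p
  obtain ⟨i, hi, hpi⟩ := List.mem_iff_getElem.1 (Finset.mem_toList.2 p.2)
  have e1 := h1 i hi
  have e2 := h2 i (by rw [hl2, ← hl]; exact hi)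
  rw [List.getElem_map] at e2
  rw [hpi] at e1 e2
  rw [Equiv.Perm.mul_apply, e1, ← e2, hf p.1 p.2]
  change g2.symm (g2 _) = _
  rw [Equiv.symm_apply_apply]

theorem hex_ptcard (E : Finset GolayPt) (g : Equiv.Perm GolayPt) (hg : g ∈ M24) (t : ℕ)
    (h : g • E = bitsOf (hexM t)) :
    Nat.card {x : Equiv.Perm GolayPt // x ∈ M24 ∧ ∀ p ∈ E, x p = p} =
      {x | x ∈ M24 ∧ ∀ p ∈ bitsOf (hexM t), x p = p}.ncard := by
  have e : E = g⁻¹ • bitsOf (hexM t) := by rw [← h, inv_smul_smul]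
  rw [e, ← ptstab_ncard_conj g⁻¹ (inv_mem hg) (bitsOf (hexM t))]
  exact Nat.card_coe_set_eq _

theorem setstab_ncard_conj (σ : Equiv.Perm GolayPt) (hσ : σ ∈ M24) (E : Finset GolayPt) :
    {g | g ∈ M24 ∧ g • (σ • E) = σ • E}.ncard = {g | g ∈ M24 ∧ g • E = E}.ncard := by
  rw [← Nat.card_coe_set_eq, ← Nat.card_coe_set_eq]
  apply Nat.card_congr
  refine Equiv.subtypeEquiv (MulAut.conj σ⁻¹).toEquiv ?_
  intro g
  change (g ∈ M24 ∧ g • (σ • E) = σ • E) ↔
    (σ⁻¹ * g * σ⁻¹⁻¹ ∈ M24 ∧ (σ⁻¹ * g * σ⁻¹⁻¹) • E = E)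
  rw [inv_inv]
  constructor
  · rintro ⟨hg, h⟩
    refine ⟨mul_mem (mul_mem (inv_mem hσ) hg) hσ, ?_⟩
    rw [mul_smul, mul_smul, h, inv_smul_smul]
  · rintro ⟨hg, h⟩
    constructor
    · have e : g = σ * (σ⁻¹ * g * σ) * σ⁻¹ := by group
      rw [e]
      exact mul_mem (mul_mem hσ hg) (inv_mem hσ)
    · rw [mul_smul, mul_smul, inv_smul_eq_iff] at h
      exact h

theorem hex_setcard (E : Finset GolayPt) (g : Equiv.Perm GolayPt) (hg : g ∈ M24)
    (h : g • E = bitsOf (hexM 4)) : Nat.card ↥(MulAction.stabilizer ↥M24 E) = 2160 := by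
  rw [card_sub_eq (MulAction.stabilizer ↥M24 E) (fun x => x • E = E)
    (fun n => MulAction.mem_stabilizer_iff)]
  have e : E = g⁻¹ • bitsOf (hexM 4) := by rw [← h, inv_smul_smul]
  rw [e, setstab_ncard_conj g⁻¹ (inv_mem hg), ← srchHexSet,
    ← stab_count [hexM 4] (by decide +kernel)]
  congr 1
  ext x
  simp

theorem s5600 (E : Finset GolayPt) (hE : E.card = 6) :
    (∀ σ : Equiv.Perm ↥E, ∃ g ∈ M24, ∀ p : ↥E, g p = σ p) ∧
    ((∃ o ∈ octads, E ⊆ o) →
      Nat.card {g : Equiv.Perm GolayPt // g ∈ M24 ∧ ∀ p ∈ E, g p = p} = 16) ∧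
    ((¬ ∃ o ∈ octads, E ⊆ o) →
      Nat.card {g : Equiv.Perm GolayPt // g ∈ M24 ∧ ∀ p ∈ E, g p = p} = 3 ∧
      Nat.card ↥(MulAction.stabilizer M24 E) = 2160) := by
  refine ⟨hex_sym E hE, ?_, ?_⟩
  · intro hoct
    obtain ⟨g, hg, t, ht, h⟩ := hex_cases E hE
    rcases ht with rfl | rfl
    · exact absurd hoct (hex_out E g hg h)
    · rw [hex_ptcard E g hg 5 h, hex_ptstab 5]
      exact srchHexIn
  · intro hno
    obtain ⟨g, hg, t, ht, h⟩ := hex_cases E hE
    rcases ht with rfl | rfl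
    · refine ⟨?_, hex_setcard E g hg h⟩
      rw [hex_ptcard E g hg 4 h, hex_ptstab 4]
      exact srchHexOut
    · exact absurd (hex_in E g hg h) hno

end Cfsg.Agent.Lib.Helper9.Leech
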