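import Cfsg.Agent.Lib.Helper9.RankB
import Cfsg.Agent.Lib.Helper9.KSubData

set_option autoImplicit false
open Cfsg

namespace Cfsg.Agent.Lib.Helper9.Leech

open scoped Pointwise
open Cfsg.Agent.S5393 Cfsg.Agent.S5548

/-! ### all 3-subsets and 2-subsets of the 24 points as masks -/

theorem covGo_mem (obj : ℕ → ℕ) (len : ℕ) : ∀ (l : List ℕ) (i : ℕ),
    covGo obj len i l = true → ∀ j, i ≤ j → j < len → obj j ∈ l := by
  intro l
  induction l with
  | nil =>
    intro i h j hij hj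
    rw [covGo] at h
    have := Nat.eq_of_beq_eq_true h
    omega
  | cons m rest ih =>
    intro i h j hij hj
    rw [covGo, Bool.and_eq_true] at h
    rcases Nat.eq_or_lt_of_le hij with h1 | h1
    · rw [← h1, Nat.eq_of_beq_eq_true h.1]
      exact List.mem_cons_self
    · exact List.mem_cons_of_mem _ (ih (i + 1) h.2 j h1 hj)

def inTri (n : ℕ) : Bool :=
  forceN n (fun n =>
    forceN (Nat.log2 n) (fun a =>
      forceN (Nat.sub n (Nat.pow 2 a)) (fun n1 =>
        forceN (Nat.log2 n1) (fun b =>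
          forceN (Nat.sub n1 (Nat.pow 2 b)) (fun n2 =>
            forceN (Nat.add (Nat.add (Nat.div (Nat.mul (Nat.mul a (Nat.sub a 1)) (Nat.sub a 2)) 6)
                (Nat.div (Nat.mul b (Nat.sub b 1)) 2)) (Nat.log2 n2)) (fun pos =>
              Nat.blt pos 2024 && Nat.beq (ent triE 24 pos) n))))))

def inDu (n : ℕ) : Bool :=
  forceN n (fun n =>
    forceN (Nat.log2 n) (fun a =>
      forceN (Nat.sub n (Nat.pow 2 a)) (fun n1 =>
        forceN (Nat.add (Nat.div (Nat.mul a (Nat.sub a 1)) 2) (Nat.log2 n1)) (fun pos =>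
          Nat.blt pos 276 && Nat.beq (ent duE 24 pos) n))))

set_option maxRecDepth 100000 in
theorem triE_cov : covGo (ent triE 24) 2024 0 triL = true := by decide +kernel

set_option maxRecDepth 100000 in
theorem duE_cov : covGo (ent duE 24) 276 0 duL = true := by decide +kernel

theorem inTri_mem (n : ℕ) (h : inTri n = true) : n ∈ triL := by
  unfold inTri at h
  simp only [forceN_eq, Bool.and_eq_true] at h
  obtain ⟨h1, h2⟩ := h
  rw [← Nat.eq_of_beq_eq_true h2]
  exact covGo_mem _ _ _ 0 triE_cov _ (Nat.zero_le _) (Nat.le_of_ble_eq_true h1)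

theorem inDu_mem (n : ℕ) (h : inDu n = true) : n ∈ duL := by
  unfold inDu at h
  simp only [forceN_eq, Bool.and_eq_true] at h
  obtain ⟨h1, h2⟩ := h
  rw [← Nat.eq_of_beq_eq_true h2]
  exact covGo_mem _ _ _ 0 duE_cov _ (Nat.zero_le _) (Nat.le_of_ble_eq_true h1)

set_option maxRecDepth 100000 in
theorem tri_all_chk : allBelow (fun a => allBelow (fun b => allBelow (fun c =>
    Nat.beq a b || (Nat.beq a c || (Nat.beq b c ||
      inTri (Nat.lor (Nat.lor (Nat.pow 2 a) (Nat.pow 2 b)) (Nat.pow 2 c))))) 24) 24) 24 = true := by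
  decide +kernel

theorem tri_all : ∀ a < 24, ∀ b < 24, ∀ c < 24, a ≠ b → a ≠ c → b ≠ c →
    inTri (Nat.lor (Nat.lor (Nat.pow 2 a) (Nat.pow 2 b)) (Nat.pow 2 c)) = true := by
  intro a ha b hb c hc hab hac hbc
  have h := allBelow_spec _ 24 (allBelow_spec _ 24 (allBelow_spec _ 24 tri_all_chk a ha) b hb) c hc
  simp only [Bool.or_eq_true] at h
  rcases h with h | h | h | h
  · exact absurd (Nat.eq_of_beq_eq_true h) hab
  · exact absurd (Nat.eq_of_beq_eq_true h) hac
  · exact absurd (Nat.eq_of_beq_eq_true h) hbc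
  · exact h

set_option maxRecDepth 100000 in
theorem du_all : ∀ a < 24, ∀ b < 24, a ≠ b →
    inDu (Nat.lor (Nat.pow 2 a) (Nat.pow 2 b)) = true := by
  decide +kernel

set_option maxRecDepth 100000 in
theorem tri_popc : ∀ n ∈ triL, popc n = 3 := by decide +kernel

set_option maxRecDepth 100000 in
theorem du_popc : ∀ n ∈ duL, popc n = 2 := by decide +kernel

set_option maxRecDepth 100000 in
theorem triL_sorted : List.IsChain (· < ·) triL := by decide +kernel

set_option maxRecDepth 100000 in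
theorem duL_sorted : List.IsChain (· < ·) duL := by decide +kernel

set_option maxRecDepth 100000 in
theorem triL_lt : ∀ n ∈ triL, n < 2 ^ 24 := by decide +kernel

set_option maxRecDepth 100000 in
theorem duL_lt : ∀ n ∈ duL, n < 2 ^ 24 := by decide +kernel

theorem bitsOf_mask3 (x y z : GolayPt) :
    bitsOf (2 ^ idx x ||| 2 ^ idx y ||| 2 ^ idx z) = {x, y, z} := by
  ext p
  simp only [mem_bitsOf, Nat.testBit_or, Nat.testBit_two_pow, Bool.or_eq_true,
    decide_eq_true_eq, Finset.mem_insert, Finset.mem_singleton]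
  constructor
  · rintro ((h | h) | h)
    · exact Or.inl (idx_inj _ _ h).symm
    · exact Or.inr (Or.inl (idx_inj _ _ h).symm)
    · exact Or.inr (Or.inr (idx_inj _ _ h).symm)
  · rintro (h | h | h)
    · exact Or.inl (Or.inl (by rw [h]))
    · exact Or.inl (Or.inr (by rw [h]))
    · exact Or.inr (by rw [h])

theorem bitsOf_mask2 (x y : GolayPt) : bitsOf (2 ^ idx x ||| 2 ^ idx y) = {x, y} := by
  ext p
  simp only [mem_bitsOf, Nat.testBit_or, Nat.testBit_two_pow, Bool.or_eq_true,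
    decide_eq_true_eq, Finset.mem_insert, Finset.mem_singleton]
  constructor
  · rintro (h | h)
    · exact Or.inl (idx_inj _ _ h).symm
    · exact Or.inr (idx_inj _ _ h).symm
  · rintro (h | h)
    · exact Or.inl (by rw [h])
    · exact Or.inr (by rw [h])

theorem mem_tri (U : Finset GolayPt) : U.card = 3 ↔ ∃ n ∈ triL, bitsOf n = U := by
  constructor
  · intro h
    obtain ⟨x, y, z, hxy, hxz, hyz, rfl⟩ := Finset.card_eq_three.1 h
    exact ⟨_, inTri_mem _ (tri_all (idx x) (idx_lt x) (idx y) (idx_lt y) (idx z) (idx_lt z)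
      (fun h => hxy (idx_inj _ _ h)) (fun h => hxz (idx_inj _ _ h))
      (fun h => hyz (idx_inj _ _ h))), bitsOf_mask3 x y z⟩
  · rintro ⟨n, hn, rfl⟩
    rw [card_bitsOf]
    exact tri_popc n hn

theorem mem_du (U : Finset GolayPt) : U.card = 2 ↔ ∃ n ∈ duL, bitsOf n = U := by
  constructor
  · intro h
    obtain ⟨x, y, hxy, rfl⟩ := Finset.card_eq_two.1 h
    exact ⟨_, inDu_mem _ (du_all (idx x) (idx_lt x) (idx y) (idx_lt y)
      (fun h => hxy (idx_inj _ _ h))), bitsOf_mask2 x y⟩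
  · rintro ⟨n, hn, rfl⟩
    rw [card_bitsOf]
    exact du_popc n hn

/-! ### mask-level set relations -/

theorem bitsOf_zero : bitsOf 0 = ∅ := by
  rw [← Finset.card_eq_zero, card_bitsOf]
  rfl

theorem disj_iff (a b : ℕ) : Disjoint (bitsOf a) (bitsOf b) ↔ popc (a &&& b) = 0 := by
  rw [Finset.disjoint_iff_inter_eq_empty, ← Finset.card_eq_zero, card_inter_bits]

theorem land_lt (a b : ℕ) (ha : a < 2 ^ 24) : a &&& b < 2 ^ 24 :=
  lt_of_le_of_lt Nat.and_le_left ha

theorem land_eq_zero_of_disj (a b : ℕ) (ha : a < 2 ^ 24)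
    (h : Disjoint (bitsOf a) (bitsOf b)) : a &&& b = 0 := by
  apply bitsOf_inj _ _ (land_lt a b ha) (by norm_num)
  rw [← bitsOf_and, bitsOf_zero]
  exact Finset.disjoint_iff_inter_eq_empty.1 h

theorem disj_of_land_eq_zero (a b : ℕ) (h : a &&& b = 0) : Disjoint (bitsOf a) (bitsOf b) := by
  rw [disj_iff, h]
  rfl

theorem sub_iff_popc (a b : ℕ) : bitsOf a ⊆ bitsOf b ↔ popc (a &&& b) = popc a := by
  rw [← card_inter_bits, ← card_bitsOf a]
  constructor
  · intro h
    rw [Finset.inter_eq_left.2 h]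
  · intro h
    have h1 : bitsOf a ∩ bitsOf b = bitsOf a :=
      Finset.eq_of_subset_of_card_le Finset.inter_subset_left (le_of_eq h.symm)
    exact Finset.inter_eq_left.1 h1

theorem land_eq_of_sub (a b : ℕ) (ha : a < 2 ^ 24) (h : bitsOf a ⊆ bitsOf b) : a &&& b = a := by
  apply bitsOf_inj _ _ (land_lt a b ha) ha
  rw [← bitsOf_and]
  exact Finset.inter_eq_left.2 h

theorem sub_of_land_eq (a b : ℕ) (h : a &&& b = a) : bitsOf a ⊆ bitsOf b := by
  rw [sub_iff_popc, h]

theorem disjoint_smul_iff (σ : Equiv.Perm GolayPt) (s t : Finset GolayPt) :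
    Disjoint (σ • s) (σ • t) ↔ Disjoint s t := by
  rw [Finset.disjoint_iff_inter_eq_empty, Finset.disjoint_iff_inter_eq_empty,
    ← Finset.smul_finset_inter, Finset.smul_finset_eq_empty]

theorem oct_sup_smul (σ : Equiv.Perm GolayPt) (hσ : σ ∈ M24) (s : Finset GolayPt) :
    (∃ o ∈ octads, σ • s ⊆ o) ↔ (∃ o ∈ octads, s ⊆ o) := by
  constructor
  · rintro ⟨o, ho, hs⟩
    exact ⟨σ⁻¹ • o, octads_smul σ⁻¹ (inv_mem hσ) o ho, Finset.smul_finset_subset_iff.1 hs⟩
  · rintro ⟨o, ho, hs⟩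
    exact ⟨σ • o, octads_smul σ hσ o ho, Finset.smul_finset_subset_smul_finset_iff.2 hs⟩

end Cfsg.Agent.Lib.Helper9.Leech
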