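import Cfsg.Agent.S5548

set_option autoImplicit false
open Cfsg

namespace Cfsg.Agent.Lib.Helper9.Leech

open scoped Pointwise
open Cfsg.Agent.S5393 Cfsg.Agent.S5548

theorem z2_cases (a : ZMod 2) : a = 0 ∨ a = 1 := by
  revert a
  decide

theorem mem_support (w : GolayPt → ZMod 2) (p : GolayPt) : p ∈ support₂ w ↔ w p = 1 := by
  unfold support₂
  rw [Finset.mem_filter]
  constructor
  · rintro ⟨_, h⟩
    rcases z2_cases (w p) with h1 | h1
    · exact absurd h1 h
    · exact h1
  · intro h
    exact ⟨Finset.mem_univ _, by rw [h]; exact one_ne_zero⟩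

theorem eq_of_support (u v : GolayPt → ZMod 2) (h : support₂ u = support₂ v) : u = v := by
  funext p
  have h1 : p ∈ support₂ u ↔ p ∈ support₂ v := by rw [h]
  rw [mem_support, mem_support] at h1
  rcases z2_cases (u p) with h2 | h2 <;> rcases z2_cases (v p) with h3 | h3
  · rw [h2, h3]
  · exact absurd (h1.2 h3) (by rw [h2]; exact zero_ne_one)
  · exact absurd (h1.1 h2) (by rw [h3]; exact zero_ne_one)
  · rw [h2, h3]

theorem mem_supports (b : Finset GolayPt) :
    b ∈ supports (golayCode : Set (GolayPt → ZMod 2)) ↔ ∃ w ∈ golayCode, support₂ w = b :=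
  Iff.rfl

def red (c : GolayPt → ℤ) : GolayPt → ZMod 2 := fun i => ((c i : ℤ) : ZMod 2)

theorem red_add (c d : GolayPt → ℤ) : red (c + d) = red c + red d := by
  funext i
  simp [red]

theorem red_zero : red 0 = 0 := by
  funext i
  simp [red]

theorem red_zero_iff (c : GolayPt → ℤ) (i : GolayPt) : red c i = 0 ↔ c i % 2 = 0 := by
  unfold red
  rw [ZMod.intCast_zmod_eq_zero_iff_dvd]
  constructor
  · intro h
    have h2 : (2 : ℤ) ∣ c i := h
    omega
  · intro h
    have h2 : (2 : ℤ) ∣ c i := by omega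
    exact h2

theorem red_one_iff (c : GolayPt → ℤ) (i : GolayPt) : red c i = 1 ↔ c i % 2 = 1 := by
  have h := red_zero_iff c i
  rcases z2_cases (red c i) with h1 | h1
  · rw [h1]
    have h2 := h.1 h1
    constructor
    · intro h3
      exact absurd h3 zero_ne_one
    · intro h3
      omega
  · rw [h1]
    have h2 : ¬ (c i % 2 = 0) := fun h3 => by
      rw [h.2 h3] at h1
      exact zero_ne_one h1
    constructor
    · intro _
      omega
    · intro _
      rfl

def IsL (x : GolayPt → ℤ) : Prop :=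
  ∃ (m : ℤ) (c : GolayPt → ℤ), red c ∈ golayCode ∧ (∀ i, x i = m + 2 * c i) ∧
    (∑ i, x i) % 8 = (4 * m) % 8

theorem isL_of_mem (x : GolayPt → ℤ) (hx : x ∈ leechSet) : IsL x := by
  obtain ⟨m, hpar, hsum, hT⟩ := hx
  refine ⟨m, fun i => (x i - m) / 2, ?_, ?_, hsum⟩
  · obtain ⟨w, hw, hws⟩ := (mem_supports _).1 (hT (m + 2))
    have e : red (fun i => (x i - m) / 2) = w := by
      apply eq_of_support
      rw [hws]
      ext i
      rw [mem_support, red_one_iff, Finset.mem_filter]
      have h1 : x i % 2 = m % 2 := hpar i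
      change (x i - m) / 2 % 2 = 1 ↔ _
      constructor
      · intro h
        refine ⟨Finset.mem_univ _, ?_⟩
        change x i % 4 = (m + 2) % 4
        omega
      · rintro ⟨_, h⟩
        have h2 : x i % 4 = (m + 2) % 4 := h
        omega
    rw [e]
    exact hw
  · intro i
    have h1 : x i % 2 = m % 2 := hpar i
    change x i = m + 2 * ((x i - m) / 2)
    omega

theorem mem_of_isL (x : GolayPt → ℤ) (hx : IsL x) : x ∈ leechSet := by
  obtain ⟨m, c, hc, hxc, hsum⟩ := hx
  refine ⟨m, ?_, hsum, ?_⟩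
  · intro i
    change x i % 2 = m % 2
    rw [hxc i]
    omega
  · intro k
    rw [mem_supports]
    have hr : (k - m) % 4 = 0 ∨ (k - m) % 4 = 2 ∨ (k - m) % 4 = 1 ∨ (k - m) % 4 = 3 := by omega
    rcases hr with hr | hr | hr | hr
    · refine ⟨1 + red c, Submodule.add_mem _ one_mem hc, ?_⟩
      ext i
      rw [mem_support, Finset.mem_filter, Pi.add_apply, Pi.one_apply]
      have h0 := red_zero_iff c i
      constructor
      · intro h
        refine ⟨Finset.mem_univ _, ?_⟩
        change x i % 4 = k % 4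
        rw [hxc i]
        have h1 : red c i = 0 := by
          rcases z2_cases (red c i) with h2 | h2
          · exact h2
          · rw [h2] at h
            exact absurd h (by decide)
        have h3 := h0.1 h1
        omega
      · rintro ⟨_, h⟩
        have h2 : x i % 4 = k % 4 := h
        rw [hxc i] at h2
        have h3 : red c i = 0 := h0.2 (by omega)
        rw [h3]
        decide
    · refine ⟨red c, hc, ?_⟩
      ext i
      rw [mem_support, Finset.mem_filter, red_one_iff]
      constructor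
      · intro h
        refine ⟨Finset.mem_univ _, ?_⟩
        change x i % 4 = k % 4
        rw [hxc i]
        omega
      · rintro ⟨_, h⟩
        have h2 : x i % 4 = k % 4 := h
        rw [hxc i] at h2
        omega
    · refine ⟨0, Submodule.zero_mem _, ?_⟩
      ext i
      rw [mem_support, Finset.mem_filter]
      constructor
      · intro h
        exact absurd h (by simp)
      · rintro ⟨_, h⟩
        have h2 : x i % 4 = k % 4 := h
        rw [hxc i] at h2
        omega
    · refine ⟨0, Submodule.zero_mem _, ?_⟩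
      ext i
      rw [mem_support, Finset.mem_filter]
      constructor
      · intro h
        exact absurd h (by simp)
      · rintro ⟨_, h⟩
        have h2 : x i % 4 = k % 4 := h
        rw [hxc i] at h2
        omega

theorem mem_leechSet_iff (x : GolayPt → ℤ) : x ∈ leechSet ↔ IsL x :=
  ⟨isL_of_mem x, mem_of_isL x⟩

theorem isL_zero : IsL 0 := by
  refine ⟨0, 0, ?_, ?_, ?_⟩
  · rw [red_zero]
    exact Submodule.zero_mem _
  · intro i
    simp
  · simp

theorem isL_add (x y : GolayPt → ℤ) (hx : IsL x) (hy : IsL y) : IsL (x + y) := by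
  obtain ⟨m, c, hc, hxc, hsum⟩ := hx
  obtain ⟨m', c', hc', hxc', hsum'⟩ := hy
  refine ⟨m + m', c + c', ?_, ?_, ?_⟩
  · rw [red_add]
    exact Submodule.add_mem _ hc hc'
  · intro i
    rw [Pi.add_apply, Pi.add_apply, hxc i, hxc' i]
    ring
  · simp only [Pi.add_apply]
    rw [Finset.sum_add_distrib]
    omega

theorem isL_neg (x : GolayPt → ℤ) (hx : IsL x) : IsL (-x) := by
  obtain ⟨m, c, hc, hxc, hsum⟩ := hx
  refine ⟨-m, -c, ?_, ?_, ?_⟩
  · have e : red (-c) = red c := by
      funext i
      simp [red]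
    rw [e]
    exact hc
  · intro i
    rw [Pi.neg_apply, Pi.neg_apply, hxc i]
    ring
  · simp only [Pi.neg_apply]
    rw [Finset.sum_neg_distrib]
    omega

def leechSub : AddSubgroup (GolayPt → ℤ) where
  carrier := leechSet
  add_mem' := fun {a b} ha hb =>
    (mem_leechSet_iff _).2 (isL_add a b ((mem_leechSet_iff a).1 ha) ((mem_leechSet_iff b).1 hb))
  zero_mem' := (mem_leechSet_iff _).2 isL_zero
  neg_mem' := fun {a} ha => (mem_leechSet_iff _).2 (isL_neg a ((mem_leechSet_iff a).1 ha))

theorem leechLattice_eq : leechLattice = leechSub := by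
  apply le_antisymm
  · unfold leechLattice
    rw [AddSubgroup.closure_le]
    exact fun x hx => hx
  · intro x hx
    exact AddSubgroup.subset_closure hx

theorem mem_leechLattice_iff (x : GolayPt → ℤ) : x ∈ leechLattice ↔ IsL x := by
  rw [leechLattice_eq]
  exact mem_leechSet_iff x

def lift (u : GolayPt → ZMod 2) : GolayPt → ℤ := fun i => if u i = 0 then 0 else 1

theorem lift_of_zero (u : GolayPt → ZMod 2) (i : GolayPt) (h : u i = 0) : lift u i = 0 := by
  unfold lift
  rw [if_pos h]

theorem lift_of_one (u : GolayPt → ZMod 2) (i : GolayPt) (h : u i = 1) : lift u i = 1 := by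
  unfold lift
  rw [if_neg (by rw [h]; exact one_ne_zero)]

theorem lift_cases (u : GolayPt → ZMod 2) (i : GolayPt) :
    (u i = 0 ∧ lift u i = 0) ∨ (u i = 1 ∧ lift u i = 1) := by
  rcases z2_cases (u i) with h | h
  · exact Or.inl ⟨h, lift_of_zero u i h⟩
  · exact Or.inr ⟨h, lift_of_one u i h⟩

theorem cast_lift (u : GolayPt → ZMod 2) (i : GolayPt) : ((lift u i : ℤ) : ZMod 2) = u i := by
  rcases lift_cases u i with ⟨h1, h2⟩ | ⟨h1, h2⟩
  · rw [h1, h2, Int.cast_zero]
  · rw [h1, h2, Int.cast_one]

theorem red_lift (u : GolayPt → ZMod 2) : red (lift u) = u := by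
  funext i
  exact cast_lift u i

theorem lift_add (u v : GolayPt → ZMod 2) (i : GolayPt) :
    lift (u + v) i = lift u i + lift v i - 2 * (lift u i * lift v i) := by
  rcases lift_cases u i with ⟨h1, h2⟩ | ⟨h1, h2⟩ <;>
    rcases lift_cases v i with ⟨h3, h4⟩ | ⟨h3, h4⟩
  · rw [h2, h4, lift_of_zero (u + v) i (by rw [Pi.add_apply, h1, h3]; decide)]
    decide
  · rw [h2, h4, lift_of_one (u + v) i (by rw [Pi.add_apply, h1, h3]; decide)]
    decide
  · rw [h2, h4, lift_of_one (u + v) i (by rw [Pi.add_apply, h1, h3]; decide)]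
    decide
  · rw [h2, h4, lift_of_zero (u + v) i (by rw [Pi.add_apply, h1, h3]; decide)]
    decide

def dotL (u : GolayPt → ZMod 2) : (GolayPt → ZMod 2) →ₗ[ZMod 2] ZMod 2 :=
  ∑ p, u p • LinearMap.proj p

theorem dotL_apply (u v : GolayPt → ZMod 2) : dotL u v = ∑ p, u p * v p := by
  unfold dotL
  rw [LinearMap.sum_apply]
  rfl

theorem dotL_comm (u v : GolayPt → ZMod 2) : dotL u v = dotL v u := by
  rw [dotL_apply, dotL_apply]
  exact Finset.sum_congr rfl (fun p _ => mul_comm _ _)

theorem orth_qw0 : ∀ t : ZMod 23, ∑ p : GolayPt, qw 0 p * qw t p = 0 := by decide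

theorem sum_act (g : Equiv.Perm GolayPt) (u v : GolayPt → ZMod 2) :
    ∑ p, act g u p * act g v p = ∑ p, u p * v p :=
  Equiv.sum_comp g.symm (fun p => u p * v p)

theorem orth_qr (s t : ZMod 23) : dotL (qrWord s) (qrWord t) = 0 := by
  have h1 : qrWord s = act (shift s) (qrWord 0) := by rw [act_shift_qr, zero_add]
  have h2 : qrWord t = act (shift s) (qrWord (t - s)) := by rw [act_shift_qr, sub_add_cancel]
  rw [dotL_apply, h1, h2, sum_act, qrWord_eq_qw]
  exact orth_qw0 _

theorem orth_qr_one (s : ZMod 23) : dotL (qrWord s) 1 = 0 := by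
  rw [dotL_apply, qrWord_eq_qw]
  simp only [Pi.one_apply, mul_one]
  exact qw_par s

theorem orth_one_one : dotL (1 : GolayPt → ZMod 2) 1 = 0 := by
  rw [dotL_apply]
  decide

theorem orth_gen (g : GolayPt → ZMod 2) (hg : g ∈ Set.range qrWord ∪ {1})
    (v : GolayPt → ZMod 2) (hv : v ∈ golayCode) : dotL g v = 0 := by
  have h : golayCode ≤ LinearMap.ker (dotL g) := by
    rw [golay_def, Submodule.span_le]
    rintro x hx
    rw [SetLike.mem_coe, LinearMap.mem_ker]
    rcases hg with ⟨s, rfl⟩ | hg
    · rcases hx with ⟨t, rfl⟩ | hx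
      · exact orth_qr s t
      · rw [Set.mem_singleton_iff] at hx
        rw [hx]
        exact orth_qr_one s
    · rw [Set.mem_singleton_iff] at hg
      rw [hg]
      rcases hx with ⟨t, rfl⟩ | hx
      · rw [dotL_comm]
        exact orth_qr_one t
      · rw [Set.mem_singleton_iff] at hx
        rw [hx]
        exact orth_one_one
  exact LinearMap.mem_ker.1 (h hv)

theorem orth (u v : GolayPt → ZMod 2) (hu : u ∈ golayCode) (hv : v ∈ golayCode) :
    ∑ p, u p * v p = 0 := by
  rw [← dotL_apply]
  have h : golayCode ≤ LinearMap.ker (dotL v) := by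
    rw [golay_def, Submodule.span_le]
    rintro x hx
    rw [SetLike.mem_coe, LinearMap.mem_ker, dotL_comm]
    exact orth_gen x hx v hv
  rw [dotL_comm]
  exact LinearMap.mem_ker.1 (h hu)

theorem even_dot (u : GolayPt → ZMod 2) (c : GolayPt → ℤ) (h : ∑ p, u p * red c p = 0) :
    (∑ p, lift u p * c p) % 2 = 0 := by
  have h1 : (((∑ p, lift u p * c p : ℤ)) : ZMod 2) = 0 := by
    rw [Int.cast_sum, ← h]
    apply Finset.sum_congr rfl
    intro p _
    rw [Int.cast_mul, cast_lift]
    rfl
  rw [ZMod.intCast_zmod_eq_zero_iff_dvd] at h1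
  have h2 : (2 : ℤ) ∣ ∑ p, lift u p * c p := h1
  omega

def wt (u : GolayPt → ZMod 2) : ℤ := ∑ p, lift u p

theorem wt_qw : ∀ t : ZMod 23, ∑ p : GolayPt, (if qw t p = 0 then (0 : ℤ) else 1) = 12 := by
  decide

theorem wt_qr (t : ZMod 23) : wt (qrWord t) = 12 := by
  rw [qrWord_eq_qw]
  exact wt_qw t

theorem wt_one : wt (1 : GolayPt → ZMod 2) = 24 := by
  unfold wt lift
  decide

theorem wt_zero : wt (0 : GolayPt → ZMod 2) = 0 := by
  unfold wt lift
  simp

theorem wt_add (u v : GolayPt → ZMod 2) :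
    wt (u + v) = wt u + wt v - 2 * ∑ p, lift u p * lift v p := by
  unfold wt
  rw [Finset.mul_sum, ← Finset.sum_add_distrib, ← Finset.sum_sub_distrib]
  exact Finset.sum_congr rfl (fun p _ => lift_add u v p)

theorem four_dvd_wt (u : GolayPt → ZMod 2) (hu : u ∈ golayCode) : wt u % 4 = 0 := by
  rw [golay_def] at hu
  refine Submodule.span_induction (p := fun u _ => wt u % 4 = 0) ?_ ?_ ?_ ?_ hu
  · rintro x (⟨t, rfl⟩ | hx)
    · rw [wt_qr]
      rfl
    · rw [Set.mem_singleton_iff] at hx
      rw [hx, wt_one]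
      rfl
  · rw [wt_zero]
    rfl
  · intro x y hx hy px py
    rw [wt_add]
    have h := even_dot x (lift y) (by rw [red_lift]; exact orth x y hx hy)
    omega
  · intro a x _ px
    rcases z2_cases a with h | h
    · rw [h, zero_smul, wt_zero]
      rfl
    · rw [h, one_smul]
      exact px

theorem act_mem_of_M24 (σ : Equiv.Perm GolayPt) (hσ : σ ∈ M24) (w : GolayPt → ZMod 2)
    (hw : w ∈ golayCode) : act σ w ∈ golayCode := by
  have h1 : σ • supports (golayCode : Set (GolayPt → ZMod 2)) =
      supports (golayCode : Set (GolayPt → ZMod 2)) := MulAction.mem_stabilizer_iff.1 hσ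
  have h2 : σ • support₂ w ∈ σ • supports (golayCode : Set (GolayPt → ZMod 2)) :=
    Set.smul_mem_smul_set ⟨w, hw, rfl⟩
  rw [h1, mem_supports] at h2
  obtain ⟨w', hw', e⟩ := h2
  rw [smul_support] at e
  rw [← eq_of_support _ _ e]
  exact hw'

theorem isL_perm (σ : Equiv.Perm GolayPt) (hσ : σ ∈ M24) (x : GolayPt → ℤ) (hx : IsL x) :
    IsL (fun i => x (σ i)) := by
  obtain ⟨m, c, hc, hxc, hsum⟩ := hx
  refine ⟨m, fun i => c (σ i), ?_, fun i => hxc (σ i), ?_⟩
  · have e : red (fun i => c (σ i)) = act σ⁻¹ (red c) := by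
      funext i
      rw [act_inv_apply]
      rfl
    rw [e]
    exact act_mem_of_M24 _ (inv_mem hσ) _ hc
  · rw [Equiv.sum_comp σ x]
    exact hsum

theorem isL_sign (u : GolayPt → ZMod 2) (hu : u ∈ golayCode) (x : GolayPt → ℤ) (hx : IsL x) :
    IsL (fun i => if u i = 1 then - x i else x i) := by
  obtain ⟨m, c, hc, hxc, hsum⟩ := hx
  refine ⟨m, fun i => if u i = 1 then - m - c i else c i, ?_, ?_, ?_⟩
  · have e : red (fun i => if u i = 1 then - m - c i else c i) =
        red c + ((m : ℤ) : ZMod 2) • u := by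
      funext i
      rw [Pi.add_apply, Pi.smul_apply, smul_eq_mul]
      unfold red
      beta_reduce
      rcases z2_cases (u i) with h | h
      · rw [h, if_neg (by decide), mul_zero, add_zero]
      · rw [h, if_pos rfl, mul_one, Int.cast_sub, Int.cast_neg]
        have key : ∀ a b : ZMod 2, -a - b = b + a := by decide
        exact key _ _
    rw [e]
    exact Submodule.add_mem _ hc (Submodule.smul_mem _ _ hu)
  · intro i
    beta_reduce
    by_cases h : u i = 1
    · rw [if_pos h, if_pos h, hxc i]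
      ring
    · rw [if_neg h, if_neg h, hxc i]
  · have h1 : ∀ i, (if u i = 1 then - x i else x i) = x i - 2 * (lift u i * x i) := by
      intro i
      rcases lift_cases u i with ⟨h2, h3⟩ | ⟨h2, h3⟩
      · rw [h3, if_neg (by rw [h2]; decide)]
        ring
      · rw [h3, if_pos h2]
        ring
    beta_reduce
    rw [Finset.sum_congr rfl (fun i _ => h1 i), Finset.sum_sub_distrib, ← Finset.mul_sum]
    have h2 : ∑ i, lift u i * x i = m * wt u + 2 * ∑ i, lift u i * c i := by
      unfold wt
      rw [Finset.mul_sum, Finset.mul_sum, ← Finset.sum_add_distrib]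
      apply Finset.sum_congr rfl
      intro i _
      rw [hxc i]
      ring
    have h3 := four_dvd_wt u hu
    have h4 := even_dot u c (orth u (red c) hu hc)
    obtain ⟨a, ha⟩ : ∃ a, wt u = 4 * a := ⟨wt u / 4, by omega⟩
    obtain ⟨d, hd⟩ : ∃ d, ∑ i, lift u i * c i = 2 * d := ⟨(∑ i, lift u i * c i) / 2, by omega⟩
    have h5 : ∑ i, lift u i * x i = 4 * (m * a + d) := by
      rw [h2, ha, hd]
      ring
    rw [h5]
    omega

end Cfsg.Agent.Lib.Helper9.Leech
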