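import Cfsg.Agent.Lib.Helper9.Leech

set_option autoImplicit false
open Cfsg

namespace Cfsg.Agent.Lib.Helper9.Leech

open scoped Pointwise
open Cfsg.Agent.S5393 Cfsg.Agent.S5548

theorem card_pt : (Finset.univ : Finset GolayPt).card = 24 := by decide

theorem sq_sub_lift (c : GolayPt → ℤ) (i : GolayPt) : (4 : ℤ) ∣ c i ^ 2 - lift (red c) i := by
  rcases lift_cases (red c) i with ⟨h1, h2⟩ | ⟨h1, h2⟩
  · rw [h2]
    have h3 := (red_zero_iff c i).1 h1
    obtain ⟨k, hk⟩ : ∃ k, c i = 2 * k := ⟨c i / 2, by omega⟩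
    exact ⟨k ^ 2, by rw [hk]; ring⟩
  · rw [h2]
    have h3 := (red_one_iff c i).1 h1
    obtain ⟨k, hk⟩ : ∃ k, c i = 2 * k + 1 := ⟨c i / 2, by omega⟩
    exact ⟨k ^ 2 + k, by rw [hk]; ring⟩

theorem sum_sq_eq (c : GolayPt → ℤ) : ∃ j : ℤ, ∑ i, c i ^ 2 = wt (red c) + 4 * j := by
  have h : (4 : ℤ) ∣ ∑ i, (c i ^ 2 - lift (red c) i) :=
    Finset.dvd_sum (fun i _ => sq_sub_lift c i)
  obtain ⟨j, hj⟩ := h
  refine ⟨j, ?_⟩
  rw [Finset.sum_sub_distrib] at hj
  unfold wt
  linarith

theorem sqNorm_isL (x : GolayPt → ℤ) (hx : IsL x) : (16 : ℤ) ∣ sqNorm x := by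
  obtain ⟨m, c, hc, hxc, hsum⟩ := hx
  have h1 : sqNorm x = 24 * m ^ 2 + 4 * m * (∑ i, c i) + 4 * ∑ i, c i ^ 2 := by
    unfold sqNorm
    have h : ∀ i, x i ^ 2 = m ^ 2 + (4 * m * c i + 4 * c i ^ 2) := by
      intro i
      rw [hxc i]
      ring
    rw [Finset.sum_congr rfl (fun i _ => h i), Finset.sum_add_distrib, Finset.sum_add_distrib,
      Finset.sum_const, card_pt, ← Finset.mul_sum, ← Finset.mul_sum]
    ring
  have h2 : ∑ i, x i = 24 * m + 2 * ∑ i, c i := by
    rw [Finset.sum_congr rfl (fun i _ => hxc i), Finset.sum_add_distrib, Finset.sum_const,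
      card_pt, ← Finset.mul_sum]
    ring
  obtain ⟨j, hj⟩ := sum_sq_eq c
  have h3 := four_dvd_wt (red c) hc
  obtain ⟨a, ha⟩ : ∃ a, wt (red c) = 4 * a := ⟨wt (red c) / 4, by omega⟩
  obtain ⟨k, hk⟩ : ∃ k, ∑ i, x i = 4 * m + 8 * k := ⟨(∑ i, x i - 4 * m) / 8, by omega⟩
  have hS : ∑ i, c i = 4 * k - 10 * m := by linarith
  refine ⟨- m ^ 2 + m * k + a + j, ?_⟩
  rw [h1, hS, hj, ha]
  ring

theorem sqNorm_dvd (x : GolayPt → ℤ) (hx : x ∈ leechLattice) : (16 : ℤ) ∣ sqNorm x :=
  sqNorm_isL x ((mem_leechLattice_iff x).1 hx)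

theorem lift_nonneg (u : GolayPt → ZMod 2) (i : GolayPt) : 0 ≤ lift u i := by
  rcases lift_cases u i with ⟨_, h2⟩ | ⟨_, h2⟩
  · rw [h2]
  · rw [h2]
    exact zero_le_one

theorem wt_nonneg (u : GolayPt → ZMod 2) : 0 ≤ wt u :=
  Finset.sum_nonneg (fun i _ => lift_nonneg u i)

theorem eq_zero_of_wt (u : GolayPt → ZMod 2) (h : wt u = 0) : u = 0 := by
  funext i
  have h1 := (Finset.sum_eq_zero_iff_of_nonneg (fun i _ => lift_nonneg u i)).1 h i
    (Finset.mem_univ i)
  rcases lift_cases u i with ⟨h2, _⟩ | ⟨_, h3⟩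
  · exact h2
  · rw [h3] at h1
    exact absurd h1 one_ne_zero

theorem wt_act (g : Equiv.Perm GolayPt) (u : GolayPt → ZMod 2) : wt (act g u) = wt u :=
  Equiv.sum_comp g.symm (fun p => lift u p)

theorem wt_split (u : GolayPt → ZMod 2) : wt u = lift u none + ∑ x : ZMod 23, lift u (some x) := by
  unfold wt
  rw [Fintype.sum_option]

theorem tri_check : ∀ b c : ZMod 23, b ≠ 0 → c ≠ 0 → b ≠ c →
    ∃ t : ZMod 23, qw t (some 0) + qw t (some b) + qw t (some c) ≠ 0 := by decide

theorem no_wt4_aux (u : GolayPt → ZMod 2) (hu : u ∈ golayCode) (hw : wt u = 4)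
    (h1 : u none = 1) (h2 : u (some 0) = 1) : False := by
  obtain ⟨T, hT⟩ : ∃ T : Finset (ZMod 23), T = Finset.univ.filter (fun x => u (some x) = 1) :=
    ⟨_, rfl⟩
  have hmem : ∀ x, x ∈ T ↔ u (some x) = 1 := by
    intro x
    rw [hT, Finset.mem_filter]
    exact ⟨fun h => h.2, fun h => ⟨Finset.mem_univ _, h⟩⟩
  have hlift : ∀ x : ZMod 23, lift u (some x) = if u (some x) = 1 then 1 else 0 := by
    intro x
    rcases lift_cases u (some x) with ⟨h3, h4⟩ | ⟨h3, h4⟩
    · rw [h4, if_neg (by rw [h3]; decide)]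
    · rw [h4, if_pos h3]
  have hcard : (T.card : ℤ) = 3 := by
    rw [wt_split, lift_of_one u none h1, Finset.sum_congr rfl (fun x _ => hlift x),
      ← Finset.sum_filter, ← hT, Finset.sum_const] at hw
    simp only [nsmul_eq_mul, mul_one] at hw
    linarith
  have hcard' : T.card = 3 := by exact_mod_cast hcard
  have h0 : (0 : ZMod 23) ∈ T := (hmem 0).2 h2
  have he : (T.erase 0).card = 2 := by
    rw [Finset.card_erase_of_mem h0, hcard']
  obtain ⟨b, c, hbc, hpair⟩ := Finset.card_eq_two.1 he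
  have hb : b ∈ T.erase 0 := by
    rw [hpair]
    exact Finset.mem_insert_self _ _
  have hc : c ∈ T.erase 0 := by
    rw [hpair]
    exact Finset.mem_insert_of_mem (Finset.mem_singleton_self _)
  have hb0 : b ≠ 0 := (Finset.mem_erase.1 hb).1
  have hc0 : c ≠ 0 := (Finset.mem_erase.1 hc).1
  obtain ⟨t, ht⟩ := tri_check b c hb0 hc0 hbc
  apply ht
  have ho := orth u (qrWord t) hu (qr_mem t)
  rw [qrWord_eq_qw, Fintype.sum_option] at ho
  have hq : qw t none = 0 := rfl
  rw [hq, mul_zero, zero_add] at ho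
  have hmul : ∀ x : ZMod 23, u (some x) * qw t (some x) =
      if u (some x) = 1 then qw t (some x) else 0 := by
    intro x
    rcases z2_cases (u (some x)) with h3 | h3
    · rw [h3, zero_mul, if_neg (by decide)]
    · rw [h3, one_mul, if_pos rfl]
  rw [Finset.sum_congr rfl (fun x _ => hmul x), ← Finset.sum_filter, ← hT,
    ← Finset.insert_erase h0, Finset.sum_insert (Finset.notMem_erase _ _), hpair,
    Finset.sum_pair hbc] at ho
  rw [← ho]
  ring

theorem exists_some_one (u : GolayPt → ZMod 2) (hw : wt u = 4) : ∃ x : ZMod 23, u (some x) = 1 := by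
  by_contra hcon
  push Not at hcon
  have h : ∀ x : ZMod 23, lift u (some x) = 0 := by
    intro x
    rcases lift_cases u (some x) with ⟨_, h4⟩ | ⟨h3, _⟩
    · exact h4
    · exact absurd h3 (hcon x)
  rw [wt_split, Finset.sum_congr rfl (fun x _ => h x), Finset.sum_const_zero, add_zero] at hw
  rcases lift_cases u none with ⟨_, h4⟩ | ⟨_, h4⟩
  · rw [h4] at hw
    omega
  · rw [h4] at hw
    omega

theorem shift_at_zero (u : GolayPt → ZMod 2) (x : ZMod 23) :
    act (shift (-x)) u (some 0) = u (some x) := by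
  rw [act_apply, shift_symm_some, neg_neg, zero_add]

theorem no_wt4 (u : GolayPt → ZMod 2) (hu : u ∈ golayCode) (hw : wt u = 4) : False := by
  have hs : ∀ a : ZMod 23, ∀ w ∈ golayCode, act (shift a) w ∈ golayCode :=
    fun a w hw => act_mem_of_M24 _ (shift_mem a) w hw
  have key : ∀ u1 : GolayPt → ZMod 2, u1 ∈ golayCode → wt u1 = 4 → u1 none = 1 → False := by
    intro u1 hu1 hw1 h1
    obtain ⟨x, hx⟩ := exists_some_one u1 hw1
    refine no_wt4_aux (act (shift (-x)) u1) (hs _ _ hu1) ?_ ?_ ?_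
    · rw [wt_act]
      exact hw1
    · exact h1
    · rw [shift_at_zero]
      exact hx
  rcases z2_cases (u none) with h | h
  · obtain ⟨x, hx⟩ := exists_some_one u hw
    refine key (act projInv (act (shift (-x)) u))
      (act_mem_of_M24 _ projInv_mem _ (hs _ _ hu)) ?_ ?_
    · rw [wt_act, wt_act]
      exact hw
    · have e : act projInv (act (shift (-x)) u) none = act (shift (-x)) u (some 0) := rfl
      rw [e, shift_at_zero]
      exact hx
  · exact key u hu hw h

theorem min_wt (u : GolayPt → ZMod 2) (hu : u ∈ golayCode) (h0 : u ≠ 0) : 8 ≤ wt u := by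
  have h1 := four_dvd_wt u hu
  have h2 := wt_nonneg u
  have h3 : wt u ≠ 0 := fun h => h0 (eq_zero_of_wt u h)
  have h4 : wt u ≠ 4 := fun h => no_wt4 u hu h
  omega

theorem sq_sub_self_dvd (z : ℤ) : (2 : ℤ) ∣ z ^ 2 - z := by
  rcases Int.emod_two_eq_zero_or_one z with h | h
  · obtain ⟨k, hk⟩ : ∃ k, z = 2 * k := ⟨z / 2, by omega⟩
    exact ⟨2 * k ^ 2 - k, by rw [hk]; ring⟩
  · obtain ⟨k, hk⟩ : ∃ k, z = 2 * k + 1 := ⟨z / 2, by omega⟩
    exact ⟨2 * k ^ 2 + k, by rw [hk]; ring⟩

theorem one_le_sq (a : ℤ) (h : a ≠ 0) : 1 ≤ a ^ 2 := by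
  have h1 := sq_nonneg a
  have h2 : a ^ 2 ≠ 0 := pow_ne_zero 2 h
  omega

theorem min_norm_isL (x : GolayPt → ℤ) (hx : IsL x) (h0 : x ≠ 0) : 32 ≤ sqNorm x := by
  have h16 := sqNorm_isL x hx
  obtain ⟨m, c, hc, hxc, hsum⟩ := hx
  rcases Int.emod_two_eq_zero_or_one m with hm | hm
  · obtain ⟨y, hy⟩ : ∃ y : GolayPt → ℤ, y = fun i => m / 2 + c i := ⟨_, rfl⟩
    have hy' : ∀ i, y i = m / 2 + c i := fun i => by rw [hy]
    have hxy : ∀ i, x i = 2 * y i := by
      intro i
      rw [hxc i, hy' i]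
      omega
    have hred : red y ∈ golayCode := by
      have e : red y = red c + ((m / 2 : ℤ) : ZMod 2) • (1 : GolayPt → ZMod 2) := by
        funext i
        unfold red
        rw [hy' i, Int.cast_add, Pi.add_apply, Pi.smul_apply, Pi.one_apply, smul_eq_mul, mul_one,
          add_comm]
      rw [e]
      exact Submodule.add_mem _ hc (Submodule.smul_mem _ _ one_mem)
    by_cases hu : red y = 0
    · obtain ⟨z, hz⟩ : ∃ z : GolayPt → ℤ, z = fun i => y i / 2 := ⟨_, rfl⟩
      have hz' : ∀ i, z i = y i / 2 := fun i => by rw [hz]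
      have hxz : ∀ i, x i = 4 * z i := by
        intro i
        have h1 : red y i = 0 := by rw [hu]; rfl
        have h2 := (red_zero_iff y i).1 h1
        rw [hxy i, hz' i]
        omega
      have hn : sqNorm x = 16 * ∑ i, z i ^ 2 := by
        unfold sqNorm
        rw [Finset.mul_sum]
        apply Finset.sum_congr rfl
        intro i _
        rw [hxz i]
        ring
      have hs : ∑ i, x i = 4 * ∑ i, z i := by
        rw [Finset.mul_sum]
        exact Finset.sum_congr rfl (fun i _ => hxz i)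
      have hpar : (∑ i, z i ^ 2 - ∑ i, z i) % 2 = 0 := by
        rw [← Finset.sum_sub_distrib]
        have h : (2 : ℤ) ∣ ∑ i, (z i ^ 2 - z i) :=
          Finset.dvd_sum (fun i _ => sq_sub_self_dvd (z i))
        omega
      have hpos : 0 < ∑ i, z i ^ 2 := by
        by_contra hcon
        have hzero : ∑ i, z i ^ 2 = 0 :=
          le_antisymm (not_lt.1 hcon) (Finset.sum_nonneg (fun i _ => sq_nonneg _))
        have hz0 := (Finset.sum_eq_zero_iff_of_nonneg (fun i _ => sq_nonneg (z i))).1 hzero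
        apply h0
        funext i
        have h1 := hz0 i (Finset.mem_univ i)
        have h2 : z i = 0 := by
          by_contra h3
          exact pow_ne_zero 2 h3 h1
        rw [hxz i, h2]
        rfl
      rw [hn]
      rw [hs] at hsum
      omega
    · have h8 := min_wt (red y) hred hu
      have hge : ∀ i, 4 * lift (red y) i ≤ x i ^ 2 := by
        intro i
        rcases lift_cases (red y) i with ⟨_, h2⟩ | ⟨h1, h2⟩
        · rw [h2]
          exact sq_nonneg _
        · rw [h2, hxy i]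
          have h3 := (red_one_iff y i).1 h1
          have h4 : y i ≠ 0 := by
            intro h
            rw [h] at h3
            omega
          have h5 := one_le_sq (y i) h4
          nlinarith
      have h6 : 4 * wt (red y) ≤ sqNorm x := by
        unfold wt sqNorm
        rw [Finset.mul_sum]
        exact Finset.sum_le_sum (fun i _ => hge i)
      omega
  · have hge : ∀ i, 1 ≤ x i ^ 2 := by
      intro i
      apply one_le_sq
      rw [hxc i]
      omega
    have h24 : 24 ≤ sqNorm x := by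
      unfold sqNorm
      have h := Finset.sum_le_sum (fun i (_ : i ∈ Finset.univ) => hge i)
      rw [Finset.sum_const, card_pt] at h
      simpa using h
    omega

theorem min_norm (x : GolayPt → ℤ) (hx : x ∈ leechLattice) (h0 : x ≠ 0) : 32 ≤ sqNorm x :=
  min_norm_isL x ((mem_leechLattice_iff x).1 hx) h0

theorem parallelogram (v w : GolayPt → ℤ) :
    sqNorm (v - w) + sqNorm (v + w) = 2 * sqNorm v + 2 * sqNorm w := by
  unfold sqNorm
  rw [← Finset.sum_add_distrib, Finset.mul_sum, Finset.mul_sum, ← Finset.sum_add_distrib]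
  apply Finset.sum_congr rfl
  intro i _
  rw [Pi.sub_apply, Pi.add_apply]
  ring

theorem sqNorm_two (z : GolayPt → ℤ) : sqNorm (2 • z) = 4 * sqNorm z := by
  unfold sqNorm
  rw [Finset.mul_sum]
  apply Finset.sum_congr rfl
  intro i _
  rw [Pi.smul_apply]
  simp only [nsmul_eq_mul, Nat.cast_ofNat]
  ring

theorem sqNorm_sub (v w : GolayPt → ℤ) :
    sqNorm (v - w) = sqNorm v + sqNorm w - 2 * dotInt v w := by
  unfold sqNorm dotInt
  rw [Finset.mul_sum, ← Finset.sum_add_distrib, ← Finset.sum_sub_distrib]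
  apply Finset.sum_congr rfl
  intro i _
  rw [Pi.sub_apply]
  ring

theorem cong_core (v w : GolayPt → ℤ) (hw : w ∈ leechLattice)
    (hvn : sqNorm v ≤ 64) (hwn : sqNorm w ≤ 64) (hc : ∃ z ∈ leechLattice, v - w = 2 • z)
    (h1 : v ≠ w) (h2 : v ≠ -w) : sqNorm v = 64 ∧ sqNorm w = 64 ∧ dotInt v w = 0 := by
  obtain ⟨z, hz, hvw⟩ := hc
  have hz0 : z ≠ 0 := by
    intro h
    rw [h, smul_zero] at hvw
    exact h1 (sub_eq_zero.1 hvw)
  have hvw2 : v + w = 2 • (z + w) := by
    rw [smul_add, ← hvw, two_smul]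
    abel
  have hzw : z + w ∈ leechLattice := leechLattice.add_mem hz hw
  have hzw0 : z + w ≠ 0 := by
    intro h
    rw [h, smul_zero] at hvw2
    exact h2 (eq_neg_of_add_eq_zero_left hvw2)
  have ha := min_norm z hz hz0
  have hb := min_norm (z + w) hzw hzw0
  have hp := parallelogram v w
  have hs := sqNorm_sub v w
  rw [hvw, sqNorm_two] at hs
  rw [hvw, hvw2, sqNorm_two, sqNorm_two] at hp
  refine ⟨by omega, by omega, by omega⟩

end Cfsg.Agent.Lib.Helper9.Leech
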