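import Cfsg.Agent.Lib.Helper9.M24Data

set_option autoImplicit false

namespace Cfsg.Agent.Lib.Helper9.Leech

def m11L1 : ℕ := 0x3ba35b40ac53c83bac4199a886a640538efb26adbd0c85c4612ca6c112007deab889cca4e045583228ce9321a0aa8b75b5c87d2493d82698a3020d809d1f7730a689da4b2c4354aa1441207d5d488af2b14d09ada3530e9205008b965b4a683d52255da1a11e3640c02ce8b736b23a846b4468bc1e1624809c687521c22d4925d8297b2e683460a2df138dcd99526bd830aa14493040bdab49ca307b9ac5a928398a418820

def m11L2 : ℕ := 0x9b967b11ec55cc22d109ac2236c8207cec78b1c255d04a55b22a5633402073eea3a2a45d8702cc52a322933420796ebb49c63c444a4d30a8d4d4302073e2758a6455daca94d0a4ac342420b44b4ab2f27b8703ada650a644a0208de742c2cc7b93251c625a2a46982052df49b2e92ba033c5a2b1aa89102073ecb518a43c5329d50ca42ed10c20bdab49ca307b9ac5a928398a418820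

def m11L3 : ℕ := 0x756eb8a1f055984a4da628ce9908202be2abca8db1cc99d50470d6c80820544afab172a4cc43dd23b21d068820b5eae2a62d7d20359e465226460820a56cb899ed3dc64716089b152488202ce27bb6b25a9267d20c70ec4408203c5e5732e8a4da352e04b4aa9308205de8e29a329d503b29a93c1ec20820bdab49ca307b9ac5a928398a418820

def m11L4 : ℕ := 0x2ccea5b1c9b448d7d506a42f21882075576518ac3dd28a3e449b630188202bd47b11c65c5929d209aa2ed18820bae957b6289ba44b1cd0524ac1882089df3ac2eda150655992591c918820752cb3a4a455cd0acdac7ca28188208aa6fa22f2a96093ac8db31c618820bdab49ca307b9ac5a928398a418820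

end Cfsg.Agent.Lib.Helper9.Leech
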