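import Cfsg.Agent.Lib.Helper9.StabSub
import Cfsg.Agent.Lib.Helper9.M12Data
import Cfsg.Prelude.Def_Spor_Mathieu

set_option autoImplicit false
open Cfsg

namespace Cfsg.Agent.Lib.Helper9.Leech

open scoped Pointwise
open Cfsg.Agent.S5393 Cfsg.Agent.S5548

def m12T : List (List ℕ) := allT ++ m12GT

set_option maxRecDepth 100000 in
theorem m12G_ok : slpOK allT m12GT m12GI = true := by decide +kernel

theorem allT_M24 : ∀ t ∈ allT, ∃ g ∈ M24, TblP g t := by
  intro t ht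
  obtain ⟨g, hg, h⟩ := allT_Gcl t ht
  exact ⟨g, Gcl_le hg, h⟩

theorem m12T_valid : ∀ t ∈ m12T, ∃ g ∈ M24, TblP g t :=
  slpOK_spec M24 m12GT m12GI allT allT_M24 m12G_ok

def dM : ℕ := 340831

def m12B : List ℕ := [0, 1, 2, 3, 4]

set_option maxRecDepth 100000 in
theorem m12_chain : chainOK2 m12T [dM] m12B m12Tr := by decide +kernel

def m11B : List ℕ := [0, 5, 7, 10]

def m11Tr : List (List (ℕ × ℕ)) := m12Tr.take 1 ++ m11cTr

set_option maxRecDepth 100000 in
theorem m11_chain : chainOK2 m12T [dM] m11B m11Tr := by decide +kernel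

theorem dM_mem : dM ∈ dodL := memL_mem _ _ (by decide +kernel)

theorem dM_dodecad : bitsOf dM ∈ dodecads := (mem_dodecads _).2 ⟨dM, dM_mem, rfl⟩

theorem bitsOf_dM : bitsOf dM = Spor.squareDodecad := by
  unfold bitsOf Spor.squareDodecad
  have h := toWord_qm 0
  have h2 : qmL.getD (0 : ZMod 23).val 0 = dM := by decide +kernel
  rw [h2] at h
  rw [h]

theorem card_m12 : Nat.card (cfgSub [dM] []) = 95040 := by
  rw [cfgSub_eq_stabSub]
  exact card_stab_dodecad _ dM_dodecad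

theorem card_m12_1 : Nat.card (cfgSub [dM] (m12B.take 1)) = 7920 := by
  have h : Nat.card (cfgSub [dM] (m12B.take 0)) = (m12Tr.getD 0 []).length *
      Nat.card (cfgSub [dM] (m12B.take 1)) :=
    cchain_card m12T m12T_valid [dM] m12B m12Tr m12_chain 0 (by decide)
  have h2 : (m12Tr.getD 0 []).length = 12 := by decide +kernel
  have h3 : cfgSub [dM] (m12B.take 0) = cfgSub [dM] [] := rfl
  rw [h2, h3, card_m12] at h
  omega

theorem card_m12_2 : Nat.card (cfgSub [dM] (m12B.take 2)) = 720 := by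
  have h : Nat.card (cfgSub [dM] (m12B.take 1)) = (m12Tr.getD 1 []).length *
      Nat.card (cfgSub [dM] (m12B.take 2)) :=
    cchain_card m12T m12T_valid [dM] m12B m12Tr m12_chain 1 (by decide)
  have h2 : (m12Tr.getD 1 []).length = 11 := by decide +kernel
  rw [h2, card_m12_1] at h
  omega

theorem card_m12_3 : Nat.card (cfgSub [dM] (m12B.take 3)) = 72 := by
  have h : Nat.card (cfgSub [dM] (m12B.take 2)) = (m12Tr.getD 2 []).length *
      Nat.card (cfgSub [dM] (m12B.take 3)) :=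
    cchain_card m12T m12T_valid [dM] m12B m12Tr m12_chain 2 (by decide)
  have h2 : (m12Tr.getD 2 []).length = 10 := by decide +kernel
  rw [h2, card_m12_2] at h
  omega

theorem card_m12_4 : Nat.card (cfgSub [dM] (m12B.take 4)) = 8 := by
  have h : Nat.card (cfgSub [dM] (m12B.take 3)) = (m12Tr.getD 3 []).length *
      Nat.card (cfgSub [dM] (m12B.take 4)) :=
    cchain_card m12T m12T_valid [dM] m12B m12Tr m12_chain 3 (by decide)
  have h2 : (m12Tr.getD 3 []).length = 9 := by decide +kernel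
  rw [h2, card_m12_3] at h
  omega

theorem card_m12_5 : Nat.card (cfgSub [dM] (m12B.take 5)) = 1 := by
  have h : Nat.card (cfgSub [dM] (m12B.take 4)) = (m12Tr.getD 4 []).length *
      Nat.card (cfgSub [dM] (m12B.take 5)) :=
    cchain_card m12T m12T_valid [dM] m12B m12Tr m12_chain 4 (by decide)
  have h2 : (m12Tr.getD 4 []).length = 8 := by decide +kernel
  rw [h2, card_m12_4] at h
  omega

theorem m12_sharp : cfgSub [dM] m12B = ⊥ := by
  have h : m12B.take 5 = m12B := rfl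
  have h1 := card_m12_5
  rw [h] at h1
  exact Subgroup.eq_bot_of_card_eq _ h1

theorem card_m11 : Nat.card (cfgSub [dM] [0]) = 7920 := card_m12_1

theorem dM_bit0 : dM.testBit 0 = true := by decide +kernel

theorem inCell_dM (p : GolayPt) : InCell [dM] 0 (idx p) ↔ p ∈ bitsOf dM := by
  unfold InCell
  rw [mem_bitsOf]
  constructor
  · intro h
    rw [h dM (List.mem_singleton_self _), dM_bit0]
  · intro h m hm
    rw [List.mem_singleton] at hm
    rw [hm, h, dM_bit0]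

theorem dM_bit5 : dM.testBit 5 = false := by decide +kernel

theorem inCell_dM' (p : GolayPt) : InCell [dM] 5 (idx p) ↔ p ∉ bitsOf dM := by
  unfold InCell
  rw [mem_bitsOf]
  constructor
  · intro h
    rw [h dM (List.mem_singleton_self _), dM_bit5]
    decide
  · intro h m hm
    rw [List.mem_singleton] at hm
    rw [hm, dM_bit5]
    cases hh : dM.testBit (idx p)
    · rfl
    · exact absurd hh h

theorem dod_flag (d : Finset GolayPt) (hd : d ∈ dodecads) (p : GolayPt) (hp : p ∈ d) :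
    ∃ σ ∈ M24, σ • bitsOf dM = d ∧ σ (ptOf 0) = p := by
  obtain ⟨τ, hτ⟩ := dodecads_trans (bitsOf dM) d dM_dodecad hd
  have hq : (τ : Equiv.Perm GolayPt)⁻¹ p ∈ bitsOf dM := by
    rw [← hτ] at hp
    obtain ⟨q, hq, rfl⟩ := Finset.mem_smul_finset.1 hp
    have : (τ : Equiv.Perm GolayPt)⁻¹ (τ • q) = q := by
      change (τ : Equiv.Perm GolayPt).symm ((τ : Equiv.Perm GolayPt) q) = q
      rw [Equiv.symm_apply_apply]
    rw [this]
    exact hq
  obtain ⟨u, hu, hub⟩ := cchain_reach m12T m12T_valid [dM] m12B m12Tr m12_chain 0 (by decide)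
    (idx ((τ : Equiv.Perm GolayPt)⁻¹ p)) (idx_lt _) ((inCell_dM _).2 hq) (by simp)
  rw [ptOf_idx] at hub
  refine ⟨τ * u, Subgroup.mul_mem _ τ.2 hu.1, ?_, ?_⟩
  · rw [mul_smul, hu.2.1 dM (List.mem_singleton_self _)]
    exact hτ
  · rw [Equiv.Perm.mul_apply]
    have h0 : ptOf (m12B.getD 0 0) = ptOf 0 := rfl
    rw [← h0, hub]
    change (τ : Equiv.Perm GolayPt) ((τ : Equiv.Perm GolayPt).symm p) = p
    rw [Equiv.apply_symm_apply]

theorem m12_to_base (xs : List GolayPt) (hnd : xs.Nodup) (hx : ∀ p ∈ xs, p ∈ bitsOf dM)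
    (hlen : xs.length ≤ 5) : ∃ g ∈ cfgSub [dM] [], ∀ i (hi : i < xs.length),
      g (xs[i]) = ptOf (m12B.getD i 0) := by
  obtain ⟨g, hg, h⟩ := cchain_trans m12T m12T_valid [dM] m12B m12Tr m12_chain 0 0 xs hnd
    (by rw [Nat.zero_add]; exact hlen) (by
      intro i _ hi
      have hi5 : i < 5 := by omega
      interval_cases i <;> decide +kernel) (fun p hp => (inCell_dM p).2 (hx p hp))
    (fun p _ => by simp) xs.length le_rfl
  refine ⟨g, hg, ?_⟩
  intro i hi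
  have := h i hi hi
  rw [Nat.zero_add] at this
  exact this

theorem m12_trans (xs ys : List GolayPt) (hx : xs.Nodup) (hy : ys.Nodup)
    (hxd : ∀ p ∈ xs, p ∈ bitsOf dM) (hyd : ∀ p ∈ ys, p ∈ bitsOf dM)
    (hlen : xs.length = ys.length) (h5 : xs.length ≤ 5) :
    ∃ g ∈ cfgSub [dM] [], ∀ i (hi : i < xs.length), g (xs[i]) = ys[i]'(hlen ▸ hi) := by
  obtain ⟨g, hg, hgx⟩ := m12_to_base xs hx hxd h5
  obtain ⟨h, hh, hhy⟩ := m12_to_base ys hy hyd (hlen ▸ h5)
  refine ⟨h⁻¹ * g, Subgroup.mul_mem _ (inv_mem hh) hg, ?_⟩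
  intro i hi
  rw [Equiv.Perm.mul_apply, hgx i hi, ← hhy i (hlen ▸ hi)]
  change h.symm (h _) = _
  rw [Equiv.symm_apply_apply]

theorem m12_fix5 (g : Equiv.Perm GolayPt) (hg : g ∈ cfgSub [dM] []) (xs : List GolayPt)
    (hnd : xs.Nodup) (hx : ∀ p ∈ xs, p ∈ bitsOf dM) (hlen : xs.length = 5)
    (hfix : ∀ p ∈ xs, g p = p) : g = 1 := by
  obtain ⟨u, hu, hux⟩ := m12_to_base xs hnd hx (le_of_eq hlen)
  have hmem : u * g * u⁻¹ ∈ cfgSub [dM] m12B := by
    refine ⟨Subgroup.mul_mem _ (Subgroup.mul_mem _ hu.1 hg.1) (inv_mem hu.1), ?_, ?_⟩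
    · intro m hm
      exact ((Subgroup.mul_mem _ (Subgroup.mul_mem _ hu hg) (inv_mem hu)) :
        u * g * u⁻¹ ∈ cfgSub [dM] []).2.1 m hm
    · intro j hj
      obtain ⟨i, hi, rfl⟩ := List.getElem_of_mem hj
      have hi5 : i < xs.length := by rw [hlen]; exact hi
      have h1 := hux i hi5
      rw [getD_eq_getElem' m12B i hi] at h1
      rw [Equiv.Perm.mul_apply, Equiv.Perm.mul_apply, ← h1]
      have h2 : u⁻¹ (u xs[i]) = xs[i] := by
        change u.symm (u _) = _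
        rw [Equiv.symm_apply_apply]
      rw [h2, hfix _ (List.getElem_mem hi5)]
  rw [m12_sharp, Subgroup.mem_bot] at hmem
  have : g = u⁻¹ * (u * g * u⁻¹) * u := by group
  rw [this, hmem]
  group

theorem m11_compl_to_base (xs : List GolayPt) (hnd : xs.Nodup) (hx : ∀ p ∈ xs, p ∉ bitsOf dM)
    (hlen : xs.length ≤ 3) : ∃ g ∈ cfgSub [dM] [0], ∀ i (hi : i < xs.length),
      g (xs[i]) = ptOf (m11B.getD (1 + i) 0) := by
  obtain ⟨g, hg, h⟩ := cchain_trans m12T m12T_valid [dM] m11B m11Tr m11_chain 5 1 xs hnd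
    (by
      have : m11B.length = 4 := rfl
      omega) (by
      intro i h1 hi
      have hi5 : i < 4 := by omega
      interval_cases i <;> decide +kernel) (fun p hp => (inCell_dM' p).2 (hx p hp))
    (by
      intro p hp hmem
      have h1 : idx p = 0 := by simpa [m11B] using hmem
      have h2 := hx p hp
      rw [mem_bitsOf, h1, dM_bit0] at h2
      exact h2 rfl) xs.length le_rfl
  exact ⟨g, hg, fun i hi => h i hi hi⟩

theorem m11_compl_trans (xs ys : List GolayPt) (hx : xs.Nodup) (hy : ys.Nodup)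
    (hxd : ∀ p ∈ xs, p ∉ bitsOf dM) (hyd : ∀ p ∈ ys, p ∉ bitsOf dM)
    (hlen : xs.length = ys.length) (h3 : xs.length ≤ 3) :
    ∃ g ∈ cfgSub [dM] [0], ∀ i (hi : i < xs.length), g (xs[i]) = ys[i]'(hlen ▸ hi) := by
  obtain ⟨g, hg, hgx⟩ := m11_compl_to_base xs hx hxd h3
  obtain ⟨h, hh, hhy⟩ := m11_compl_to_base ys hy hyd (hlen ▸ h3)
  refine ⟨h⁻¹ * g, Subgroup.mul_mem _ (inv_mem hh) hg, ?_⟩
  intro i hi
  rw [Equiv.Perm.mul_apply, hgx i hi, ← hhy i (hlen ▸ hi)]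
  change h.symm (h _) = _
  rw [Equiv.symm_apply_apply]

theorem smul_inv_mem (τ : Equiv.Perm GolayPt) (S : Finset GolayPt) (q : GolayPt) :
    τ⁻¹ q ∈ S ↔ q ∈ τ • S := by
  constructor
  · intro h
    have h1 : τ • (τ⁻¹ q) ∈ τ • S := Finset.smul_mem_smul_finset h
    have h2 : τ • (τ⁻¹ q) = q := by
      change τ (τ.symm q) = q
      rw [Equiv.apply_symm_apply]
    rw [h2] at h1
    exact h1
  · intro h
    obtain ⟨r, hr, rfl⟩ := Finset.mem_smul_finset.1 h
    have h2 : τ⁻¹ (τ • r) = r := by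
      change τ.symm (τ r) = r
      rw [Equiv.symm_apply_apply]
    rw [h2]
    exact hr

theorem conj_stab_mask (τ g : Equiv.Perm GolayPt) (S : Finset GolayPt) (h : g • S = S) :
    (τ * g * τ⁻¹) • (τ • S) = τ • S := by
  rw [mul_smul, mul_smul, inv_smul_smul, h]

theorem conj_back_mask (τ k : Equiv.Perm GolayPt) (S : Finset GolayPt)
    (h : k • (τ • S) = τ • S) : (τ⁻¹ * k * τ) • S = S := by
  rw [mul_smul, mul_smul, h, inv_smul_smul]

theorem m12_trans_d (d : Finset GolayPt) (hd : d ∈ dodecads) (x y : Fin 5 ↪ GolayPt)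
    (hx : ∀ i, x i ∈ d) (hy : ∀ i, y i ∈ d) :
    ∃ g ∈ M24, g • d = d ∧ ∀ i, g (x i) = y i := by
  obtain ⟨τ', hτ'⟩ := dodecads_trans (bitsOf dM) d dM_dodecad hd
  obtain ⟨τ, hτ, hτd⟩ : ∃ τ ∈ M24, τ • bitsOf dM = d := ⟨τ'.1, τ'.2, hτ'⟩
  have hinj : ∀ z : Fin 5 ↪ GolayPt, Function.Injective (fun i => τ⁻¹ (z i)) := by
    intro z i j hij
    exact z.injective (τ⁻¹.injective hij)
  have hmem : ∀ z : Fin 5 ↪ GolayPt, (∀ i, z i ∈ d) →
      ∀ p ∈ List.ofFn (fun i => τ⁻¹ (z i)), p ∈ bitsOf dM := by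
    intro z hz p hp
    rw [List.mem_ofFn] at hp
    obtain ⟨i, rfl⟩ := hp
    rw [smul_inv_mem, hτd]
    exact hz i
  obtain ⟨h, hh, hxy⟩ := m12_trans (List.ofFn (fun i => τ⁻¹ (x i)))
    (List.ofFn (fun i => τ⁻¹ (y i))) (List.nodup_ofFn.2 (hinj x)) (List.nodup_ofFn.2 (hinj y))
    (hmem x hx) (hmem y hy) (by rw [List.length_ofFn, List.length_ofFn])
    (by rw [List.length_ofFn])
  refine ⟨τ * h * τ⁻¹, Subgroup.mul_mem _ (Subgroup.mul_mem _ hτ hh.1) (inv_mem hτ), ?_, ?_⟩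
  · rw [← hτd]
    exact conj_stab_mask τ h _ (hh.2.1 dM (List.mem_singleton_self _))
  · intro i
    have h1 := hxy i.val (by rw [List.length_ofFn]; exact i.2)
    rw [List.getElem_ofFn, List.getElem_ofFn] at h1
    rw [Equiv.Perm.mul_apply, Equiv.Perm.mul_apply]
    have h2 : h (τ⁻¹ (x i)) = τ⁻¹ (y i) := h1
    rw [h2]
    change τ (τ.symm (y i)) = y i
    rw [Equiv.apply_symm_apply]

theorem m12_fix_d (d : Finset GolayPt) (hd : d ∈ dodecads) (x : Fin 5 ↪ GolayPt)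
    (hx : ∀ i, x i ∈ d) (k : Equiv.Perm GolayPt) (hk : k ∈ M24) (hkd : k • d = d)
    (hfix : ∀ i, k (x i) = x i) : k = 1 := by
  obtain ⟨τ', hτ'⟩ := dodecads_trans (bitsOf dM) d dM_dodecad hd
  obtain ⟨τ, hτ, hτd⟩ : ∃ τ ∈ M24, τ • bitsOf dM = d := ⟨τ'.1, τ'.2, hτ'⟩
  have hmemk : τ⁻¹ * k * τ ∈ cfgSub [dM] [] := by
    refine ⟨Subgroup.mul_mem _ (Subgroup.mul_mem _ (inv_mem hτ) hk) hτ, ?_, fun j hj => absurd hj (by simp)⟩
    intro m hm
    rw [List.mem_singleton] at hm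
    rw [hm]
    apply conj_back_mask
    rw [hτd]
    exact hkd
  have h1 := m12_fix5 (τ⁻¹ * k * τ) hmemk (List.ofFn (fun i => τ⁻¹ (x i)))
    (List.nodup_ofFn.2 (fun i j hij => x.injective (τ⁻¹.injective hij)))
    (by
      intro p hp
      rw [List.mem_ofFn] at hp
      obtain ⟨i, rfl⟩ := hp
      rw [smul_inv_mem, hτd]
      exact hx i) (by rw [List.length_ofFn])
    (by
      intro p hp
      rw [List.mem_ofFn] at hp
      obtain ⟨i, rfl⟩ := hp
      rw [Equiv.Perm.mul_apply, Equiv.Perm.mul_apply]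
      have h2 : τ (τ⁻¹ (x i)) = x i := by
        change τ (τ.symm (x i)) = x i
        rw [Equiv.apply_symm_apply]
      rw [h2, hfix i])
  have : k = τ * (τ⁻¹ * k * τ) * τ⁻¹ := by group
  rw [this, h1]
  group

theorem m11_trans_d (d : Finset GolayPt) (hd : d ∈ dodecads) (p : GolayPt) (hp : p ∈ d)
    (x y : Fin 3 ↪ GolayPt) (hx : ∀ i, x i ∉ d) (hy : ∀ i, y i ∉ d) :
    ∃ g ∈ M24, g • d = d ∧ g p = p ∧ ∀ i, g (x i) = y i := by
  obtain ⟨τ, hτ, hτd, hτp⟩ := dod_flag d hd p hp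
  have hinj : ∀ z : Fin 3 ↪ GolayPt, Function.Injective (fun i => τ⁻¹ (z i)) := by
    intro z i j hij
    exact z.injective (τ⁻¹.injective hij)
  have hmem : ∀ z : Fin 3 ↪ GolayPt, (∀ i, z i ∉ d) →
      ∀ q ∈ List.ofFn (fun i => τ⁻¹ (z i)), q ∉ bitsOf dM := by
    intro z hz q hq
    rw [List.mem_ofFn] at hq
    obtain ⟨i, rfl⟩ := hq
    rw [smul_inv_mem, hτd]
    exact hz i
  obtain ⟨h, hh, hxy⟩ := m11_compl_trans (List.ofFn (fun i => τ⁻¹ (x i)))
    (List.ofFn (fun i => τ⁻¹ (y i))) (List.nodup_ofFn.2 (hinj x)) (List.nodup_ofFn.2 (hinj y))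
    (hmem x hx) (hmem y hy) (by rw [List.length_ofFn, List.length_ofFn])
    (by rw [List.length_ofFn])
  refine ⟨τ * h * τ⁻¹, Subgroup.mul_mem _ (Subgroup.mul_mem _ hτ hh.1) (inv_mem hτ), ?_, ?_, ?_⟩
  · rw [← hτd]
    exact conj_stab_mask τ h _ (hh.2.1 dM (List.mem_singleton_self _))
  · rw [Equiv.Perm.mul_apply, Equiv.Perm.mul_apply, ← hτp]
    have h2 : τ⁻¹ (τ (ptOf 0)) = ptOf 0 := by
      change τ.symm (τ _) = _
      rw [Equiv.symm_apply_apply]
    rw [h2, hh.2.2 0 (List.mem_singleton_self _)]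
  · intro i
    have h1 := hxy i.val (by rw [List.length_ofFn]; exact i.2)
    rw [List.getElem_ofFn, List.getElem_ofFn] at h1
    rw [Equiv.Perm.mul_apply, Equiv.Perm.mul_apply]
    have h2 : h (τ⁻¹ (x i)) = τ⁻¹ (y i) := h1
    rw [h2]
    change τ (τ.symm (y i)) = y i
    rw [Equiv.apply_symm_apply]

theorem card_stab_dp (d : Finset GolayPt) (hd : d ∈ dodecads) (p : GolayPt) (hp : p ∈ d) :
    Nat.card (stabSub [d] [p]) = 7920 := by
  obtain ⟨σ, hσ, hσd, hσp⟩ := dod_flag d hd p hp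
  have h2 : stabSub [d] [p] = stabSub ([bitsOf dM].map (fun s => σ • s)) ([ptOf 0].map σ) := by
    rw [List.map_singleton, List.map_singleton, hσd, hσp]
  rw [h2, card_stabSub_conj σ hσ, ← card_m11, cfgSub_eq_stabSub]
  rfl

theorem mem_stab_dp (d : Finset GolayPt) (p : GolayPt) (g : M24) :
    g ∈ MulAction.stabilizer M24 d ⊓ MulAction.stabilizer M24 p ↔
      (g : Equiv.Perm GolayPt) ∈ stabSub [d] [p] := by
  rw [Subgroup.mem_inf, MulAction.mem_stabilizer_iff, MulAction.mem_stabilizer_iff, mem_stabSub]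
  constructor
  · rintro ⟨h1, h2⟩
    refine ⟨g.2, ?_, ?_⟩
    · intro s hs
      rw [List.mem_singleton] at hs
      rw [hs]
      exact h1
    · intro q hq
      rw [List.mem_singleton] at hq
      rw [hq]
      exact h2
  · rintro ⟨_, h2, h3⟩
    exact ⟨h2 d (List.mem_singleton_self _), h3 p (List.mem_singleton_self _)⟩

end Cfsg.Agent.Lib.Helper9.Leech
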