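import Cfsg.Agent.Lib.Helper9.CfgEnum
import Cfsg.Agent.Lib.Helper9.M12
import Cfsg.Agent.Lib.Helper9.M11EnumData
import Cfsg.Agent.Lib.Helper9.Comm

set_option autoImplicit false
open Cfsg

namespace Cfsg.Agent.Lib.Helper9.Leech

open scoped Pointwise

def m11Ls : List ((ℕ → ℕ) × ℕ) :=
  [(fun j => ent m11L1 120 j, 11), (fun j => ent m11L2 120 j, 10),
   (fun j => ent m11L3 120 j, 9), (fun j => ent m11L4 120 j, 8)]

set_option maxRecDepth 100000 in
theorem m11_link : linkOK m12T m12Tr 1 m11Ls := by decide +kernel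

/-- a fixed position outside the dodecad -/
def fixOut (t : ℕ) : Bool :=
  anyBelow (fun i => !(dM.testBit i) && Nat.beq (fld t i) i) 24

def m11Chk (t _ix : ℕ) : Bool :=
  fixOut t || (all24 (fun i => Nat.beq (powFld t 8 i) i) &&
    !(all24 (fun i => Nat.beq (powFld t 2 i) i)))

set_option maxRecDepth 100000 in
theorem m11_run : enumI m11Chk m11Ls idN 0 = true := by decide +kernel

def M11P (g : Equiv.Perm GolayPt) : Prop :=
  (∃ x : GolayPt, x ∉ bitsOf dM ∧ g x = x) ∨ (g ^ 8 = 1 ∧ g ^ 2 ≠ 1)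

theorem m11P_of_chk (g : Equiv.Perm GolayPt) (t ix : ℕ) (hg : TblP g (tblOf t))
    (h : m11Chk t ix = true) : M11P g := by
  unfold m11Chk at h
  rw [Bool.or_eq_true] at h
  rcases h with h | h
  · left
    unfold fixOut at h
    rw [anyBelow_iff] at h
    obtain ⟨i, hi, h2⟩ := h
    rw [Bool.and_eq_true] at h2
    refine ⟨ptOf i, ?_, ?_⟩
    · rw [mem_bitsOf, idx_ptOf i hi]
      intro hb
      rw [hb] at h2
      exact absurd h2.1 (by decide)
    · rw [tbl_fix_iff g t hg, idx_ptOf i hi]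
      exact Nat.eq_of_beq_eq_true h2.2
  · right
    rw [Bool.and_eq_true] at h
    refine ⟨(pow_iff_tbl g t 8 hg).2 h.1, ?_⟩
    intro h2
    rw [(pow_iff_tbl g t 2 hg).1 h2] at h
    exact absurd h.2 (by decide)

theorem m11_all : ∀ g ∈ cfgSub [dM] (m12B.take 1), M11P g :=
  cfg_enum m12T m12T_valid [dM] m12B m12Tr m12_chain m12_sharp 1 m11Ls rfl m11_link m11Chk M11P
    m11P_of_chk m11_run

theorem m11_le : Spor.M11 ≤ cfgSub [dM] (m12B.take 1) := by
  intro g hg
  unfold Spor.M11 Spor.M12 at hg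
  rw [Subgroup.mem_inf, Subgroup.mem_inf] at hg
  obtain ⟨⟨h1, h2⟩, h3⟩ := hg
  rw [mem_cfgSub]
  refine ⟨h1, ?_, ?_⟩
  · intro m hm
    rw [List.mem_singleton] at hm
    rw [hm, bitsOf_dM]
    exact h2
  · intro j hj
    have : j = 0 := by
      change j ∈ [0] at hj
      rwa [List.mem_singleton] at hj
    rw [this]
    exact h3

theorem s5522 (g : Equiv.Perm GolayPt) (hg : g ∈ Spor.M11) (hord : (orderOf g).Prime) :
    ∃ x : GolayPt, x ∉ Spor.squareDodecad ∧ g x = x := by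
  rcases m11_all g (m11_le hg) with h | ⟨h8, h2⟩
  · rw [← bitsOf_dM]
    exact h
  · exfalso
    apply h2
    have hd : orderOf g ∣ 2 ^ 3 := orderOf_dvd_of_pow_eq_one h8
    have h2' : orderOf g = 2 := by
      have := (Nat.prime_dvd_prime_iff_eq hord Nat.prime_two).1 (hord.dvd_of_dvd_pow hd)
      exact this
    rw [← h2']
    exact pow_orderOf_eq_one g

end Cfsg.Agent.Lib.Helper9.Leech
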