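import Cfsg.Agent.Lib.Helper9.M24Chain

set_option autoImplicit false
open Cfsg

namespace Cfsg.Agent.Lib.Helper9.Leech

open scoped Pointwise
open Cfsg.Agent.S5393 Cfsg.Agent.S5548

theorem ncard_list (L : List ℕ) (hnd : L.Nodup) : ({x | x ∈ L} : Set ℕ).ncard = L.length := by
  have h : ({x | x ∈ L} : Set ℕ) = ↑L.toFinset := by
    ext x
    simp
  rw [h, Set.ncard_coe_finset, List.toFinset_card_of_nodup hnd]

theorem stab_card {α : Type*} (K : Subgroup (Equiv.Perm α)) (p : α) :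
    Nat.card (MulAction.stabilizer K p) =
      Nat.card ↥(K ⊓ MulAction.stabilizer (Equiv.Perm α) p) := by
  refine Nat.card_congr ⟨fun k => ⟨(k.1 : Equiv.Perm α), ⟨k.1.2, ?_⟩⟩,
    fun k => ⟨⟨k.1, k.2.1⟩, ?_⟩, ?_, ?_⟩
  · exact MulAction.mem_stabilizer_iff.2 (MulAction.mem_stabilizer_iff.1 k.2)
  · exact MulAction.mem_stabilizer_iff.2 (MulAction.mem_stabilizer_iff.1 k.2.2)
  · intro k
    rfl
  · intro k
    rfl

theorem card_step (K : Subgroup (Equiv.Perm GolayPt)) (b : ℕ) (L : List ℕ)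
    (hnd : L.Nodup) (hlt : ∀ x ∈ L, x < 24) (h1 : ∀ g ∈ K, idx (g (ptOf b)) ∈ L)
    (h2 : ∀ x ∈ L, ∃ g ∈ K, g (ptOf b) = ptOf x) :
    Nat.card K = L.length *
      Nat.card ↥(K ⊓ MulAction.stabilizer (Equiv.Perm GolayPt) (ptOf b)) := by
  have hos := Subgroup.card_mul_index (MulAction.stabilizer K (ptOf b))
  rw [MulAction.index_stabilizer] at hos
  have horb : MulAction.orbit K (ptOf b) = ptOf '' {x | x ∈ L} := by
    ext y
    rw [MulAction.mem_orbit_iff]
    constructor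
    · rintro ⟨k, rfl⟩
      refine ⟨idx ((k : Equiv.Perm GolayPt) (ptOf b)), h1 k.1 k.2, ?_⟩
      rw [ptOf_idx]
      rfl
    · rintro ⟨x, hx, rfl⟩
      obtain ⟨g, hg, hgx⟩ := h2 x hx
      exact ⟨⟨g, hg⟩, hgx⟩
  have hinj : Set.InjOn ptOf {x | x ∈ L} := by
    intro x hx y hy hxy
    exact ptOf_inj x y (hlt x hx) (hlt y hy) hxy
  have hc : (MulAction.orbit K (ptOf b)).ncard = L.length := by
    rw [horb, Set.InjOn.ncard_image hinj, ncard_list L hnd]
  rw [← hos, hc, stab_card, mul_comm]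

def fixSub (l : List ℕ) : Subgroup (Equiv.Perm GolayPt) where
  carrier := {g | g ∈ M24 ∧ FixL g l}
  mul_mem' := fun ha hb => ⟨Subgroup.mul_mem _ ha.1 hb.1, FixL_mul _ _ _ ha.2 hb.2⟩
  one_mem' := ⟨Subgroup.one_mem _, FixL_one _⟩
  inv_mem' := fun ha => ⟨Subgroup.inv_mem _ ha.1, FixL_inv _ _ ha.2⟩

theorem mem_fixSub (l : List ℕ) (g : Equiv.Perm GolayPt) :
    g ∈ fixSub l ↔ g ∈ M24 ∧ FixL g l := Iff.rfl

theorem fixSub_succ (i : ℕ) (hi : i < 7) :
    fixSub (baseL.take i) ⊓ MulAction.stabilizer (Equiv.Perm GolayPt) (ptOf (baseL.getD i 0)) =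
      fixSub (baseL.take (i + 1)) := by
  ext g
  rw [Subgroup.mem_inf, mem_fixSub, mem_fixSub, MulAction.mem_stabilizer_iff]
  constructor
  · rintro ⟨⟨h1, h2⟩, h3⟩
    refine ⟨h1, ?_⟩
    intro j hj
    rw [take_succ_mem i hi] at hj
    rcases hj with hj | rfl
    · exact h2 j hj
    · exact h3
  · rintro ⟨h1, h2⟩
    refine ⟨⟨h1, ?_⟩, ?_⟩
    · intro j hj
      exact h2 j ((take_succ_mem i hi j).2 (Or.inl hj))
    · exact h2 _ ((take_succ_mem i hi _).2 (Or.inr rfl))

theorem orb_nodup : ∀ i < 7, (orbL i).Nodup := by decide +kernel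

theorem orb_lt : ∀ i < 7, ∀ x ∈ orbL i, x < 24 := by decide +kernel

theorem card_fix_step (i : ℕ) (hi : i < 7) :
    Nat.card (fixSub (baseL.take i)) = (orbL i).length *
      Nat.card (fixSub (baseL.take (i + 1))) := by
  rw [← fixSub_succ i hi]
  apply card_step _ _ _ (orb_nodup i hi) (orb_lt i hi)
  · intro g hg
    exact bound i hi g hg.1 hg.2
  · intro x hx
    obtain ⟨u, hu, hfix, hub⟩ := reach i hi x hx
    exact ⟨u, ⟨Gcl_le hu, hfix⟩, hub⟩

theorem fixSub_nil : fixSub [] = M24 := by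
  ext g
  rw [mem_fixSub]
  constructor
  · exact fun h => h.1
  · exact fun h => ⟨h, fun j hj => absurd hj (by simp)⟩

theorem fixSub_base : fixSub baseL = ⊥ := by
  ext g
  rw [mem_fixSub, Subgroup.mem_bot]
  constructor
  · exact fun h => base_prop g h.1 h.2
  · rintro rfl
    exact ⟨Subgroup.one_mem _, FixL_one _⟩

theorem card_fix0 : Nat.card (fixSub (baseL.take 7)) = 1 := by
  have h : baseL.take 7 = baseL := rfl
  rw [h, fixSub_base]
  exact Subgroup.card_bot

theorem card_fix6 : Nat.card (fixSub (baseL.take 6)) = 3 := by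
  rw [card_fix_step 6 (by decide), card_fix0]
  rfl

theorem card_fix5 : Nat.card (fixSub (baseL.take 5)) = 48 := by
  rw [card_fix_step 5 (by decide), card_fix6]
  rfl

theorem card_fix4 : Nat.card (fixSub (baseL.take 4)) = 960 := by
  rw [card_fix_step 4 (by decide), card_fix5]
  rfl

theorem card_fix3 : Nat.card (fixSub (baseL.take 3)) = 20160 := by
  rw [card_fix_step 3 (by decide), card_fix4]
  rfl

theorem card_fix2 : Nat.card (fixSub (baseL.take 2)) = 443520 := by
  rw [card_fix_step 2 (by decide), card_fix3]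
  rfl

theorem card_fix1 : Nat.card (fixSub (baseL.take 1)) = 10200960 := by
  rw [card_fix_step 1 (by decide), card_fix2]
  rfl

theorem card_M24 : Nat.card M24 = 244823040 := by
  have h : fixSub (baseL.take 0) = M24 := fixSub_nil
  rw [← h, card_fix_step 0 (by decide), card_fix1]
  rfl

theorem to_base (x : Fin 5 ↪ GolayPt) : ∀ k ≤ 5, ∃ g ∈ M24, ∀ i : Fin 5, i.val < k →
    g (x i) = ptOf (baseL.getD i.val 0) := by
  intro k
  induction k with
  | zero =>
    intro _
    exact ⟨1, Subgroup.one_mem _, fun i hi => absurd hi (Nat.not_lt_zero _)⟩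
  | succ k ih =>
    intro hk
    obtain ⟨g, hg, hgx⟩ := ih (by omega)
    have hk5 : k < 5 := by omega
    have hne : idx (g (x ⟨k, hk5⟩)) ∉ baseL.take k := by
      intro hmem
      rw [List.mem_take_iff_getElem] at hmem
      obtain ⟨j, hj, hjeq⟩ := hmem
      have hjk : j < k := by
        have := Nat.lt_min.1 hj
        exact this.1
      have hj5 : j < 5 := by omega
      have h1 := hgx ⟨j, hj5⟩ hjk
      have h2 : baseL.getD j 0 = baseL[j] := by
        rw [List.getD_eq_getElem?_getD, List.getElem?_eq_getElem (Nat.lt_min.1 hj).2]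
        rfl
      rw [show (⟨j, hj5⟩ : Fin 5).val = j from rfl, h2, hjeq, ptOf_idx] at h1
      have h3 : x ⟨j, hj5⟩ = x ⟨k, hk5⟩ := g.injective h1
      have h4 := x.injective h3
      rw [Fin.mk.injEq] at h4
      omega
    have horb := orb_compl k hk5 _ (idx_lt _) hne
    obtain ⟨u, hu, hfix, hub⟩ := reach k (by omega) _ horb
    rw [ptOf_idx] at hub
    refine ⟨u⁻¹ * g, Subgroup.mul_mem _ (inv_mem (Gcl_le hu)) hg, ?_⟩
    intro i hi
    rw [Equiv.Perm.mul_apply]
    rcases Nat.lt_succ_iff_lt_or_eq.1 hi with hlt | heq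
    · rw [hgx i hlt]
      apply FixL_inv u _ hfix
      rw [List.mem_take_iff_getElem]
      have hlen : i.val < min k baseL.length := Nat.lt_min.2 ⟨hlt, by
        have : baseL.length = 7 := rfl
        omega⟩
      refine ⟨i.val, hlen, ?_⟩
      rw [List.getD_eq_getElem?_getD, List.getElem?_eq_getElem (Nat.lt_min.1 hlen).2]
      rfl
    · have hi' : i = ⟨k, hk5⟩ := Fin.ext heq
      rw [hi', ← hub]
      change u.symm (u _) = _
      rw [Equiv.symm_apply_apply]

theorem five_trans (x y : Fin 5 ↪ GolayPt) : ∃ g ∈ M24, ∀ i, g (x i) = y i := by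
  obtain ⟨g, hg, hgx⟩ := to_base x 5 le_rfl
  obtain ⟨h, hh, hhy⟩ := to_base y 5 le_rfl
  refine ⟨h⁻¹ * g, Subgroup.mul_mem _ (inv_mem hh) hg, ?_⟩
  intro i
  rw [Equiv.Perm.mul_apply, hgx i i.2, ← hhy i i.2]
  change h.symm (h _) = _
  rw [Equiv.symm_apply_apply]

end Cfsg.Agent.Lib.Helper9.Leech
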