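import Cfsg.Agent.Lib.Helper9.GolayCount
import Cfsg.Agent.Lib.Helper9.M24Data

set_option autoImplicit false
open Cfsg

namespace Cfsg.Agent.Lib.Helper9.Leech

open scoped Pointwise
open Cfsg.Agent.S5393 Cfsg.Agent.S5548

theorem ptOf_idx (p : GolayPt) : ptOf (idx p) = p := by
  cases p with
  | none => rfl
  | some x =>
    have h : x.val ≠ 23 := ne_of_lt (ZMod.val_lt x)
    change (if x.val = 23 then none else some ((x.val : ℕ) : ZMod 23)) = some x
    rw [if_neg h, ZMod.natCast_zmod_val]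

theorem idx_inj (p q : GolayPt) (h : idx p = idx q) : p = q := by
  rw [← ptOf_idx p, ← ptOf_idx q, h]

theorem ptOf_inj (i j : ℕ) (hi : i < 24) (hj : j < 24) (h : ptOf i = ptOf j) : i = j := by
  rw [← idx_ptOf i hi, ← idx_ptOf j hj, h]

theorem mem_bitsOf (n : ℕ) (p : GolayPt) : p ∈ bitsOf n ↔ n.testBit (idx p) = true := by
  unfold bitsOf
  rw [mem_support, toWord_one_iff]

def r24 : List ℕ :=
  [0, 1, 2, 3, 4, 5, 6, 7, 8, 9, 10, 11, 12, 13, 14, 15, 16, 17, 18, 19, 20, 21, 22, 23]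

theorem mem_r24 (i : ℕ) (h : i < 24) : i ∈ r24 := by
  unfold r24
  interval_cases i <;> decide

theorem r24_map_getD (f : ℕ → ℕ) (i : ℕ) (h : i < 24) : (r24.map f).getD i 0 = f i := by
  unfold r24
  interval_cases i <;> rfl

def idT : List ℕ := r24

theorem idT_getD (i : ℕ) (h : i < 24) : idT.getD i 0 = i := by
  unfold idT r24
  interval_cases i <;> rfl

def TblP (g : Equiv.Perm GolayPt) (t : List ℕ) : Prop := ∀ p, idx (g p) = t.getD (idx p) 0

theorem TblP_one : TblP 1 idT := by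
  intro p
  rw [idT_getD _ (idx_lt p)]
  rfl

def compT (s t : List ℕ) : List ℕ := r24.map (fun i => s.getD (t.getD i 0) 0)

theorem TblP_mul (g h : Equiv.Perm GolayPt) (s t : List ℕ) (hg : TblP g s) (hh : TblP h t) :
    TblP (g * h) (compT s t) := by
  intro p
  unfold compT
  rw [r24_map_getD _ _ (idx_lt p), Equiv.Perm.mul_apply, hg (h p), hh p]

def invOK (t t' : List ℕ) : Bool := r24.all (fun i => Nat.beq (t'.getD (t.getD i 0) 0) i)

theorem TblP_inv (g : Equiv.Perm GolayPt) (t t' : List ℕ) (hg : TblP g t)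
    (h : invOK t t' = true) : TblP g⁻¹ t' := by
  intro q
  have h1 : idx (g (g.symm q)) = t.getD (idx (g.symm q)) 0 := hg (g.symm q)
  rw [Equiv.apply_symm_apply] at h1
  change idx (g.symm q) = t'.getD (idx q) 0
  unfold invOK at h
  rw [List.all_eq_true] at h
  have h2 := h _ (mem_r24 _ (idx_lt (g.symm q)))
  have h3 := Nat.eq_of_beq_eq_true h2
  rw [h1, h3]

theorem TblP_ext (g h : Equiv.Perm GolayPt) (t : List ℕ) (hg : TblP g t) (hh : TblP h t) :
    g = h := by
  exact Equiv.ext (fun p => idx_inj _ _ (by rw [hg p, hh p]))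

theorem TblP_apply (g : Equiv.Perm GolayPt) (t : List ℕ) (hg : TblP g t) (i : ℕ) (hi : i < 24) :
    g (ptOf i) = ptOf (t.getD i 0) := by
  have h := hg (ptOf i)
  rw [idx_ptOf i hi] at h
  rw [← h, ptOf_idx]

def eqT : List ℕ → List ℕ → Bool
  | [], [] => true
  | a :: l, b :: m => Nat.beq a b && eqT l m
  | _, _ => false

theorem eqT_eq : ∀ s t : List ℕ, eqT s t = true → s = t := by
  intro s
  induction s with
  | nil =>
    intro t h
    cases t with
    | nil => rfl
    | cons b m => exact absurd h (by simp [eqT])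
  | cons a l ih =>
    intro t h
    cases t with
    | nil => exact absurd h (by simp [eqT])
    | cons b m =>
      rw [eqT, Bool.and_eq_true] at h
      rw [Nat.eq_of_beq_eq_true h.1, ih m h.2]

def insOK (acc : List (List ℕ)) (t : List ℕ) : Ins → Bool
  | .mul i j => eqT t (compT (acc.getD i idT) (acc.getD j idT))
  | .inv i => invOK (acc.getD i idT) t

def slpOK : List (List ℕ) → List (List ℕ) → List Ins → Bool
  | _, [], [] => true
  | acc, t :: ts, c :: cs => insOK acc t c && slpOK (acc ++ [t]) ts cs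
  | _, _, _ => false

theorem getD_valid (H : Subgroup (Equiv.Perm GolayPt)) (acc : List (List ℕ))
    (h : ∀ t ∈ acc, ∃ g ∈ H, TblP g t) (i : ℕ) : ∃ g ∈ H, TblP g (acc.getD i idT) := by
  rw [List.getD_eq_getElem?_getD]
  cases hi : acc[i]? with
  | none => exact ⟨1, Subgroup.one_mem _, TblP_one⟩
  | some t => exact h t (List.mem_of_getElem? hi)

theorem slpOK_spec (H : Subgroup (Equiv.Perm GolayPt)) :
    ∀ (ts : List (List ℕ)) (cs : List Ins) (acc : List (List ℕ)),
      (∀ t ∈ acc, ∃ g ∈ H, TblP g t) → slpOK acc ts cs = true →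
      ∀ t ∈ acc ++ ts, ∃ g ∈ H, TblP g t := by
  intro ts
  induction ts with
  | nil =>
    intro cs acc hacc _ t ht
    rw [List.append_nil] at ht
    exact hacc t ht
  | cons a ts ih =>
    intro cs acc hacc h t ht
    cases cs with
    | nil => exact absurd h (by simp [slpOK])
    | cons c cs =>
      rw [slpOK, Bool.and_eq_true] at h
      have ha : ∃ g ∈ H, TblP g a := by
        cases c with
        | mul i j =>
          obtain ⟨g1, hg1, ht1⟩ := getD_valid H acc hacc i
          obtain ⟨g2, hg2, ht2⟩ := getD_valid H acc hacc j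
          have h1 : a = compT (acc.getD i idT) (acc.getD j idT) := eqT_eq _ _ h.1
          exact ⟨g1 * g2, Subgroup.mul_mem _ hg1 hg2, by rw [h1]; exact TblP_mul _ _ _ _ ht1 ht2⟩
        | inv i =>
          obtain ⟨g1, hg1, ht1⟩ := getD_valid H acc hacc i
          exact ⟨g1⁻¹, Subgroup.inv_mem _ hg1, TblP_inv _ _ _ ht1 h.1⟩
      have hacc' : ∀ t ∈ acc ++ [a], ∃ g ∈ H, TblP g t := by
        intro t ht
        rw [List.mem_append, List.mem_singleton] at ht
        rcases ht with ht | rfl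
        · exact hacc t ht
        · exact ha
      have h2 := ih cs (acc ++ [a]) hacc' h.2 t
      rw [List.append_assoc] at h2
      exact h2 ht

def allT : List (List ℕ) := genT ++ slpT

theorem shift_one_tbl : ∀ p : GolayPt, idx (shiftFun 1 p) = (genT.getD 1 []).getD (idx p) 0 := by
  decide +kernel

theorem proj_tbl' : ∀ p : GolayPt, idx (projInvFun p) = (genT.getD 3 []).getD (idx p) 0 := by
  decide +kernel

theorem cube_tbl' : ∀ p : GolayPt, idx (cubeTwistFun p) = (genT.getD 4 []).getD (idx p) 0 := by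
  decide +kernel

theorem inv_tbl_S : invOK (genT.getD 1 []) (genT.getD 2 []) = true := by decide +kernel

theorem inv_tbl_C : invOK (genT.getD 4 []) (genT.getD 5 []) = true := by decide +kernel

theorem genT_valid (H : Subgroup (Equiv.Perm GolayPt)) (hS : shift 1 ∈ H) (hP : projInv ∈ H)
    (hC : cubeTwist ∈ H) : ∀ t ∈ genT, ∃ g ∈ H, TblP g t := by
  intro t ht
  have hS' : TblP (shift 1) (genT.getD 1 []) := shift_one_tbl
  have hP' : TblP projInv (genT.getD 3 []) := proj_tbl'
  have hC' : TblP cubeTwist (genT.getD 4 []) := cube_tbl'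
  unfold genT at ht
  simp only [List.mem_cons, List.not_mem_nil, or_false] at ht
  rcases ht with rfl | rfl | rfl | rfl | rfl | rfl
  · exact ⟨1, Subgroup.one_mem _, TblP_one⟩
  · exact ⟨shift 1, hS, hS'⟩
  · exact ⟨(shift 1)⁻¹, Subgroup.inv_mem _ hS, TblP_inv _ _ _ hS' inv_tbl_S⟩
  · exact ⟨projInv, hP, hP'⟩
  · exact ⟨cubeTwist, hC, hC'⟩
  · exact ⟨cubeTwist⁻¹, Subgroup.inv_mem _ hC, TblP_inv _ _ _ hC' inv_tbl_C⟩

set_option maxRecDepth 100000 in
theorem slp_ok : slpOK genT slpT slpI = true := by decide +kernel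

theorem allT_valid (H : Subgroup (Equiv.Perm GolayPt)) (hS : shift 1 ∈ H) (hP : projInv ∈ H)
    (hC : cubeTwist ∈ H) : ∀ t ∈ allT, ∃ g ∈ H, TblP g t :=
  slpOK_spec H slpT slpI genT (genT_valid H hS hP hC) slp_ok

def stepT (t : List ℕ) (a b : ℕ) : Bool :=
  r24.all (fun i =>
    Nat.beq (Nat.mod (Nat.shiftRight b (t.getD i 0)) 2) (Nat.mod (Nat.shiftRight a i) 2))

theorem stepT_act (g : Equiv.Perm GolayPt) (t : List ℕ) (h : TblP g t) (a b : ℕ)
    (hs : stepT t a b = true) : act g (toWord a) = toWord b := by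
  funext q
  rw [act_apply, toWord_apply, toWord_apply]
  have h1 := h (g.symm q)
  rw [Equiv.apply_symm_apply] at h1
  unfold stepT at hs
  rw [List.all_eq_true] at hs
  have h2 := hs _ (mem_r24 _ (idx_lt (g.symm q)))
  have h3 : (b >>> (t.getD (idx (g.symm q)) 0)) % 2 = (a >>> idx (g.symm q)) % 2 :=
    Nat.eq_of_beq_eq_true h2
  rw [← h1] at h3
  rw [bit_inj a b _ _ h3]

theorem stepT_smul (g : Equiv.Perm GolayPt) (t : List ℕ) (h : TblP g t) (a b : ℕ)
    (hs : stepT t a b = true) : g • bitsOf a = bitsOf b := by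
  unfold bitsOf
  rw [smul_support, stepT_act g t h a b hs]

def FixOn (g : Equiv.Perm GolayPt) (F : ℕ) : Prop := ∀ p ∈ bitsOf F, g p = p

def FixL (g : Equiv.Perm GolayPt) (l : List ℕ) : Prop := ∀ j ∈ l, g (ptOf j) = ptOf j

theorem fixOn_of_fixL (g : Equiv.Perm GolayPt) (l : List ℕ) (F : ℕ)
    (h : ∀ i < 24, F.testBit i = true → i ∈ l) (hg : FixL g l) : FixOn g F := by
  intro p hp
  rw [mem_bitsOf] at hp
  have h1 := hg _ (h _ (idx_lt p) hp)
  rw [ptOf_idx] at h1
  exact h1

theorem FixL_mul (g h : Equiv.Perm GolayPt) (l : List ℕ) (hg : FixL g l) (hh : FixL h l) :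
    FixL (g * h) l := by
  intro j hj
  rw [Equiv.Perm.mul_apply, hh j hj, hg j hj]

theorem FixL_inv (g : Equiv.Perm GolayPt) (l : List ℕ) (hg : FixL g l) : FixL g⁻¹ l := by
  intro j hj
  have h1 := hg j hj
  change g.symm (ptOf j) = ptOf j
  rw [Equiv.symm_apply_eq, h1]

theorem FixL_one (l : List ℕ) : FixL 1 l := fun _ _ => rfl

theorem oct_inv (g : Equiv.Perm GolayPt) (hg : g ∈ M24) (F o : ℕ) (hF : FixOn g F)
    (ho : o ∈ octL) (h5 : 5 ≤ popc (F &&& o)) : g • bitsOf o = bitsOf o := by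
  have ho' : bitsOf o ∈ octads := (mem_octads _).2 ⟨o, ho, rfl⟩
  have hgo : g • bitsOf o ∈ octads := octads_smul g hg _ ho'
  have hc : 5 ≤ (bitsOf (F &&& o)).card := by
    rw [card_bitsOf]
    exact h5
  obtain ⟨s, hs, hs5⟩ := Finset.exists_subset_card_eq hc
  have hsub : ∀ p ∈ s, p ∈ bitsOf F ∧ p ∈ bitsOf o := by
    intro p hp
    have h1 := hs hp
    rw [← bitsOf_and, Finset.mem_inter] at h1
    exact h1
  apply octad_unique _ _ s hgo ho' hs5
  · intro p hp
    have h1 := hsub p hp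
    have h2 : g • p ∈ g • bitsOf o := Finset.smul_mem_smul_finset h1.2
    have h3 : g • p = p := hF p h1.1
    rw [h3] at h2
    exact h2
  · intro p hp
    exact (hsub p hp).2

def memL (a : ℕ) : List ℕ → Bool
  | [] => false
  | b :: l => Nat.beq a b || memL a l

theorem memL_mem (a : ℕ) : ∀ l : List ℕ, memL a l = true → a ∈ l := by
  intro l
  induction l with
  | nil =>
    intro h
    exact absurd h (by simp [memL])
  | cons b l ih =>
    intro h
    rw [memL, Bool.or_eq_true] at h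
    rcases h with h | h
    · rw [Nat.eq_of_beq_eq_true h]
      exact List.mem_cons_self
    · exact List.mem_cons_of_mem _ (ih h)

def baseStep (F : ℕ) (oo : ℕ × ℕ) : Bool :=
  memL oo.1 octL && memL oo.2 octL && Nat.ble 5 (popc (F &&& oo.1)) &&
    Nat.ble 5 (popc (F &&& oo.2)) &&
    Nat.beq (popc ((oo.1 &&& oo.2) ^^^ ((oo.1 &&& oo.2) &&& F))) 1

def baseRun : ℕ → List (ℕ × ℕ) → ℕ
  | F, [] => F
  | F, oo :: rest => if baseStep F oo then baseRun (F ||| (oo.1 &&& oo.2)) rest else 0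

theorem smul_mem_of_inv (g : Equiv.Perm GolayPt) (s : Finset GolayPt) (h : g • s = s)
    (p : GolayPt) (hp : p ∈ s) : g p ∈ s := by
  have h1 : g • p ∈ g • s := Finset.smul_mem_smul_finset hp
  rw [h] at h1
  exact h1

theorem baseStep_spec (g : Equiv.Perm GolayPt) (hg : g ∈ M24) (F : ℕ) (oo : ℕ × ℕ)
    (hF : FixOn g F) (h : baseStep F oo = true) : FixOn g (F ||| (oo.1 &&& oo.2)) := by
  unfold baseStep at h
  rw [Bool.and_eq_true, Bool.and_eq_true, Bool.and_eq_true, Bool.and_eq_true] at h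
  obtain ⟨⟨⟨⟨h1, h2⟩, h3⟩, h4⟩, h5⟩ := h
  have hi1 := oct_inv g hg F oo.1 hF (memL_mem _ _ h1) (Nat.le_of_ble_eq_true h3)
  have hi2 := oct_inv g hg F oo.2 hF (memL_mem _ _ h2) (Nat.le_of_ble_eq_true h4)
  have hc : (bitsOf ((oo.1 &&& oo.2) ^^^ ((oo.1 &&& oo.2) &&& F))).card = 1 := by
    rw [card_bitsOf]
    exact Nat.eq_of_beq_eq_true h5
  have hmem : ∀ q : GolayPt, q ∈ bitsOf oo.1 → q ∈ bitsOf oo.2 → q ∉ bitsOf F →
      q ∈ bitsOf ((oo.1 &&& oo.2) ^^^ ((oo.1 &&& oo.2) &&& F)) := by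
    intro q hq1 hq2 hq3
    rw [mem_bitsOf] at hq1 hq2 hq3 ⊢
    have hq3' : F.testBit (idx q) = false := by
      cases hh : F.testBit (idx q)
      · rfl
      · exact absurd hh hq3
    simp only [Nat.testBit_xor, Nat.testBit_and, hq1, hq2, hq3']
    decide
  intro p hp
  rw [mem_bitsOf, Nat.testBit_or, Bool.or_eq_true, Nat.testBit_and, Bool.and_eq_true] at hp
  by_cases hpF : p ∈ bitsOf F
  · exact hF p hpF
  · rcases hp with hp | hp
    · exact absurd ((mem_bitsOf _ _).2 hp) hpF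
    · have hp1 : p ∈ bitsOf oo.1 := (mem_bitsOf _ _).2 hp.1
      have hp2 : p ∈ bitsOf oo.2 := (mem_bitsOf _ _).2 hp.2
      have hg1 : g p ∈ bitsOf oo.1 := smul_mem_of_inv g _ hi1 p hp1
      have hg2 : g p ∈ bitsOf oo.2 := smul_mem_of_inv g _ hi2 p hp2
      have hg3 : g p ∉ bitsOf F := by
        intro hgp
        have h6 := hF (g p) hgp
        have h7 : g p = p := g.injective h6
        rw [h7] at hgp
        exact hpF hgp
      exact Finset.card_le_one.1 (le_of_eq hc) _ (hmem _ hg1 hg2 hg3) _ (hmem _ hp1 hp2 hpF)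

theorem fixOn_zero (g : Equiv.Perm GolayPt) : FixOn g 0 := by
  intro p hp
  rw [mem_bitsOf, Nat.zero_testBit] at hp
  exact absurd hp (by decide)

theorem baseRun_spec (g : Equiv.Perm GolayPt) (hg : g ∈ M24) :
    ∀ (steps : List (ℕ × ℕ)) (F : ℕ), FixOn g F → FixOn g (baseRun F steps) := by
  intro steps
  induction steps with
  | nil =>
    intro F hF
    exact hF
  | cons oo rest ih =>
    intro F hF
    rw [baseRun]
    by_cases h : baseStep F oo = true
    · rw [if_pos h]
      exact ih _ (baseStep_spec g hg F oo hF h)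
    · rw [if_neg h]
      exact fixOn_zero g

theorem full_testBit : ∀ i < 24, (16777215 : ℕ).testBit i = true := by decide

theorem eq_one_of_fixOn (g : Equiv.Perm GolayPt) (h : FixOn g 16777215) : g = 1 := by
  apply Equiv.ext
  intro p
  exact h p ((mem_bitsOf _ _).2 (full_testBit _ (idx_lt p)))

theorem idx_ne_of_fix (g : Equiv.Perm GolayPt) (l : List ℕ)
    (hg : FixL g l) (b : ℕ) (hb : b < 24) (hbl : b ∉ l) : idx (g (ptOf b)) ∉ l := by
  intro hmem
  have h1 := hg _ hmem
  rw [ptOf_idx] at h1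
  have h2 : g (ptOf b) = ptOf b := g.injective h1
  have h3 := hmem
  rw [h2, idx_ptOf b hb] at h3
  exact hbl h3

end Cfsg.Agent.Lib.Helper9.Leech
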