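import Cfsg.Agent.Lib.Helper9.M24Oct
import Cfsg.Agent.Lib.Helper9.M24SimpData

set_option autoImplicit false
open Cfsg

namespace Cfsg.Agent.Lib.Helper9.Leech

open scoped Pointwise
open Cfsg.Agent.S5393 Cfsg.Agent.S5548

theorem sylow_mem {G : Type*} [Group G] [Finite G] (p : ℕ) [Fact p.Prime] (N : Subgroup G)
    [N.Normal] (hp : p ∣ Nat.card N) (hp2 : ¬ p ^ 2 ∣ Nat.card G) (s : G) (hs : orderOf s = p) :
    s ∈ N := by
  obtain ⟨x, hx⟩ := exists_prime_orderOf_dvd_card' p hp
  have hx' : orderOf (x : G) = p := by rw [Subgroup.orderOf_coe, hx]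
  have key : ∀ y : G, orderOf y = p → ∀ Q : Sylow p G, Subgroup.zpowers y ≤ Q →
      (Q : Subgroup G) = Subgroup.zpowers y := by
    intro y hy Q hQ
    obtain ⟨n, hn⟩ := IsPGroup.iff_card.1 Q.isPGroup'
    have h1 : Nat.card (Subgroup.zpowers y) = p := by rw [Nat.card_zpowers, hy]
    have h2 : Nat.card (Q : Subgroup G) ∣ Nat.card G := Subgroup.card_subgroup_dvd_card _
    have h3 : n < 2 := by
      by_contra hcon
      have hcon' : 2 ≤ n := Nat.le_of_not_lt hcon
      apply hp2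
      exact dvd_trans (pow_dvd_pow p hcon') (hn ▸ h2)
    have h4 : Nat.card (Q : Subgroup G) ≤ Nat.card (Subgroup.zpowers y) := by
      rw [h1, hn]
      have hp1 : 1 ≤ p := (Fact.out : p.Prime).one_lt.le
      interval_cases n
      · simpa using hp1
      · simp
    exact (Subgroup.eq_of_le_of_card_ge hQ h4).symm
  have hP1 : IsPGroup p (Subgroup.zpowers (x : G)) :=
    IsPGroup.of_card (n := 1) (by rw [Nat.card_zpowers, hx', pow_one])
  have hP2 : IsPGroup p (Subgroup.zpowers s) :=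
    IsPGroup.of_card (n := 1) (by rw [Nat.card_zpowers, hs, pow_one])
  obtain ⟨Q1, hQ1⟩ := hP1.exists_le_sylow
  obtain ⟨Q2, hQ2⟩ := hP2.exists_le_sylow
  obtain ⟨g, hg⟩ := MulAction.exists_smul_eq G Q1 Q2
  have e1 := key _ hx' Q1 hQ1
  have hsQ : s ∈ (Q2 : Subgroup G) := hQ2 (Subgroup.mem_zpowers s)
  rw [← hg, Sylow.coe_subgroup_smul, Subgroup.mem_smul_pointwise_iff_exists] at hsQ
  obtain ⟨y, hy, rfl⟩ := hsQ
  rw [e1] at hy
  have hyN : y ∈ N := by
    have hle : Subgroup.zpowers (x : G) ≤ N := by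
      rw [Subgroup.zpowers_le]
      exact x.2
    exact hle hy
  rw [MulAut.smul_def, MulAut.conj_apply]
  exact Subgroup.Normal.conj_mem inferInstance y hyN g

def nInsOK (G : List (List ℕ)) (acc : List (List ℕ)) (t : List ℕ) : NIns → Bool
  | .mul i j => eqT t (compT (acc.getD i idT) (acc.getD j idT))
  | .inv i => invOK (acc.getD i idT) t
  | .conj a b i => eqT (compT (G.getD a idT) (G.getD b idT)) idT &&
      eqT t (compT (compT (G.getD a idT) (acc.getD i idT)) (G.getD b idT))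

def nslpOK (G : List (List ℕ)) : List (List ℕ) → List (List ℕ) → List NIns → Bool
  | _, [], [] => true
  | acc, t :: ts, c :: cs => nInsOK G acc t c && nslpOK G (acc ++ [t]) ts cs
  | _, _, _ => false

theorem nslpOK_spec (H N : Subgroup (Equiv.Perm GolayPt)) (G : List (List ℕ))
    (hG : ∀ t ∈ G, ∃ g ∈ H, TblP g t) (hconj : ∀ g ∈ H, ∀ n ∈ N, g * n * g⁻¹ ∈ N) :
    ∀ (ts : List (List ℕ)) (cs : List NIns) (acc : List (List ℕ)),
      (∀ t ∈ acc, ∃ n ∈ N, TblP n t) → nslpOK G acc ts cs = true →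
      ∀ t ∈ acc ++ ts, ∃ n ∈ N, TblP n t := by
  intro ts
  induction ts with
  | nil =>
    intro cs acc hacc _ t ht
    rw [List.append_nil] at ht
    exact hacc t ht
  | cons a ts ih =>
    intro cs acc hacc h t ht
    cases cs with
    | nil => exact absurd h (by simp [nslpOK])
    | cons c cs =>
      rw [nslpOK, Bool.and_eq_true] at h
      have ha : ∃ n ∈ N, TblP n a := by
        cases c with
        | mul i j =>
          obtain ⟨g1, hg1, ht1⟩ := getD_valid N acc hacc i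
          obtain ⟨g2, hg2, ht2⟩ := getD_valid N acc hacc j
          have h1 : a = compT (acc.getD i idT) (acc.getD j idT) := eqT_eq _ _ h.1
          exact ⟨g1 * g2, Subgroup.mul_mem _ hg1 hg2, by rw [h1]; exact TblP_mul _ _ _ _ ht1 ht2⟩
        | inv i =>
          obtain ⟨g1, hg1, ht1⟩ := getD_valid N acc hacc i
          exact ⟨g1⁻¹, Subgroup.inv_mem _ hg1, TblP_inv _ _ _ ht1 h.1⟩
        | conj x y i =>
          have h' := h.1
          unfold nInsOK at h'
          rw [Bool.and_eq_true] at h'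
          obtain ⟨g1, hg1, ht1⟩ := getD_valid H G hG x
          obtain ⟨g2, hg2, ht2⟩ := getD_valid H G hG y
          obtain ⟨n, hn, htn⟩ := getD_valid N acc hacc i
          have h12 : g1 * g2 = 1 := by
            have h3 := TblP_mul _ _ _ _ ht1 ht2
            rw [eqT_eq _ _ h'.1] at h3
            exact TblP_ext _ _ _ h3 TblP_one
          have h2 : g2 = g1⁻¹ := eq_inv_of_mul_eq_one_right h12
          refine ⟨g1 * n * g1⁻¹, hconj g1 hg1 n hn, ?_⟩
          rw [eqT_eq _ _ h'.2, ← h2]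
          exact TblP_mul _ _ _ _ (TblP_mul _ _ _ _ ht1 htn) ht2
      have hacc' : ∀ t ∈ acc ++ [a], ∃ n ∈ N, TblP n t := by
        intro t ht
        rw [List.mem_append, List.mem_singleton] at ht
        rcases ht with ht | rfl
        · exact hacc t ht
        · exact ha
      have h2 := ih cs (acc ++ [a]) hacc' h.2 t
      rw [List.append_assoc] at h2
      exact h2 ht

theorem strip_gen (H : Subgroup (Equiv.Perm GolayPt)) (i : ℕ)
    (hH : ∀ j, i ≤ j → j < 7 → ∀ x ∈ orbL j,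
      ∃ u ∈ H, u ∈ M24 ∧ FixL u (baseL.take j) ∧ u (ptOf (baseL.getD j 0)) = ptOf x) :
    ∀ k, k ≤ 7 - i → ∀ g ∈ M24, FixL g (baseL.take (7 - k)) → g ∈ H := by
  intro k
  induction k with
  | zero =>
    intro _ g hg h
    have h1 : g = 1 := base_prop g hg (by
      intro j hj
      exact h j (by rw [List.take_of_length_le (by decide)]; exact hj))
    rw [h1]
    exact Subgroup.one_mem _
  | succ k ih =>
    intro hk g hg h
    have hlt : 7 - (k + 1) < 7 := by omega
    obtain ⟨u, hu, huM, hfix, hub⟩ := hH (7 - (k + 1)) (by omega) hlt _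
      (bound _ hlt g hg h)
    rw [ptOf_idx] at hub
    have hfix' : FixL (u⁻¹ * g) (baseL.take (7 - (k + 1) + 1)) := by
      intro j hj
      rw [take_succ_mem _ hlt] at hj
      rcases hj with hj | rfl
      · exact FixL_mul _ _ _ (FixL_inv _ _ hfix) h j hj
      · rw [Equiv.Perm.mul_apply, ← hub]
        change u.symm (u _) = _
        rw [Equiv.symm_apply_apply]
    have h2 : 7 - (k + 1) + 1 = 7 - k := by omega
    rw [h2] at hfix'
    have h3 := ih (by omega) (u⁻¹ * g) (Subgroup.mul_mem _ (inv_mem huM) hg) hfix'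
    have h4 : g = u * (u⁻¹ * g) := by group
    rw [h4]
    exact Subgroup.mul_mem _ hu h3

theorem fixSub_le_of (H : Subgroup (Equiv.Perm GolayPt)) (i : ℕ) (hi : i ≤ 7)
    (hH : ∀ j, i ≤ j → j < 7 → ∀ x ∈ orbL j,
      ∃ u ∈ H, u ∈ M24 ∧ FixL u (baseL.take j) ∧ u (ptOf (baseL.getD j 0)) = ptOf x) :
    fixSub (baseL.take i) ≤ H := by
  intro g hg
  have h := strip_gen H i hH (7 - i) le_rfl g hg.1
  have h2 : 7 - (7 - i) = i := by omega
  rw [h2] at h
  exact h hg.2

def lvlOK' (T : List (List ℕ)) (pre : List ℕ) (b : ℕ) (tr : List (ℕ × ℕ)) : Bool :=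
  tr.all (fun xk => pre.all (fun j => Nat.beq ((T.getD xk.2 idT).getD j 0) j) &&
    Nat.beq ((T.getD xk.2 idT).getD b 0) xk.1)

theorem lvl_spec' (H : Subgroup (Equiv.Perm GolayPt)) (T : List (List ℕ))
    (hT : ∀ t ∈ T, ∃ g ∈ H, TblP g t) (pre : List ℕ) (b : ℕ) (tr : List (ℕ × ℕ))
    (hpre : ∀ j ∈ pre, j < 24) (hb : b < 24) (h : lvlOK' T pre b tr = true) :
    ∀ x ∈ tr.map Prod.fst, ∃ u ∈ H, FixL u pre ∧ u (ptOf b) = ptOf x := by
  intro x hx
  rw [List.mem_map] at hx
  obtain ⟨xk, hxk, rfl⟩ := hx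
  unfold lvlOK' at h
  rw [List.all_eq_true] at h
  have h1 := h xk hxk
  rw [Bool.and_eq_true, List.all_eq_true] at h1
  obtain ⟨g, hg, ht⟩ := getD_valid H T hT xk.2
  refine ⟨g, hg, ?_, ?_⟩
  · intro j hj
    rw [TblP_apply g _ ht j (hpre j hj), Nat.eq_of_beq_eq_true (h1.1 j hj)]
  · rw [TblP_apply g _ ht b hb, Nat.eq_of_beq_eq_true h1.2]

theorem getD_mem' (l : List (List ℕ)) (i : ℕ) (h : i < l.length) (d : List ℕ) :
    l.getD i d ∈ l := by
  rw [List.getD_eq_getElem?_getD, List.getElem?_eq_getElem h]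
  exact List.getElem_mem h

set_option maxRecDepth 100000 in
theorem m24G_ok : slpOK allT m24GT m24GI = true := by decide +kernel

theorem m24G_valid : ∀ t ∈ allT ++ m24GT, ∃ g ∈ M24, TblP g t := by
  apply slpOK_spec M24 m24GT m24GI allT _ m24G_ok
  intro t ht
  obtain ⟨g, hg, h⟩ := allT_Gcl t ht
  exact ⟨g, Gcl_le hg, h⟩

set_option maxRecDepth 100000 in
theorem m24N_ok : nslpOK (allT ++ m24GT) [idT, genT.getD 1 []] m24NT m24NI = true := by
  decide +kernel

theorem m24N_P : ([idT, genT.getD 1 []] ++ m24NT).getD 5 [] = genT.getD 3 [] := by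
  decide +kernel

theorem m24N_C : ([idT, genT.getD 1 []] ++ m24NT).getD 13 [] = genT.getD 4 [] := by
  decide +kernel

theorem top_of_shift (N : Subgroup (Equiv.Perm GolayPt))
    (hconj : ∀ g ∈ M24, ∀ n ∈ N, g * n * g⁻¹ ∈ N) (hS : shift 1 ∈ N) : M24 ≤ N := by
  have hacc : ∀ t ∈ [idT, genT.getD 1 []], ∃ n ∈ N, TblP n t := by
    intro t ht
    rw [List.mem_cons, List.mem_singleton] at ht
    rcases ht with rfl | rfl
    · exact ⟨1, Subgroup.one_mem _, TblP_one⟩
    · exact ⟨shift 1, hS, shift_one_tbl⟩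
  have hall := nslpOK_spec M24 N (allT ++ m24GT) m24G_valid hconj m24NT m24NI _ hacc m24N_ok
  have hP : projInv ∈ N := by
    obtain ⟨n, hn, ht⟩ := hall (genT.getD 3 []) (by
      rw [← m24N_P]
      exact getD_mem' _ 5 (by decide) _)
    have : n = projInv := TblP_ext _ _ _ ht proj_tbl'
    rw [← this]
    exact hn
  have hC : cubeTwist ∈ N := by
    obtain ⟨n, hn, ht⟩ := hall (genT.getD 4 []) (by
      rw [← m24N_C]
      exact getD_mem' _ 13 (by decide) _)
    have : n = cubeTwist := TblP_ext _ _ _ ht cube_tbl'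
    rw [← this]
    exact hn
  rw [M24_eq_Gcl]
  unfold Gcl
  rw [Subgroup.closure_le]
  rintro g (rfl | rfl | rfl)
  · exact hS
  · exact hP
  · exact hC

end Cfsg.Agent.Lib.Helper9.Leech
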