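import Cfsg.Agent.Lib.Helper9.M24Stab

set_option autoImplicit false
open Cfsg

namespace Cfsg.Agent.Lib.Helper9.Leech

open scoped Pointwise
open Cfsg.Agent.S5393 Cfsg.Agent.S5548

def octPts : List ℕ := [23, 0, 1, 2, 3, 5, 14, 17]

def octFixD : List (ℕ × ℕ × ℕ) := [(4, 0, 0), (6, 71, 83), (7, 85, 82), (8, 73, 83), (9, 78, 83),
  (10, 79, 83), (11, 80, 83), (12, 72, 83), (13, 75, 83), (15, 84, 82), (16, 74, 83), (18, 76, 82),
  (19, 61, 0), (20, 77, 83), (21, 59, 0), (22, 62, 0)]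

def octFixOK (e : ℕ × ℕ × ℕ) : Bool :=
  octPts.all (fun j => Nat.beq
    ((compT (allT.getD e.2.1 idT) (allT.getD e.2.2 idT)).getD j 0) j) &&
  Nat.beq ((compT (allT.getD e.2.1 idT) (allT.getD e.2.2 idT)).getD 4 0) e.1 &&
  eqT (compT (compT (allT.getD e.2.1 idT) (allT.getD e.2.2 idT))
    (compT (allT.getD e.2.1 idT) (allT.getD e.2.2 idT))) idT

set_option maxRecDepth 100000 in
theorem octFix_ok : octFixD.all octFixOK = true := by decide +kernel

theorem octFix_fst : octFixD.map (fun e => e.1) = orbL 5 := by decide +kernel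

theorem octPts_lt : ∀ j ∈ octPts, j < 24 := by decide

theorem octFix_spec : ∀ x ∈ orbL 5, ∃ g ∈ ptStab (octPts.map ptOf),
    g (ptOf 4) = ptOf x ∧ g * g = 1 := by
  intro x hx
  rw [← octFix_fst, List.mem_map] at hx
  obtain ⟨e, he, rfl⟩ := hx
  have h := octFix_ok
  rw [List.all_eq_true] at h
  have h1 := h e he
  unfold octFixOK at h1
  rw [Bool.and_eq_true, Bool.and_eq_true, List.all_eq_true] at h1
  obtain ⟨⟨h2, h3⟩, h4⟩ := h1
  obtain ⟨g1, hg1, ht1⟩ := getD_valid Gcl allT allT_Gcl e.2.1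
  obtain ⟨g2, hg2, ht2⟩ := getD_valid Gcl allT allT_Gcl e.2.2
  have ht := TblP_mul g1 g2 _ _ ht1 ht2
  refine ⟨g1 * g2, ⟨Gcl_le (Subgroup.mul_mem _ hg1 hg2), ?_⟩, ?_, ?_⟩
  · intro p hp
    rw [List.mem_map] at hp
    obtain ⟨j, hj, rfl⟩ := hp
    rw [TblP_apply _ _ ht j (octPts_lt j hj), Nat.eq_of_beq_eq_true (h2 j hj)]
  · rw [TblP_apply _ _ ht 4 (by decide), Nat.eq_of_beq_eq_true h3]
  · have ht2 := TblP_mul _ _ _ _ ht ht
    rw [eqT_eq _ _ h4] at ht2
    exact TblP_ext _ _ _ ht2 TblP_one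

theorem base_in_oct : ∀ j ∈ baseL, j ∈ octPts ∨ j = 4 := by decide

theorem take5_in_oct : ∀ j ∈ baseL.take 5, j ∈ octPts := by decide

theorem H0_stab_bot :
    ptStab (octPts.map ptOf) ⊓ MulAction.stabilizer (Equiv.Perm GolayPt) (ptOf 4) = ⊥ := by
  ext g
  rw [Subgroup.mem_inf, mem_ptStab, MulAction.mem_stabilizer_iff, Subgroup.mem_bot]
  constructor
  · rintro ⟨⟨h1, h2⟩, h3⟩
    apply base_prop g h1
    intro j hj
    rcases base_in_oct j hj with h | rfl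
    · exact h2 _ (List.mem_map_of_mem h)
    · exact h3
  · rintro rfl
    exact ⟨⟨Subgroup.one_mem M24, fun _ _ => rfl⟩, rfl⟩

theorem H0_bound (g : Equiv.Perm GolayPt) (hg : g ∈ ptStab (octPts.map ptOf)) :
    idx (g (ptOf 4)) ∈ orbL 5 := by
  apply bound 5 (by decide) g hg.1
  intro j hj
  exact hg.2 _ (List.mem_map_of_mem (take5_in_oct j hj))

theorem card_H0 : Nat.card (ptStab (octPts.map ptOf)) = 16 := by
  rw [card_step (ptStab (octPts.map ptOf)) 4 (orbL 5) (orb_nodup 5 (by decide))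
    (orb_lt 5 (by decide)) H0_bound, H0_stab_bot, Subgroup.card_bot]
  · rfl
  · intro x hx
    obtain ⟨g, hg, h1, _⟩ := octFix_spec x hx
    exact ⟨g, hg, h1⟩

theorem sq_H0 (g : Equiv.Perm GolayPt) (hg : g ∈ ptStab (octPts.map ptOf)) : g * g = 1 := by
  obtain ⟨e, he, h1, h2⟩ := octFix_spec _ (H0_bound g hg)
  rw [ptOf_idx] at h1
  have h3 : e⁻¹ * g ∈ ptStab (octPts.map ptOf) ⊓
      MulAction.stabilizer (Equiv.Perm GolayPt) (ptOf 4) := by
    refine Subgroup.mem_inf.2 ⟨Subgroup.mul_mem _ (inv_mem he) hg, ?_⟩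
    rw [MulAction.mem_stabilizer_iff]
    change e⁻¹ (g (ptOf 4)) = ptOf 4
    rw [← h1]
    change e.symm (e _) = _
    rw [Equiv.symm_apply_apply]
  rw [H0_stab_bot, Subgroup.mem_bot] at h3
  have h4 : g = e := by
    have : g = e * (e⁻¹ * g) := by group
    rw [this, h3, mul_one]
  rw [h4]
  exact h2

theorem octO_bits : ∀ i < 24, octO.testBit i = true → i ∈ octPts := by decide +kernel

theorem octO_bits' : ∀ j ∈ octPts, octO.testBit j = true := by decide +kernel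

theorem bitsOf_octO (p : GolayPt) : p ∈ bitsOf octO ↔ p ∈ octPts.map ptOf := by
  rw [mem_bitsOf]
  constructor
  · intro h
    rw [List.mem_map]
    exact ⟨idx p, octO_bits _ (idx_lt p) h, ptOf_idx p⟩
  · intro h
    rw [List.mem_map] at h
    obtain ⟨j, hj, rfl⟩ := h
    rw [idx_ptOf j (octPts_lt j hj)]
    exact octO_bits' j hj

theorem ptStab_congr (s s' : List GolayPt) (h : ∀ p, p ∈ s ↔ p ∈ s') : ptStab s = ptStab s' := by
  ext g
  rw [mem_ptStab, mem_ptStab]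
  constructor
  · rintro ⟨h1, h2⟩
    exact ⟨h1, fun p hp => h2 p ((h p).2 hp)⟩
  · rintro ⟨h1, h2⟩
    exact ⟨h1, fun p hp => h2 p ((h p).1 hp)⟩

theorem octO_octad : bitsOf octO ∈ octads := (mem_octads _).2 ⟨octO, octO_mem, rfl⟩

theorem oct_to_octO (o : Finset GolayPt) (ho : o ∈ octads) :
    ∃ τ ∈ M24, τ • bitsOf octO = o ∧ ∀ p, p ∈ o ↔ p ∈ (octPts.map ptOf).map τ := by
  obtain ⟨g, hg⟩ := octads_trans (bitsOf octO) o octO_octad ho
  refine ⟨g.1, g.2, hg, ?_⟩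
  intro p
  rw [← hg]
  constructor
  · intro hp
    obtain ⟨q, hq, rfl⟩ := Finset.mem_smul_finset.1 hp
    exact List.mem_map_of_mem ((bitsOf_octO q).1 hq)
  · intro hp
    rw [List.mem_map] at hp
    obtain ⟨q, hq, rfl⟩ := hp
    exact Finset.smul_mem_smul_finset ((bitsOf_octO q).2 hq)

theorem ptStab_conj_back (g : Equiv.Perm GolayPt) (hg : g ∈ M24) (s : List GolayPt)
    (h : Equiv.Perm GolayPt) (hh : h ∈ ptStab (s.map g)) : g⁻¹ * h * g ∈ ptStab s := by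
  refine ⟨Subgroup.mul_mem _ (Subgroup.mul_mem _ (inv_mem hg) hh.1) hg, ?_⟩
  intro p hp
  rw [Equiv.Perm.mul_apply, Equiv.Perm.mul_apply, hh.2 (g p) (List.mem_map_of_mem hp)]
  change g.symm (g p) = p
  rw [Equiv.symm_apply_apply]

theorem oct_fix (o : Finset GolayPt) (ho : o ∈ octads) :
    Nat.card (ptStab o.toList) = 16 ∧ ∀ g ∈ ptStab o.toList, g * g = 1 := by
  obtain ⟨τ, hτ, _, hmem⟩ := oct_to_octO o ho
  have heq : ptStab o.toList = ptStab ((octPts.map ptOf).map τ) := by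
    apply ptStab_congr
    intro p
    rw [Finset.mem_toList]
    exact hmem p
  rw [heq]
  refine ⟨by rw [card_ptStab_conj τ hτ, card_H0], ?_⟩
  intro g hg
  have h1 := sq_H0 _ (ptStab_conj_back τ hτ _ g hg)
  have h2 : g * g = τ * ((τ⁻¹ * g * τ) * (τ⁻¹ * g * τ)) * τ⁻¹ := by group
  rw [h2, h1]
  group

end Cfsg.Agent.Lib.Helper9.Leech
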