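import Cfsg.Agent.Lib.Helper9.M24Norm

set_option autoImplicit false
open Cfsg

namespace Cfsg.Agent.Lib.Helper9.Leech

open scoped Pointwise
open Cfsg.Agent.S5393 Cfsg.Agent.S5548

theorem shift_mul (a b : ZMod 23) : shift a * shift b = shift (b + a) := by
  apply Equiv.ext
  intro p
  cases p with
  | none => rfl
  | some x =>
    change some (x + b + a) = some (x + (b + a))
    rw [add_assoc]

theorem shift_zero : shift 0 = 1 := by
  apply Equiv.ext
  intro p
  cases p with
  | none => rfl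
  | some x =>
    change some (x + 0) = some x
    rw [add_zero]

theorem shift_pow (k : ℕ) : shift 1 ^ k = shift (k : ZMod 23) := by
  induction k with
  | zero =>
    rw [pow_zero, Nat.cast_zero, shift_zero]
  | succ k ih =>
    rw [pow_succ, ih, shift_mul, Nat.cast_succ, add_comm]

theorem shift_ne_one : shift 1 ≠ 1 := by
  intro h
  have h1 : shift 1 (some 0) = some 0 := by rw [h]; rfl
  revert h1
  decide

theorem shift_pow23 : shift 1 ^ 23 = 1 := by
  rw [shift_pow]
  have : ((23 : ℕ) : ZMod 23) = 0 := by decide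
  rw [this, shift_zero]

theorem inv_apply_of_fix (g : Equiv.Perm GolayPt) (p : GolayPt) (h : g p = p) : g⁻¹ p = p := by
  change g.symm p = p
  rw [Equiv.symm_apply_eq, h]

theorem card_golayPt : Nat.card GolayPt = 24 := by
  rw [Nat.card_eq_fintype_card]
  decide

theorem ncard_compl_pt (p : GolayPt) : ({q | q ≠ p} : Set GolayPt).ncard = 23 := by
  have h : ({q | q ≠ p} : Set GolayPt) = ({p} : Set GolayPt)ᶜ := by
    ext q
    simp
  rw [h, Set.ncard_compl, Set.ncard_singleton, card_golayPt]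

theorem normal_trans (N : Subgroup (Equiv.Perm GolayPt))
    (hconj : ∀ g ∈ M24, ∀ n ∈ N, g * n * g⁻¹ ∈ N) (hne : N ≠ ⊥) (a b : GolayPt) :
    ∃ n ∈ N, n a = b := by
  by_cases hab : a = b
  · exact ⟨1, Subgroup.one_mem _, hab⟩
  · obtain ⟨n, hn, hn1⟩ : ∃ n ∈ N, n ≠ 1 := by
      by_contra hcon
      apply hne
      rw [Subgroup.eq_bot_iff_forall]
      intro x hx
      by_contra hx1
      exact hcon ⟨x, hx, hx1⟩
    obtain ⟨p, hp⟩ : ∃ p, n p ≠ p := by
      by_contra hcon
      apply hn1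
      apply Equiv.ext
      intro p
      by_contra hp
      exact hcon ⟨p, hp⟩
    obtain ⟨g, hg, hga, hgb⟩ := trans2 p (n p) a b (Ne.symm hp) hab
    refine ⟨g * n * g⁻¹, hconj g hg n hn, ?_⟩
    rw [Equiv.Perm.mul_apply, Equiv.Perm.mul_apply, ← hga]
    have : g⁻¹ (g p) = p := by
      change g.symm (g p) = p
      rw [Equiv.symm_apply_apply]
    rw [this, hgb]

theorem card_of_trans (N : Subgroup (Equiv.Perm GolayPt))
    (htr : ∀ a b : GolayPt, ∃ n ∈ N, n a = b) (p : GolayPt) :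
    Nat.card N = 24 * Nat.card ↥(N ⊓ MulAction.stabilizer (Equiv.Perm GolayPt) p) := by
  rw [card_orbit_step N p]
  have h : MulAction.orbit N p = Set.univ := by
    ext q
    rw [MulAction.mem_orbit_iff]
    constructor
    · intro _
      exact Set.mem_univ _
    · intro _
      obtain ⟨n, hn, hnq⟩ := htr p q
      exact ⟨⟨n, hn⟩, hnq⟩
  rw [h, Set.ncard_univ, card_golayPt]

theorem stab_ne_bot (N : Subgroup (Equiv.Perm GolayPt))
    (hconj : ∀ g ∈ M24, ∀ n ∈ N, g * n * g⁻¹ ∈ N)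
    (htr : ∀ a b : GolayPt, ∃ n ∈ N, n a = b) (p : GolayPt) :
    N ⊓ MulAction.stabilizer (Equiv.Perm GolayPt) p ≠ ⊥ := by
  intro hK
  have hcard := card_of_trans N htr p
  rw [hK, Subgroup.card_bot] at hcard
  have hfin : Finite N := Finite.of_injective (fun x : N => (x : Equiv.Perm GolayPt))
    Subtype.val_injective
  obtain ⟨a, ha⟩ := exists_prime_orderOf_dvd_card' (G := N) 2 (by rw [hcard]; decide)
  obtain ⟨b, hb⟩ := exists_prime_orderOf_dvd_card' (G := N) 3 (by rw [hcard]; decide)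
  have hmove : ∀ x : N, x ≠ 1 → (x : Equiv.Perm GolayPt) p ≠ p := by
    intro x hx hxp
    have h1 : (x : Equiv.Perm GolayPt) ∈ N ⊓ MulAction.stabilizer (Equiv.Perm GolayPt) p :=
      Subgroup.mem_inf.2 ⟨x.2, MulAction.mem_stabilizer_iff.2 hxp⟩
    rw [hK, Subgroup.mem_bot] at h1
    exact hx (Subtype.ext h1)
  have ha1 : a ≠ 1 := by
    rintro rfl
    rw [orderOf_one] at ha
    exact absurd ha (by decide)
  have hb1 : b ≠ 1 := by
    rintro rfl
    rw [orderOf_one] at hb
    exact absurd hb (by decide)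
  obtain ⟨g, hg, hgp, hgab⟩ := trans2 p ((a : Equiv.Perm GolayPt) p) p
    ((b : Equiv.Perm GolayPt) p) (Ne.symm (hmove a ha1)) (Ne.symm (hmove b hb1))
  have hc : g * (a : Equiv.Perm GolayPt) * g⁻¹ ∈ N := hconj g hg _ a.2
  have hcp : (g * (a : Equiv.Perm GolayPt) * g⁻¹) p = (b : Equiv.Perm GolayPt) p := by
    rw [Equiv.Perm.mul_apply, Equiv.Perm.mul_apply, inv_apply_of_fix g p hgp, hgab]
  have hbc : (b : Equiv.Perm GolayPt)⁻¹ * (g * (a : Equiv.Perm GolayPt) * g⁻¹) ∈
      N ⊓ MulAction.stabilizer (Equiv.Perm GolayPt) p := by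
    refine Subgroup.mem_inf.2 ⟨Subgroup.mul_mem _ (inv_mem b.2) hc, ?_⟩
    rw [MulAction.mem_stabilizer_iff]
    change (b : Equiv.Perm GolayPt)⁻¹ ((g * (a : Equiv.Perm GolayPt) * g⁻¹) p) = p
    rw [hcp]
    change (b : Equiv.Perm GolayPt).symm ((b : Equiv.Perm GolayPt) p) = p
    rw [Equiv.symm_apply_apply]
  rw [hK, Subgroup.mem_bot] at hbc
  have hbeq : (b : Equiv.Perm GolayPt) = g * (a : Equiv.Perm GolayPt) * g⁻¹ := by
    have : (b : Equiv.Perm GolayPt) =
        (b : Equiv.Perm GolayPt) * ((b : Equiv.Perm GolayPt)⁻¹ *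
          (g * (a : Equiv.Perm GolayPt) * g⁻¹)) := by
      rw [hbc, mul_one]
    rw [this]
    group
  have ha2 : a ^ 2 = 1 := by rw [← ha, pow_orderOf_eq_one]
  have ha2' : (a : Equiv.Perm GolayPt) * (a : Equiv.Perm GolayPt) = 1 := by
    have := congrArg (fun x : N => (x : Equiv.Perm GolayPt)) ha2
    simpa [pow_two] using this
  have hb2 : b ^ 2 = 1 := by
    apply Subtype.ext
    change (b : Equiv.Perm GolayPt) ^ 2 = 1
    rw [pow_two, hbeq]
    have : g * (a : Equiv.Perm GolayPt) * g⁻¹ * (g * (a : Equiv.Perm GolayPt) * g⁻¹) =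
        g * ((a : Equiv.Perm GolayPt) * (a : Equiv.Perm GolayPt)) * g⁻¹ := by group
    rw [this, ha2']
    group
  have h3 := orderOf_dvd_of_pow_eq_one hb2
  rw [hb] at h3
  exact absurd h3 (by decide)

theorem dvd23 (N : Subgroup (Equiv.Perm GolayPt))
    (hconj : ∀ g ∈ M24, ∀ n ∈ N, g * n * g⁻¹ ∈ N) (hne : N ≠ ⊥) : 23 ∣ Nat.card N := by
  have htr := normal_trans N hconj hne
  have p : GolayPt := none
  have hK := stab_ne_bot N hconj htr p
  rw [card_of_trans N htr p]
  apply Dvd.dvd.mul_left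
  obtain ⟨n, hn, hn1⟩ : ∃ n ∈ N ⊓ MulAction.stabilizer (Equiv.Perm GolayPt) p, n ≠ 1 := by
    by_contra hcon
    apply hK
    rw [Subgroup.eq_bot_iff_forall]
    intro x hx
    by_contra hx1
    exact hcon ⟨x, hx, hx1⟩
  obtain ⟨q, hq⟩ : ∃ q, n q ≠ q := by
    by_contra hcon
    apply hn1
    apply Equiv.ext
    intro q
    by_contra hq
    exact hcon ⟨q, hq⟩
  have hnp : n p = p := MulAction.mem_stabilizer_iff.1 (Subgroup.mem_inf.1 hn).2
  have hnN : n ∈ N := (Subgroup.mem_inf.1 hn).1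
  have hqp : q ≠ p := by
    rintro rfl
    exact hq hnp
  have hq'p : n q ≠ p := by
    intro h
    rw [← hnp] at h
    exact hqp (n.injective h)
  rw [card_orbit_step _ q]
  apply Dvd.dvd.mul_right
  have horb : MulAction.orbit ↥(N ⊓ MulAction.stabilizer (Equiv.Perm GolayPt) p) q =
      {r | r ≠ p} := by
    ext r
    rw [MulAction.mem_orbit_iff]
    constructor
    · rintro ⟨k, rfl⟩
      have hkp : (k : Equiv.Perm GolayPt) p = p :=
        MulAction.mem_stabilizer_iff.1 (Subgroup.mem_inf.1 k.2).2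
      intro h
      have h' : (k : Equiv.Perm GolayPt) q = p := h
      exact hqp ((k : Equiv.Perm GolayPt).injective (h'.trans hkp.symm))
    · intro hr
      have hr' : r ≠ p := hr
      by_cases hrq : r = q
      · exact ⟨1, by rw [hrq]; rfl⟩
      · obtain ⟨g, hg, hgp, hgq, hgr⟩ := trans3 p q (n q) p q r (Ne.symm hqp) (Ne.symm hq'p)
          (Ne.symm hq) (Ne.symm hqp) (Ne.symm hr') (Ne.symm hrq)
        have hmem : g * n * g⁻¹ ∈ N ⊓ MulAction.stabilizer (Equiv.Perm GolayPt) p := by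
          refine Subgroup.mem_inf.2 ⟨hconj g hg n hnN, ?_⟩
          rw [MulAction.mem_stabilizer_iff]
          change (g * n * g⁻¹) p = p
          rw [Equiv.Perm.mul_apply, Equiv.Perm.mul_apply, inv_apply_of_fix g p hgp, hnp, hgp]
        refine ⟨⟨g * n * g⁻¹, hmem⟩, ?_⟩
        change (g * n * g⁻¹) q = r
        rw [Equiv.Perm.mul_apply, Equiv.Perm.mul_apply, inv_apply_of_fix g q hgq, hgr]
  rw [horb, ncard_compl_pt]

theorem simple_core (N : Subgroup (Equiv.Perm GolayPt)) (hle : N ≤ M24)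
    (hconj : ∀ g ∈ M24, ∀ n ∈ N, g * n * g⁻¹ ∈ N) (hne : N ≠ ⊥) : N = M24 := by
  apply le_antisymm hle
  apply top_of_shift N hconj
  have h23 := dvd23 N hconj hne
  have : (N.subgroupOf M24).Normal := by
    refine ⟨fun n hn g => ?_⟩
    rw [Subgroup.mem_subgroupOf] at hn ⊢
    exact hconj g.1 g.2 n.1 hn
  have : Fact (Nat.Prime 23) := ⟨by norm_num⟩
  have hcard : Nat.card (N.subgroupOf M24) = Nat.card N :=
    Nat.card_congr (Subgroup.subgroupOfEquivOfLe hle).toEquiv
  have hs : orderOf (⟨shift 1, shift_mem 1⟩ : M24) = 23 := by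
    apply orderOf_eq_prime
    · apply Subtype.ext
      exact shift_pow23
    · intro h
      exact shift_ne_one (congrArg Subtype.val h)
  have hmem := sylow_mem 23 (N.subgroupOf M24) (by rw [hcard]; exact h23)
    (by rw [card_M24]; decide) (⟨shift 1, shift_mem 1⟩ : M24) hs
  rw [Subgroup.mem_subgroupOf] at hmem
  exact hmem

end Cfsg.Agent.Lib.Helper9.Leech
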