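import Cfsg.Agent.Lib.Helper9.M24Trans

set_option autoImplicit false
open Cfsg

namespace Cfsg.Agent.Lib.Helper9.Leech

open scoped Pointwise
open Cfsg.Agent.S5393 Cfsg.Agent.S5548

theorem card_sub {G : Type*} [Group G] (K : Subgroup G) (H : Subgroup ↥K) (L : Subgroup G)
    (h : ∀ g : K, g ∈ H ↔ (g : G) ∈ L) (hL : L ≤ K) : Nat.card H = Nat.card L := by
  refine Nat.card_congr ⟨fun x => ⟨x.1.1, (h x.1).1 x.2⟩,
    fun y => ⟨⟨y.1, hL y.2⟩, (h _).2 y.2⟩, ?_, ?_⟩
  · intro x
    rfl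
  · intro y
    rfl

theorem card_orbit_step {α : Type*} (K : Subgroup (Equiv.Perm α)) (p : α) :
    Nat.card K = (MulAction.orbit K p).ncard *
      Nat.card ↥(K ⊓ MulAction.stabilizer (Equiv.Perm α) p) := by
  have hos := Subgroup.card_mul_index (MulAction.stabilizer K p)
  rw [MulAction.index_stabilizer] at hos
  rw [← hos, stab_card, mul_comm]

def ptStab (s : List GolayPt) : Subgroup (Equiv.Perm GolayPt) where
  carrier := {g | g ∈ M24 ∧ ∀ p ∈ s, g p = p}
  mul_mem' := by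
    intro a b ha hb
    refine ⟨Subgroup.mul_mem _ ha.1 hb.1, ?_⟩
    intro p hp
    rw [Equiv.Perm.mul_apply, hb.2 p hp, ha.2 p hp]
  one_mem' := ⟨Subgroup.one_mem _, fun _ _ => rfl⟩
  inv_mem' := by
    intro a ha
    refine ⟨Subgroup.inv_mem _ ha.1, ?_⟩
    intro p hp
    change a.symm p = p
    rw [Equiv.symm_apply_eq, ha.2 p hp]

theorem mem_ptStab (s : List GolayPt) (g : Equiv.Perm GolayPt) :
    g ∈ ptStab s ↔ g ∈ M24 ∧ ∀ p ∈ s, g p = p := Iff.rfl

theorem ptStab_le (s : List GolayPt) : ptStab s ≤ M24 := fun _ h => h.1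

theorem ptStab_conj (g : Equiv.Perm GolayPt) (hg : g ∈ M24) (s : List GolayPt)
    (h : Equiv.Perm GolayPt) (hh : h ∈ ptStab s) : g * h * g⁻¹ ∈ ptStab (s.map g) := by
  refine ⟨Subgroup.mul_mem _ (Subgroup.mul_mem _ hg hh.1) (inv_mem hg), ?_⟩
  intro p hp
  rw [List.mem_map] at hp
  obtain ⟨q, hq, rfl⟩ := hp
  rw [Equiv.Perm.mul_apply, Equiv.Perm.mul_apply]
  have h1 : g⁻¹ (g q) = q := by
    change g.symm (g q) = q
    rw [Equiv.symm_apply_apply]
  rw [h1, hh.2 q hq]

theorem card_ptStab_conj (g : Equiv.Perm GolayPt) (hg : g ∈ M24) (s : List GolayPt) :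
    Nat.card (ptStab (s.map g)) = Nat.card (ptStab s) := by
  have hback : ∀ h : Equiv.Perm GolayPt, h ∈ ptStab (s.map g) → g⁻¹ * h * g ∈ ptStab s := by
    intro h hh
    refine ⟨Subgroup.mul_mem _ (Subgroup.mul_mem _ (inv_mem hg) hh.1) hg, ?_⟩
    intro p hp
    rw [Equiv.Perm.mul_apply, Equiv.Perm.mul_apply, hh.2 (g p) (List.mem_map_of_mem hp)]
    change g.symm (g p) = p
    rw [Equiv.symm_apply_apply]
  refine Nat.card_congr ⟨fun x => ⟨g⁻¹ * x.1 * g, hback x.1 x.2⟩,
    fun y => ⟨g * y.1 * g⁻¹, ptStab_conj g hg s y.1 y.2⟩, ?_, ?_⟩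
  · intro x
    apply Subtype.ext
    change g * (g⁻¹ * x.1 * g) * g⁻¹ = x.1
    group
  · intro y
    apply Subtype.ext
    change g⁻¹ * (g * y.1 * g⁻¹) * g = y.1
    group

theorem ptStab_base (l : List ℕ) : ptStab (l.map ptOf) = fixSub l := by
  ext g
  rw [mem_ptStab, mem_fixSub]
  constructor
  · rintro ⟨h1, h2⟩
    exact ⟨h1, fun j hj => h2 _ (List.mem_map_of_mem hj)⟩
  · rintro ⟨h1, h2⟩
    refine ⟨h1, ?_⟩
    intro p hp
    rw [List.mem_map] at hp
    obtain ⟨j, hj, rfl⟩ := hp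
    exact h2 j hj

theorem base_pts_nodup : (baseL.map ptOf).Nodup := by decide +kernel

theorem card_ptStab_eq (s : List GolayPt) (hnd : s.Nodup) (h5 : s.length ≤ 5) :
    Nat.card (ptStab s) = Nat.card (fixSub (baseL.take s.length)) := by
  have hlen : ((baseL.take s.length).map ptOf).length = s.length := by
    rw [List.length_map, List.length_take]
    have : baseL.length = 7 := rfl
    omega
  have hnd' : ((baseL.take s.length).map ptOf).Nodup := by
    rw [List.map_take]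
    exact List.Nodup.sublist (List.take_sublist _ _) base_pts_nodup
  obtain ⟨g, hg, hgs⟩ := trans_list s _ hnd hnd' hlen.symm h5
  have hmap : s.map g = (baseL.take s.length).map ptOf := by
    apply List.ext_getElem
    · rw [List.length_map, hlen]
    · intro i h1 h2
      rw [List.getElem_map]
      exact hgs i (by rw [List.length_map] at h1; exact h1)
  rw [← ptStab_base, ← hmap, card_ptStab_conj g hg]

theorem card_ptStab1 (p : GolayPt) : Nat.card (ptStab [p]) = 10200960 := by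
  rw [card_ptStab_eq [p] (List.nodup_singleton _) (by simp)]
  exact card_fix1

theorem card_ptStab2 (p q : GolayPt) (h : p ≠ q) : Nat.card (ptStab [p, q]) = 443520 := by
  rw [card_ptStab_eq [p, q] (by simp [h]) (by simp)]
  exact card_fix2

theorem card_ptStab3 (p q r : GolayPt) (h1 : p ≠ q) (h2 : p ≠ r) (h3 : q ≠ r) :
    Nat.card (ptStab [p, q, r]) = 20160 := by
  rw [card_ptStab_eq [p, q, r] (by simp [h1, h2, h3]) (by simp)]
  exact card_fix3

end Cfsg.Agent.Lib.Helper9.Leech
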