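import Cfsg.Agent.Lib.Helper9.M24Card

set_option autoImplicit false
open Cfsg

namespace Cfsg.Agent.Lib.Helper9.Leech

open scoped Pointwise
open Cfsg.Agent.S5393 Cfsg.Agent.S5548

theorem base_getD (i : ℕ) (hi : i < 7) : baseL.getD i 0 = baseL[i]'hi := by
  rw [List.getD_eq_getElem?_getD, List.getElem?_eq_getElem hi]
  rfl

theorem to_base_list (xs : List GolayPt) (hnd : xs.Nodup) (hlen : xs.length ≤ 5) :
    ∀ k ≤ xs.length, ∃ g ∈ M24, ∀ i (hi : i < xs.length), i < k →
      g (xs[i]) = ptOf (baseL.getD i 0) := by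
  intro k
  induction k with
  | zero =>
    intro _
    exact ⟨1, Subgroup.one_mem _, fun i _ hi => absurd hi (Nat.not_lt_zero _)⟩
  | succ k ih =>
    intro hk
    obtain ⟨g, hg, hgx⟩ := ih (by omega)
    have hkl : k < xs.length := by omega
    have hk5 : k < 5 := by omega
    have hne : idx (g (xs[k])) ∉ baseL.take k := by
      intro hmem
      rw [List.mem_take_iff_getElem] at hmem
      obtain ⟨j, hj, hjeq⟩ := hmem
      have hjk : j < k := (Nat.lt_min.1 hj).1
      have hjl : j < xs.length := by omega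
      have h1 := hgx j hjl hjk
      rw [base_getD j (Nat.lt_min.1 hj).2, hjeq, ptOf_idx] at h1
      have h3 : xs[j] = xs[k] := g.injective h1
      have h4 := (List.Nodup.getElem_inj_iff hnd).1 h3
      omega
    have horb := orb_compl k hk5 _ (idx_lt _) hne
    obtain ⟨u, hu, hfix, hub⟩ := reach k (by omega) _ horb
    rw [ptOf_idx] at hub
    refine ⟨u⁻¹ * g, Subgroup.mul_mem _ (inv_mem (Gcl_le hu)) hg, ?_⟩
    intro i hil hi
    rw [Equiv.Perm.mul_apply]
    rcases Nat.lt_succ_iff_lt_or_eq.1 hi with hlt | heq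
    · rw [hgx i hil hlt]
      apply FixL_inv u _ hfix
      rw [List.mem_take_iff_getElem]
      have hlen' : i < min k baseL.length := Nat.lt_min.2 ⟨hlt, by
        have : baseL.length = 7 := rfl
        omega⟩
      exact ⟨i, hlen', (base_getD i (Nat.lt_min.1 hlen').2).symm⟩
    · subst heq
      rw [← hub]
      change u.symm (u _) = _
      rw [Equiv.symm_apply_apply]

theorem trans_list (xs ys : List GolayPt) (hx : xs.Nodup) (hy : ys.Nodup)
    (hlen : xs.length = ys.length) (h5 : xs.length ≤ 5) :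
    ∃ g ∈ M24, ∀ i (hi : i < xs.length), g (xs[i]) = ys[i]'(hlen ▸ hi) := by
  obtain ⟨g, hg, hgx⟩ := to_base_list xs hx h5 xs.length le_rfl
  obtain ⟨h, hh, hhy⟩ := to_base_list ys hy (hlen ▸ h5) ys.length le_rfl
  refine ⟨h⁻¹ * g, Subgroup.mul_mem _ (inv_mem hh) hg, ?_⟩
  intro i hi
  rw [Equiv.Perm.mul_apply, hgx i hi hi, ← hhy i (hlen ▸ hi) (hlen ▸ hi)]
  change h.symm (h _) = _
  rw [Equiv.symm_apply_apply]

theorem trans1 (p q : GolayPt) : ∃ g ∈ M24, g p = q := by
  obtain ⟨g, hg, h⟩ := trans_list [p] [q] (List.nodup_singleton _) (List.nodup_singleton _)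
    rfl (by simp)
  exact ⟨g, hg, h 0 (by simp)⟩

theorem trans2 (p q p' q' : GolayPt) (h : p ≠ q) (h' : p' ≠ q') :
    ∃ g ∈ M24, g p = p' ∧ g q = q' := by
  obtain ⟨g, hg, hh⟩ := trans_list [p, q] [p', q'] (by simp [h]) (by simp [h'])
    rfl (by simp)
  exact ⟨g, hg, hh 0 (by simp), hh 1 (by simp)⟩

theorem trans3 (p q r p' q' r' : GolayPt) (h1 : p ≠ q) (h2 : p ≠ r) (h3 : q ≠ r)
    (h1' : p' ≠ q') (h2' : p' ≠ r') (h3' : q' ≠ r') :
    ∃ g ∈ M24, g p = p' ∧ g q = q' ∧ g r = r' := by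
  obtain ⟨g, hg, hh⟩ := trans_list [p, q, r] [p', q', r'] (by simp [h1, h2, h3])
    (by simp [h1', h2', h3']) rfl (by simp)
  exact ⟨g, hg, hh 0 (by simp), hh 1 (by simp), hh 2 (by simp)⟩

end Cfsg.Agent.Lib.Helper9.Leech
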