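import Cfsg.Agent.Lib.Helper9.MaxCert

set_option autoImplicit false
open Cfsg

namespace Cfsg.Agent.Lib.Helper9.Leech

open scoped Pointwise
open Cfsg.Agent.S5393 Cfsg.Agent.S5548

theorem max_cfg (ms ps : List ℕ) (hps : ∀ j ∈ ps, j < 24) (kidx : List ℕ)
    (hk : (0 :: kidx).all (fun k => Nat.blt k mxN &&
      cfgOK (tblOf (nodeTbl mxS k)) ms ps) = true)
    (E len : ℕ)
    (htree : treeOKN stepN (fun gi => nodeTbl mxS (kidx.getD gi 0)) decM (ent E 64) len = true)
    (inv rootF : ℕ → ℕ) (hroot : allBelow (rootOKM E inv rootF) len = true)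
    (F : List ℕ) (sel : ℕ → Bool) (hcov : covGo (objM E) len 0 (F.filter sel) = true)
    (x y : ℕ) (hx : x ∈ F) (hy : y ∈ F) (hsx : sel x = true) (hsy : sel y = true)
    (hxy : inv x = inv y) : ∃ g ∈ cfgSub ms ps, g • bitsOf x = bitsOf y :=
  mtree_same (cfgSub ms ps) _ (kgens_valid mxS mxN mxS_ok ms ps hps kidx hk) E len htree inv
    rootF hroot F sel hcov x y hx hy hsx hsy hxy

theorem bits_ne (a b j : ℕ) (hj : j < 24) (ha : tb a j = true) (hb : tb b j = false) :
    bitsOf a ≠ bitsOf b := by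
  intro h
  have h1 := (mem_bits_tb a j hj).2 ha
  rw [h, mem_bits_tb b j hj, hb] at h1
  exact absurd h1 (by simp)

theorem mask_hF (x0 : ℕ) (F : List ℕ) (inv : ℕ → ℕ) (reps : List ℕ)
    (hclosed : ∀ k ∈ M24, ∃ z ∈ F, k • bitsOf x0 = bitsOf z)
    (hx0 : x0 ∈ F)
    (horb : ∀ x y, x ∈ F → y ∈ F → inv x = inv y →
      ∃ g ∈ cfgSub [x0] [], g • bitsOf x = bitsOf y)
    (hchk : F.all (fun z => Nat.beq (inv z) (inv x0) ||
      reps.any (fun y => Nat.beq (inv z) (inv y))) = true) :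
    ∀ k ∈ M24, k • bitsOf x0 ≠ bitsOf x0 →
      ∃ z ∈ F, k • bitsOf x0 = bitsOf z ∧ ∃ y ∈ reps, inv z = inv y := by
  intro k hk hkx
  obtain ⟨z, hz, hkz⟩ := hclosed k hk
  refine ⟨z, hz, hkz, ?_⟩
  rw [List.all_eq_true] at hchk
  have h1 := hchk z hz
  rw [Bool.or_eq_true] at h1
  rcases h1 with h1 | h1
  · exfalso
    obtain ⟨g, hg, hgz⟩ := horb z x0 hz hx0 (Nat.eq_of_beq_eq_true h1)
    apply hkx
    have h2 := hg.2.1 x0 (List.mem_singleton_self _)
    have h3 : bitsOf z = g⁻¹ • bitsOf x0 := eq_inv_smul_iff.2 hgz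
    have h4 : g⁻¹ • bitsOf x0 = bitsOf x0 := inv_smul_eq_iff.2 h2.symm
    rw [hkz, h3, h4]
  · rw [List.any_eq_true] at h1
    obtain ⟨y, hy, hzy⟩ := h1
    exact ⟨y, hy, Nat.eq_of_beq_eq_true hzy⟩

/-! ### octads -/

def mxOctReps : List ℕ := [337856, 15777, 5279]

set_option maxRecDepth 100000 in
theorem mxOct_k : (0 :: mxOctK).all (fun k => Nat.blt k mxN &&
    cfgOK (tblOf (nodeTbl mxS k)) [octO] []) = true := by decide +kernel

set_option maxRecDepth 100000 in
theorem mxOct_g0 : ∃ r ∈ M24, r • bitsOf octO = bitsOf 337856 ∧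
    ∀ K : Subgroup (Equiv.Perm GolayPt), cfgSub [octO] [] ≤ K → r ∈ K → M24 ≤ K :=
  gen_cls octO 337856 mxOctK 184 mxOctG0 74 64 70 73 mxOct_k (by decide +kernel)
    (by decide +kernel) (by decide +kernel)

set_option maxRecDepth 100000 in
theorem mxOct_g2 : ∃ r ∈ M24, r • bitsOf octO = bitsOf 15777 ∧
    ∀ K : Subgroup (Equiv.Perm GolayPt), cfgSub [octO] [] ≤ K → r ∈ K → M24 ≤ K :=
  gen_cls octO 15777 mxOctK 188 mxOctG2 71 61 67 70 mxOct_k (by decide +kernel)
    (by decide +kernel) (by decide +kernel)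

set_option maxRecDepth 100000 in
theorem mxOct_g4 : ∃ r ∈ M24, r • bitsOf octO = bitsOf 5279 ∧
    ∀ K : Subgroup (Equiv.Perm GolayPt), cfgSub [octO] [] ≤ K → r ∈ K → M24 ≤ K :=
  gen_cls octO 5279 mxOctK 215 mxOctG4 71 61 66 70 mxOct_k (by decide +kernel)
    (by decide +kernel) (by decide +kernel)

theorem mxOct_orb (x y : ℕ) (hx : x ∈ octL) (hy : y ∈ octL)
    (hxy : (fun m => popc (octO &&& m)) x = (fun m => popc (octO &&& m)) y) :
    ∃ g ∈ cfgSub [octO] [], g • bitsOf x = bitsOf y :=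
  rkOct_orb x y hx hy rfl rfl hxy

set_option maxRecDepth 100000 in
theorem mxOct_chk : octL.all (fun z => Nat.beq ((fun m => popc (octO &&& m)) z)
    ((fun m => popc (octO &&& m)) octO) ||
      mxOctReps.any (fun y => Nat.beq ((fun m => popc (octO &&& m)) z)
        ((fun m => popc (octO &&& m)) y))) = true := by decide +kernel

set_option maxRecDepth 100000 in
theorem mxOct_reps : ∀ y ∈ mxOctReps, y ∈ octL := by
  intro y hy
  apply memL_mem
  revert y
  decide +kernel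

theorem oct_max_core : ∀ K : Subgroup (Equiv.Perm GolayPt),
    (∀ h ∈ M24, h • bitsOf octO = bitsOf octO → h ∈ K) →
      (∃ k ∈ K, k ∈ M24 ∧ k • bitsOf octO ≠ bitsOf octO) → M24 ≤ K := by
  apply orb_core (bitsOf octO) octO octL (fun m => popc (octO &&& m)) mxOctReps (fun _ h => h)
    ?_ (fun x y hx hy h => mxOct_orb x y hx hy h) mxOct_reps ?_
  · apply mask_hF octO octL _ mxOctReps ?_ octO_mem (fun x y hx hy h => mxOct_orb x y hx hy h)
      mxOct_chk
    intro k hk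
    obtain ⟨z, hz, hzb⟩ := (mem_octads _).1 (octads_smul k hk _ octO_octad)
    exact ⟨z, hz, hzb.symm⟩
  · intro y hy
    unfold mxOctReps at hy
    simp only [List.mem_cons, List.not_mem_nil, or_false] at hy
    rcases hy with rfl | rfl | rfl
    · exact mxOct_g0
    · exact mxOct_g2
    · exact mxOct_g4

theorem oct_hne : ∃ g ∈ M24, g • bitsOf octO ≠ bitsOf octO := by
  obtain ⟨r, hr, hry, _⟩ := mxOct_g0
  refine ⟨r, hr, ?_⟩
  rw [hry]
  exact bits_ne 337856 octO 6 (by decide) (by decide +kernel) (by decide +kernel)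

theorem s1565 (o : Finset GolayPt) (ho : o ∈ octads) :
    IsCoatom (MulAction.stabilizer M24 o) := by
  obtain ⟨σ, hσ, hσo, _⟩ := oct_to_octO o ho
  subst hσo
  exact coatom_conj (bitsOf octO) σ hσ _ (fun g => MulAction.mem_stabilizer_iff) oct_hne
    oct_max_core

end Cfsg.Agent.Lib.Helper9.Leech
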