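import Cfsg.Agent.Lib.Helper9.Max

set_option autoImplicit false
open Cfsg

namespace Cfsg.Agent.Lib.Helper9.Leech

open scoped Pointwise
open Cfsg.Agent.S5393 Cfsg.Agent.S5548

/-! ### duads -/

def mxDuRoot (k : ℕ) : ℕ :=
  cond (Nat.beq k 1) 0 (cond (Nat.beq k 2) 2 3)

def mxDuInv : ℕ → ℕ := fun m => popc (Nat.land 6 m)

def mxDuReps : List ℕ := [9, 3]

set_option maxRecDepth 100000 in
theorem mxDu_k : (0 :: mxDuK).all (fun k => Nat.blt k mxN &&
    cfgOK (tblOf (nodeTbl mxS k)) [6] []) = true := by decide +kernel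

set_option maxRecDepth 100000 in
theorem mxDu_tree : treeOKN stepN (fun gi => nodeTbl mxS (mxDuK.getD gi 0)) decM (ent mxDuE 64)
    mxDuLen = true := by decide +kernel

set_option maxRecDepth 100000 in
theorem mxDu_root : allBelow (rootOKM mxDuE mxDuInv mxDuRoot) mxDuLen = true := by
  decide +kernel

set_option maxRecDepth 100000 in
theorem mxDu_cov : covGo (objM mxDuE) mxDuLen 0 (duL.filter (fun _ => true)) = true := by
  decide +kernel

theorem mxDu_orb (x y : ℕ) (hx : x ∈ duL) (hy : y ∈ duL) (hxy : mxDuInv x = mxDuInv y) :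
    ∃ g ∈ cfgSub [6] [], g • bitsOf x = bitsOf y :=
  max_cfg [6] [] (by decide) mxDuK mxDu_k mxDuE mxDuLen mxDu_tree mxDuInv mxDuRoot mxDu_root
    duL (fun _ => true) mxDu_cov x y hx hy rfl rfl hxy

set_option maxRecDepth 100000 in
theorem mxDu_g0 : ∃ r ∈ M24, r • bitsOf 6 = bitsOf 9 ∧
    ∀ K : Subgroup (Equiv.Perm GolayPt), cfgSub [6] [] ≤ K → r ∈ K → M24 ≤ K :=
  gen_cls 6 9 mxDuK 247 mxDuG0 77 69 74 76 mxDu_k (by decide +kernel)
    (by decide +kernel) (by decide +kernel)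

set_option maxRecDepth 100000 in
theorem mxDu_g1 : ∃ r ∈ M24, r • bitsOf 6 = bitsOf 3 ∧
    ∀ K : Subgroup (Equiv.Perm GolayPt), cfgSub [6] [] ≤ K → r ∈ K → M24 ≤ K :=
  gen_cls 6 3 mxDuK 2 mxDuG1 82 23 78 81 mxDu_k (by decide +kernel)
    (by decide +kernel) (by decide +kernel)

set_option maxRecDepth 100000 in
theorem mxDu_chk : duL.all (fun z => Nat.beq (mxDuInv z) (mxDuInv 6) ||
    mxDuReps.any (fun y => Nat.beq (mxDuInv z) (mxDuInv y))) = true := by decide +kernel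

set_option maxRecDepth 100000 in
theorem mxDu_reps : ∀ y ∈ mxDuReps, y ∈ duL := by decide +kernel

set_option maxRecDepth 100000 in
theorem mxDu_x0 : 6 ∈ duL := by decide +kernel

theorem mxDu_gen : ∀ y ∈ mxDuReps, ∃ r ∈ M24, r • bitsOf 6 = bitsOf y ∧
    ∀ K : Subgroup (Equiv.Perm GolayPt), cfgSub [6] [] ≤ K → r ∈ K → M24 ≤ K := by
  intro y hy
  unfold mxDuReps at hy
  simp only [List.mem_cons, List.not_mem_nil, or_false] at hy
  rcases hy with rfl | rfl
  · exact mxDu_g0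
  · exact mxDu_g1
theorem du_max_core : ∀ K : Subgroup (Equiv.Perm GolayPt),
    (∀ h ∈ M24, h • bitsOf 6 = bitsOf 6 → h ∈ K) →
      (∃ k ∈ K, k ∈ M24 ∧ k • bitsOf 6 ≠ bitsOf 6) → M24 ≤ K := by
  apply orb_core (bitsOf 6) 6 duL mxDuInv mxDuReps (fun _ h => h)
    ?_ mxDu_orb mxDu_reps mxDu_gen
  apply mask_hF 6 duL _ mxDuReps ?_ mxDu_x0 mxDu_orb mxDu_chk
  intro k hk
  have hc : (k • bitsOf 6).card = 2 := by
    rw [Finset.card_smul_finset, card_bitsOf]
    decide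
  obtain ⟨z, hz, hzb⟩ := (mem_du _).1 hc
  exact ⟨z, hz, hzb.symm⟩

theorem du_hne : ∃ g ∈ M24, g • bitsOf 6 ≠ bitsOf 6 := by
  obtain ⟨r, hr, hry, _⟩ := mxDu_g0
  refine ⟨r, hr, ?_⟩
  rw [hry]
  exact bits_ne 9 6 0 (by decide) (by decide +kernel) (by decide +kernel)

theorem s1563 (s : Finset GolayPt) (hs : s.card = 2) :
    IsCoatom (MulAction.stabilizer M24 s) := by
  obtain ⟨a, b, hab, rfl⟩ := Finset.card_eq_two.1 hs
  obtain ⟨σ, hσ, h1, h2⟩ := trans2 (ptOf 1) (ptOf 2) a b (by decide) hab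
  have hσS : σ • bitsOf 6 = {a, b} := by
    rw [bitsOf_S0, Finset.smul_finset_insert, Finset.smul_finset_singleton]
    change ({σ (ptOf 1), σ (ptOf 2)} : Finset GolayPt) = _
    rw [h1, h2]
  rw [← hσS]
  exact coatom_conj (bitsOf 6) σ hσ _ (fun g => MulAction.mem_stabilizer_iff) du_hne
    du_max_core

/-! ### triads -/

def mxTriRoot (k : ℕ) : ℕ :=
  cond (Nat.beq k 5) 0 (cond (Nat.beq k 3) 2 (cond (Nat.beq k 0) 9 (cond (Nat.beq k 1) 15 1771)))

def mxTriInv : ℕ → ℕ := fun m => Nat.add (Nat.mul 2 (popc (Nat.land 8388611 m))) (triInv m)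

def mxTriReps : List ℕ := [28, 44, 13, 7]

set_option maxRecDepth 100000 in
theorem mxTri_k : (0 :: mxTriK).all (fun k => Nat.blt k mxN &&
    cfgOK (tblOf (nodeTbl mxS k)) [8388611] []) = true := by decide +kernel

set_option maxRecDepth 100000 in
theorem mxTri_tree : treeOKN stepN (fun gi => nodeTbl mxS (mxTriK.getD gi 0)) decM (ent mxTriE 64)
    mxTriLen = true := by decide +kernel

set_option maxRecDepth 100000 in
theorem mxTri_root : allBelow (rootOKM mxTriE mxTriInv mxTriRoot) mxTriLen = true := by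
  decide +kernel

set_option maxRecDepth 100000 in
theorem mxTri_cov : covGo (objM mxTriE) mxTriLen 0 (triL.filter (fun _ => true)) = true := by
  decide +kernel

theorem mxTri_orb (x y : ℕ) (hx : x ∈ triL) (hy : y ∈ triL) (hxy : mxTriInv x = mxTriInv y) :
    ∃ g ∈ cfgSub [8388611] [], g • bitsOf x = bitsOf y :=
  max_cfg [8388611] [] (by decide) mxTriK mxTri_k mxTriE mxTriLen mxTri_tree mxTriInv mxTriRoot mxTri_root
    triL (fun _ => true) mxTri_cov x y hx hy rfl rfl hxy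

set_option maxRecDepth 100000 in
theorem mxTri_g0 : ∃ r ∈ M24, r • bitsOf 8388611 = bitsOf 28 ∧
    ∀ K : Subgroup (Equiv.Perm GolayPt), cfgSub [8388611] [] ≤ K → r ∈ K → M24 ≤ K :=
  gen_cls 8388611 28 mxTriK 301 mxTriG0 59 48 54 58 mxTri_k (by decide +kernel)
    (by decide +kernel) (by decide +kernel)

set_option maxRecDepth 100000 in
theorem mxTri_g1 : ∃ r ∈ M24, r • bitsOf 8388611 = bitsOf 44 ∧
    ∀ K : Subgroup (Equiv.Perm GolayPt), cfgSub [8388611] [] ≤ K → r ∈ K → M24 ≤ K :=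
  gen_cls 8388611 44 mxTriK 296 mxTriG1 58 47 53 57 mxTri_k (by decide +kernel)
    (by decide +kernel) (by decide +kernel)

set_option maxRecDepth 100000 in
theorem mxTri_g3 : ∃ r ∈ M24, r • bitsOf 8388611 = bitsOf 13 ∧
    ∀ K : Subgroup (Equiv.Perm GolayPt), cfgSub [8388611] [] ≤ K → r ∈ K → M24 ≤ K :=
  gen_cls 8388611 13 mxTriK 300 mxTriG3 63 53 59 62 mxTri_k (by decide +kernel)
    (by decide +kernel) (by decide +kernel)

set_option maxRecDepth 100000 in
theorem mxTri_g5 : ∃ r ∈ M24, r • bitsOf 8388611 = bitsOf 7 ∧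
    ∀ K : Subgroup (Equiv.Perm GolayPt), cfgSub [8388611] [] ≤ K → r ∈ K → M24 ≤ K :=
  gen_cls 8388611 7 mxTriK 293 mxTriG5 59 48 54 58 mxTri_k (by decide +kernel)
    (by decide +kernel) (by decide +kernel)

set_option maxRecDepth 100000 in
theorem mxTri_chk : triL.all (fun z => Nat.beq (mxTriInv z) (mxTriInv 8388611) ||
    mxTriReps.any (fun y => Nat.beq (mxTriInv z) (mxTriInv y))) = true := by decide +kernel

set_option maxRecDepth 100000 in
theorem mxTri_reps : ∀ y ∈ mxTriReps, y ∈ triL := by decide +kernel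

set_option maxRecDepth 100000 in
theorem mxTri_x0 : 8388611 ∈ triL := by decide +kernel

theorem mxTri_gen : ∀ y ∈ mxTriReps, ∃ r ∈ M24, r • bitsOf 8388611 = bitsOf y ∧
    ∀ K : Subgroup (Equiv.Perm GolayPt), cfgSub [8388611] [] ≤ K → r ∈ K → M24 ≤ K := by
  intro y hy
  unfold mxTriReps at hy
  simp only [List.mem_cons, List.not_mem_nil, or_false] at hy
  rcases hy with rfl | rfl | rfl | rfl
  · exact mxTri_g0
  · exact mxTri_g1
  · exact mxTri_g3
  · exact mxTri_g5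
theorem tri_max_core : ∀ K : Subgroup (Equiv.Perm GolayPt),
    (∀ h ∈ M24, h • bitsOf 8388611 = bitsOf 8388611 → h ∈ K) →
      (∃ k ∈ K, k ∈ M24 ∧ k • bitsOf 8388611 ≠ bitsOf 8388611) → M24 ≤ K := by
  apply orb_core (bitsOf 8388611) 8388611 triL mxTriInv mxTriReps (fun _ h => h)
    ?_ mxTri_orb mxTri_reps mxTri_gen
  apply mask_hF 8388611 triL _ mxTriReps ?_ mxTri_x0 mxTri_orb mxTri_chk
  intro k hk
  have hc : (k • bitsOf 8388611).card = 3 := by
    rw [Finset.card_smul_finset, card_bitsOf]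
    decide
  obtain ⟨z, hz, hzb⟩ := (mem_tri _).1 hc
  exact ⟨z, hz, hzb.symm⟩

theorem tri_hne : ∃ g ∈ M24, g • bitsOf 8388611 ≠ bitsOf 8388611 := by
  obtain ⟨r, hr, hry, _⟩ := mxTri_g0
  refine ⟨r, hr, ?_⟩
  rw [hry]
  exact bits_ne 28 8388611 2 (by decide) (by decide +kernel) (by decide +kernel)

theorem s1564 (s : Finset GolayPt) (hs : s.card = 3) :
    IsCoatom (MulAction.stabilizer M24 s) := by
  obtain ⟨x, y, z, hxy, hxz, hyz, rfl⟩ := Finset.card_eq_three.1 hs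
  obtain ⟨σ, hσ, h1, h2, h3⟩ := trans3 (ptOf 23) (ptOf 0) (ptOf 1) x y z (by decide) (by decide)
    (by decide) hxy hxz hyz
  have hσT : σ • bitsOf 8388611 = {x, y, z} := by
    rw [bitsOf_T0, Finset.smul_finset_insert, Finset.smul_finset_insert,
      Finset.smul_finset_singleton]
    change ({σ (ptOf 23), σ (ptOf 0), σ (ptOf 1)} : Finset GolayPt) = _
    rw [h1, h2, h3]
  rw [← hσT]
  exact coatom_conj (bitsOf 8388611) σ hσ _ (fun g => MulAction.mem_stabilizer_iff) tri_hne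
    tri_max_core

end Cfsg.Agent.Lib.Helper9.Leech
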