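import Cfsg.Agent.Lib.Helper9.Max2

set_option autoImplicit false
open Cfsg

namespace Cfsg.Agent.Lib.Helper9.Leech

open scoped Pointwise
open Cfsg.Agent.S5393 Cfsg.Agent.S5548

def mxDodInv : ℕ → ℕ := fun m => popc (dM &&& m)

def mxDodReps : List ℕ := [1035448, 57274, 28637]

set_option maxRecDepth 100000 in
theorem mxDod_k : (0 :: mxDodK).all (fun k => Nat.blt k mxN &&
    cfgOK (tblOf (nodeTbl mxS k)) [dM] []) = true := by decide +kernel

theorem mxDod_orb (x y : ℕ) (hx : x ∈ dodL) (hy : y ∈ dodL) (hxy : mxDodInv x = mxDodInv y) :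
    ∃ g ∈ cfgSub [dM] [], g • bitsOf x = bitsOf y :=
  rkDod_orb x y hx hy rfl rfl hxy

set_option maxRecDepth 100000 in
theorem mxDod_g4 : ∃ r ∈ M24, r • bitsOf dM = bitsOf 1035448 ∧
    ∀ K : Subgroup (Equiv.Perm GolayPt), cfgSub [dM] [] ≤ K → r ∈ K → M24 ≤ K :=
  gen_cls dM 1035448 mxDodK 260 mxDodG4 84 74 80 83 mxDod_k (by decide +kernel)
    (by decide +kernel) (by decide +kernel)

set_option maxRecDepth 100000 in
theorem mxDod_g6 : ∃ r ∈ M24, r • bitsOf dM = bitsOf 57274 ∧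
    ∀ K : Subgroup (Equiv.Perm GolayPt), cfgSub [dM] [] ≤ K → r ∈ K → M24 ≤ K :=
  gen_cls dM 57274 mxDodK 274 mxDodG6 74 63 69 73 mxDod_k (by decide +kernel)
    (by decide +kernel) (by decide +kernel)

set_option maxRecDepth 100000 in
theorem mxDod_g8 : ∃ r ∈ M24, r • bitsOf dM = bitsOf 28637 ∧
    ∀ K : Subgroup (Equiv.Perm GolayPt), cfgSub [dM] [] ≤ K → r ∈ K → M24 ≤ K :=
  gen_cls dM 28637 mxDodK 276 mxDodG8 76 66 72 75 mxDod_k (by decide +kernel)
    (by decide +kernel) (by decide +kernel)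

set_option maxRecDepth 100000 in
theorem mxDod_chk : dodL.all (fun z => (Nat.beq z dM || Nat.beq z 16436384) ||
    mxDodReps.any (fun y => Nat.beq (mxDodInv z) (mxDodInv y))) = true := by decide +kernel

set_option maxRecDepth 100000 in
theorem mxDod_reps : ∀ y ∈ mxDodReps, y ∈ dodL := by
  intro y hy
  apply memL_mem
  revert y
  decide +kernel

theorem mxDod_gen : ∀ y ∈ mxDodReps, ∃ r ∈ M24, r • bitsOf dM = bitsOf y ∧
    ∀ K : Subgroup (Equiv.Perm GolayPt), cfgSub [dM] [] ≤ K → r ∈ K → M24 ≤ K := by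
  intro y hy
  unfold mxDodReps at hy
  simp only [List.mem_cons, List.not_mem_nil, or_false] at hy
  rcases hy with rfl | rfl | rfl
  · exact mxDod_g4
  · exact mxDod_g6
  · exact mxDod_g8

def dodX : Finset (Finset GolayPt) := {bitsOf dM, (bitsOf dM)ᶜ}

theorem smul_compl' (σ : Equiv.Perm GolayPt) (s : Finset GolayPt) : σ • sᶜ = (σ • s)ᶜ := by
  ext p
  rw [Finset.mem_compl]
  have h1 : p = σ (σ⁻¹ p) := by
    change p = σ (σ.symm p)
    rw [Equiv.apply_symm_apply]
  rw [h1, mem_smul_iff, mem_smul_iff, Finset.mem_compl]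

theorem bitsOf_dMc : bitsOf 16436384 = (bitsOf dM)ᶜ := by
  ext p
  rw [Finset.mem_compl, mem_bitsOf, mem_bitsOf]
  have h : ∀ i < 24, (16436384 : ℕ).testBit i = !(dM.testBit i) := by decide +kernel
  rw [h _ (idx_lt p)]
  simp

theorem dodX_fix (g : Equiv.Perm GolayPt) (h : g • bitsOf dM = bitsOf dM) : g • dodX = dodX := by
  unfold dodX
  rw [Finset.smul_finset_insert, Finset.smul_finset_singleton, smul_compl', h]

theorem dodX_hF : ∀ k ∈ M24, k • dodX ≠ dodX →
    ∃ z ∈ dodL, k • bitsOf dM = bitsOf z ∧ ∃ y ∈ mxDodReps, mxDodInv z = mxDodInv y := by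
  intro k hk hkx
  obtain ⟨z, hz, hzb⟩ := (mem_dodecads _).1 (dodecads_smul k hk _ dM_dodecad)
  refine ⟨z, hz, hzb.symm, ?_⟩
  have h1 := List.all_eq_true.1 mxDod_chk z hz
  simp only [Bool.or_eq_true] at h1
  rcases h1 with (h1 | h1) | h1
  · exfalso
    apply hkx
    apply dodX_fix
    rw [← hzb, Nat.eq_of_beq_eq_true h1]
  · exfalso
    apply hkx
    have h2 : k • bitsOf dM = (bitsOf dM)ᶜ := by
      rw [← hzb, Nat.eq_of_beq_eq_true h1, bitsOf_dMc]
    unfold dodX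
    rw [Finset.smul_finset_insert, Finset.smul_finset_singleton, smul_compl', h2, compl_compl,
      Finset.pair_comm]
  · obtain ⟨y, hy, hzy⟩ := List.any_eq_true.1 h1
    exact ⟨y, hy, Nat.eq_of_beq_eq_true hzy⟩

theorem dodX_core : ∀ K : Subgroup (Equiv.Perm GolayPt),
    (∀ h ∈ M24, h • dodX = dodX → h ∈ K) →
      (∃ k ∈ K, k ∈ M24 ∧ k • dodX ≠ dodX) → M24 ≤ K :=
  orb_core dodX dM dodL mxDodInv mxDodReps dodX_fix dodX_hF mxDod_orb mxDod_reps mxDod_gen

theorem dodX_hne : ∃ g ∈ M24, g • dodX ≠ dodX := by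
  obtain ⟨r, hr, hry, _⟩ := mxDod_g6
  refine ⟨r, hr, ?_⟩
  intro h
  have h1 : r • bitsOf dM ∈ r • dodX := Finset.smul_mem_smul_finset (by
    unfold dodX
    exact Finset.mem_insert_self _ _)
  rw [h, hry] at h1
  unfold dodX at h1
  rw [Finset.mem_insert, Finset.mem_singleton, ← bitsOf_dMc] at h1
  rcases h1 with h1 | h1
  · exact bits_ne 57274 dM 5 (by decide) (by decide +kernel) (by decide +kernel) h1
  · exact bits_ne 57274 16436384 1 (by decide) (by decide +kernel) (by decide +kernel) h1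

theorem s1566 (d : Finset GolayPt) (hd : d ∈ dodecads) :
    IsCoatom (MulAction.stabilizer M24 ({d, dᶜ} : Finset (Finset GolayPt))) := by
  obtain ⟨σ, hσ, rfl⟩ := dod_to_dM d hd
  have hX : ({σ • bitsOf dM, (σ • bitsOf dM)ᶜ} : Finset (Finset GolayPt)) = σ • dodX := by
    unfold dodX
    rw [Finset.smul_finset_insert, Finset.smul_finset_singleton, smul_compl']
  rw [hX]
  exact coatom_conj dodX σ hσ _ (fun g => MulAction.mem_stabilizer_iff) dodX_hne dodX_core

end Cfsg.Agent.Lib.Helper9.Leech
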