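import Cfsg.Agent.Lib.Helper9.RankD
import Cfsg.Agent.Lib.Helper9.MaxData

set_option autoImplicit false
open Cfsg

namespace Cfsg.Agent.Lib.Helper9.Leech

open scoped Pointwise
open Cfsg.Agent.S5393 Cfsg.Agent.S5548

/-! ### maximality: generic reductions -/

theorem coatom_of_core {β : Type*} [MulAction (Equiv.Perm GolayPt) β] (x : β)
    (H : Subgroup M24) (hH : ∀ g : M24, g ∈ H ↔ (g : Equiv.Perm GolayPt) • x = x)
    (hne : ∃ g ∈ M24, g • x ≠ x)
    (hcore : ∀ K : Subgroup (Equiv.Perm GolayPt), (∀ h ∈ M24, h • x = x → h ∈ K) →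
      (∃ k ∈ K, k ∈ M24 ∧ k • x ≠ x) → M24 ≤ K) :
    IsCoatom H := by
  constructor
  · intro htop
    obtain ⟨g, hg, hgx⟩ := hne
    have h1 : (⟨g, hg⟩ : M24) ∈ H := by
      rw [htop]
      exact Subgroup.mem_top _
    exact hgx ((hH _).1 h1)
  · intro K hK
    obtain ⟨k, hkK, hkH⟩ := SetLike.exists_of_lt hK
    have hle := le_of_lt hK
    have h1 := hcore (K.map M24.subtype)
      (fun h hh hx => Subgroup.mem_map.2 ⟨⟨h, hh⟩, hle ((hH _).2 hx), rfl⟩)
      ⟨k.1, Subgroup.mem_map.2 ⟨k, hkK, rfl⟩, k.2, fun h => hkH ((hH k).2 h)⟩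
    rw [eq_top_iff]
    intro g _
    obtain ⟨y, hy, hyg⟩ := Subgroup.mem_map.1 (h1 g.2)
    have h2 : y = g := Subtype.ext hyg
    rw [← h2]
    exact hy

theorem core_conj {β : Type*} [MulAction (Equiv.Perm GolayPt) β] (x : β)
    (σ : Equiv.Perm GolayPt) (hσ : σ ∈ M24)
    (hcore : ∀ K : Subgroup (Equiv.Perm GolayPt), (∀ h ∈ M24, h • x = x → h ∈ K) →
      (∃ k ∈ K, k ∈ M24 ∧ k • x ≠ x) → M24 ≤ K) :
    ∀ K : Subgroup (Equiv.Perm GolayPt), (∀ h ∈ M24, h • (σ • x) = σ • x → h ∈ K) →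
      (∃ k ∈ K, k ∈ M24 ∧ k • (σ • x) ≠ σ • x) → M24 ≤ K := by
  rintro K hK ⟨k, hk, hkM, hkx⟩
  have h1 := hcore (K.comap (MulAut.conj σ).toMonoidHom) ?_ ?_
  · intro g hg
    have h2 : σ⁻¹ * g * σ ∈ K.comap (MulAut.conj σ).toMonoidHom :=
      h1 (mul_mem (mul_mem (inv_mem hσ) hg) hσ)
    rw [Subgroup.mem_comap] at h2
    have h3 : (MulAut.conj σ).toMonoidHom (σ⁻¹ * g * σ) = g := by
      change σ * (σ⁻¹ * g * σ) * σ⁻¹ = g
      group
    rw [h3] at h2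
    exact h2
  · intro h hh hx
    rw [Subgroup.mem_comap]
    change σ * h * σ⁻¹ ∈ K
    apply hK _ (mul_mem (mul_mem hσ hh) (inv_mem hσ))
    rw [mul_smul, inv_smul_smul, mul_smul, hx]
  · refine ⟨σ⁻¹ * k * σ, ?_, mul_mem (mul_mem (inv_mem hσ) hkM) hσ, ?_⟩
    · rw [Subgroup.mem_comap]
      change σ * (σ⁻¹ * k * σ) * σ⁻¹ ∈ K
      have h3 : σ * (σ⁻¹ * k * σ) * σ⁻¹ = k := by group
      rw [h3]
      exact hk
    · intro h
      apply hkx
      rw [mul_smul, mul_smul, inv_smul_eq_iff] at h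
      exact h

theorem coatom_conj {β : Type*} [MulAction (Equiv.Perm GolayPt) β] (x : β)
    (σ : Equiv.Perm GolayPt) (hσ : σ ∈ M24)
    (H : Subgroup M24) (hH : ∀ g : M24, g ∈ H ↔ (g : Equiv.Perm GolayPt) • (σ • x) = σ • x)
    (hne : ∃ g ∈ M24, g • x ≠ x)
    (hcore : ∀ K : Subgroup (Equiv.Perm GolayPt), (∀ h ∈ M24, h • x = x → h ∈ K) →
      (∃ k ∈ K, k ∈ M24 ∧ k • x ≠ x) → M24 ≤ K) :
    IsCoatom H := by
  apply coatom_of_core (σ • x) H hH ?_ (core_conj x σ hσ hcore)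
  obtain ⟨g, hg, hgx⟩ := hne
  refine ⟨σ * g * σ⁻¹, mul_mem (mul_mem hσ hg) (inv_mem hσ), ?_⟩
  intro h
  apply hgx
  rw [mul_smul, inv_smul_smul, mul_smul] at h
  exact smul_left_cancel σ h

/-! ### straight-line programs over a given base of tables -/

def slpStepB (base : ℕ → ℕ) (S k : ℕ) : Bool :=
  forceN (ent S 160 k) (fun e =>
    forceN (Nat.mod e 1329227995784915872903807060280344576) (fun t =>
      if Nat.beq (Nat.mod (Nat.shiftRight e 120) 16) 0 then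
        Nat.beq t (base (Nat.mod (Nat.shiftRight e 124) 65536))
      else if Nat.beq (Nat.mod (Nat.shiftRight e 120) 16) 1 then
        Nat.blt (Nat.mod (Nat.shiftRight e 124) 65536) k &&
          (Nat.blt (Nat.mod (Nat.shiftRight e 140) 65536) k &&
            forceN (nodeTbl S (Nat.mod (Nat.shiftRight e 124) 65536)) (fun a =>
              forceN (nodeTbl S (Nat.mod (Nat.shiftRight e 140) 65536)) (fun b =>
                mulChk t a b)))
      else
        Nat.blt (Nat.mod (Nat.shiftRight e 124) 65536) k &&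
          forceN (nodeTbl S (Nat.mod (Nat.shiftRight e 124) 65536)) (fun a => invChk a t)))

def slpChkB (base : ℕ → ℕ) (S n : ℕ) : Bool := allBelow (slpStepB base S) n

theorem slpChkB_spec (K : Subgroup (Equiv.Perm GolayPt)) (base : ℕ → ℕ)
    (hb : ∀ i, ∃ g ∈ K, TblP g (tblOf (base i))) (S n : ℕ) (h : slpChkB base S n = true) :
    ∀ k < n, ∃ g ∈ K, TblP g (tblOf (nodeTbl S k)) := by
  have hall := allBelow_spec _ n h
  intro k
  induction k using Nat.strong_induction_on with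
  | _ k ih =>
    intro hk
    have h1 := hall k hk
    unfold slpStepB at h1
    rw [forceN_eq, forceN_eq] at h1
    have hnode : Nat.mod (ent S 160 k) 1329227995784915872903807060280344576 = nodeTbl S k := rfl
    rw [hnode] at h1
    by_cases hop0 : Nat.beq (Nat.mod (Nat.shiftRight (ent S 160 k) 120) 16) 0 = true
    · rw [if_pos hop0] at h1
      obtain ⟨g, hg, ht⟩ := hb (Nat.mod (Nat.shiftRight (ent S 160 k) 124) 65536)
      rw [← Nat.eq_of_beq_eq_true h1] at ht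
      exact ⟨g, hg, ht⟩
    · rw [if_neg hop0] at h1
      by_cases hop1 : Nat.beq (Nat.mod (Nat.shiftRight (ent S 160 k) 120) 16) 1 = true
      · rw [if_pos hop1, Bool.and_eq_true, Bool.and_eq_true, forceN_eq, forceN_eq] at h1
        obtain ⟨hi, hj, hm⟩ := h1
        have hi' := Nat.le_of_ble_eq_true hi
        have hj' := Nat.le_of_ble_eq_true hj
        obtain ⟨g1, hg1, ht1⟩ := ih _ hi' (lt_trans hi' hk)
        obtain ⟨g2, hg2, ht2⟩ := ih _ hj' (lt_trans hj' hk)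
        exact ⟨g1 * g2, Subgroup.mul_mem _ hg1 hg2, mulChk_spec g1 g2 _ _ _ ht1 ht2 hm⟩
      · rw [if_neg hop1, Bool.and_eq_true, forceN_eq] at h1
        obtain ⟨hi, hm⟩ := h1
        have hi' := Nat.le_of_ble_eq_true hi
        obtain ⟨g1, hg1, ht1⟩ := ih _ hi' (lt_trans hi' hk)
        exact ⟨g1⁻¹, Subgroup.inv_mem _ hg1, invChk_spec g1 _ _ ht1 hm⟩

/-- the three generators appear among the nodes -/
def genOK (G n kS kP kC : ℕ) : Bool :=
  (Nat.blt kS n && eqT (tblOf (nodeTbl G kS)) (genT.getD 1 [])) &&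
    ((Nat.blt kP n && eqT (tblOf (nodeTbl G kP)) (genT.getD 3 [])) &&
      (Nat.blt kC n && eqT (tblOf (nodeTbl G kC)) (genT.getD 4 [])))

theorem gen_top (K : Subgroup (Equiv.Perm GolayPt)) (G n kS kP kC : ℕ)
    (hk : ∀ k < n, ∃ g ∈ K, TblP g (tblOf (nodeTbl G k))) (h : genOK G n kS kP kC = true) :
    M24 ≤ K := by
  unfold genOK at h
  simp only [Bool.and_eq_true] at h
  obtain ⟨⟨hS1, hS2⟩, ⟨hP1, hP2⟩, hC1, hC2⟩ := h
  have hS' : TblP (shift 1) (genT.getD 1 []) := shift_one_tbl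
  have hP' : TblP projInv (genT.getD 3 []) := proj_tbl'
  have hC' : TblP cubeTwist (genT.getD 4 []) := cube_tbl'
  obtain ⟨g1, hg1, ht1⟩ := hk kS (Nat.le_of_ble_eq_true hS1)
  obtain ⟨g2, hg2, ht2⟩ := hk kP (Nat.le_of_ble_eq_true hP1)
  obtain ⟨g3, hg3, ht3⟩ := hk kC (Nat.le_of_ble_eq_true hC1)
  rw [eqT_eq _ _ hS2] at ht1
  rw [eqT_eq _ _ hP2] at ht2
  rw [eqT_eq _ _ hC2] at ht3
  rw [TblP_ext _ _ _ ht1 hS'] at hg1
  rw [TblP_ext _ _ _ ht2 hP'] at hg2
  rw [TblP_ext _ _ _ ht3 hC'] at hg3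
  rw [M24_eq_Gcl]
  unfold Gcl
  rw [Subgroup.closure_le]
  intro x hx
  simp only [Set.mem_insert_iff, Set.mem_singleton_iff] at hx
  rcases hx with rfl | rfl | rfl
  · exact hg1
  · exact hg2
  · exact hg3

set_option maxRecDepth 100000 in
theorem mxS_ok : slpChk mxS mxN = true := by decide +kernel

theorem gen_cls (x0 y : ℕ) (kidx : List ℕ) (ri : ℕ) (G n kS kP kC : ℕ)
    (hk : (0 :: kidx).all (fun k => Nat.blt k mxN &&
      cfgOK (tblOf (nodeTbl mxS k)) [x0] []) = true)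
    (hr : (Nat.blt ri mxN && stepN (nodeTbl mxS ri) x0 y) = true)
    (hG : slpChkB (fun i => nodeTbl mxS ((kidx ++ [ri]).getD i 0)) G n = true)
    (hgen : genOK G n kS kP kC = true) :
    ∃ r ∈ M24, r • bitsOf x0 = bitsOf y ∧
      ∀ K : Subgroup (Equiv.Perm GolayPt), cfgSub [x0] [] ≤ K → r ∈ K → M24 ≤ K := by
  rw [Bool.and_eq_true] at hr
  obtain ⟨r, hrM, hrt⟩ := slpChk_spec M24 (shift_mem 1) projInv_mem cubeTwist_mem mxS mxN mxS_ok ri
    (Nat.le_of_ble_eq_true hr.1)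
  refine ⟨r, hrM, stepN_smul r _ hrt x0 y hr.2, ?_⟩
  intro K hK hrK
  apply gen_top K G n kS kP kC _ hgen
  apply slpChkB_spec K _ _ G n hG
  intro i
  have hmem : (kidx ++ [ri]).getD i 0 ∈ 0 :: (kidx ++ [ri]) := by
    rw [List.getD_eq_getElem?_getD]
    cases hi : (kidx ++ [ri])[i]? with
    | none => exact List.mem_cons_self
    | some t => exact List.mem_cons_of_mem _ (List.mem_of_getElem? hi)
  rw [List.all_eq_true] at hk
  rw [List.mem_cons, List.mem_append, List.mem_singleton] at hmem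
  have hin : ∀ j ∈ 0 :: kidx, ∃ g ∈ K, TblP g (tblOf (nodeTbl mxS j)) := by
    intro j hj
    have h1 := hk j hj
    rw [Bool.and_eq_true] at h1
    obtain ⟨g, hg, ht⟩ := slpChk_spec M24 (shift_mem 1) projInv_mem cubeTwist_mem mxS mxN mxS_ok j
      (Nat.le_of_ble_eq_true h1.1)
    exact ⟨g, hK (cfgOK_mem g hg _ ht [x0] [] (by simp) h1.2), ht⟩
  rcases hmem with h0 | h0 | h0
  · rw [h0]
    exact hin 0 List.mem_cons_self
  · exact hin _ (List.mem_cons_of_mem _ h0)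
  · rw [h0]
    exact ⟨r, hrK, hrt⟩

/-- the orbit argument: every double coset representative generates with the stabiliser -/
theorem orb_core {β : Type*} [MulAction (Equiv.Perm GolayPt) β] (X : β) (x0 : ℕ) (F : List ℕ)
    (inv : ℕ → ℕ) (reps : List ℕ)
    (hfix : ∀ g : Equiv.Perm GolayPt, g • bitsOf x0 = bitsOf x0 → g • X = X)
    (hF : ∀ k ∈ M24, k • X ≠ X → ∃ z ∈ F, k • bitsOf x0 = bitsOf z ∧ ∃ y ∈ reps, inv z = inv y)
    (horb : ∀ x y, x ∈ F → y ∈ F → inv x = inv y →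
      ∃ g ∈ cfgSub [x0] [], g • bitsOf x = bitsOf y)
    (hreps : ∀ y ∈ reps, y ∈ F)
    (hgen : ∀ y ∈ reps, ∃ r ∈ M24, r • bitsOf x0 = bitsOf y ∧
      ∀ K : Subgroup (Equiv.Perm GolayPt), cfgSub [x0] [] ≤ K → r ∈ K → M24 ≤ K) :
    ∀ K : Subgroup (Equiv.Perm GolayPt), (∀ h ∈ M24, h • X = X → h ∈ K) →
      (∃ k ∈ K, k ∈ M24 ∧ k • X ≠ X) → M24 ≤ K := by
  rintro K hK ⟨k, hk, hkM, hkx⟩
  obtain ⟨z, hz, hkz, y, hy, hzy⟩ := hF k hkM hkx
  obtain ⟨g, hg, hgz⟩ := horb z y hz (hreps y hy) hzy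
  obtain ⟨r, hrM, hry, hrK⟩ := hgen y hy
  have hsub : cfgSub [x0] [] ≤ K := by
    intro h hh
    exact hK h hh.1 (hfix h (hh.2.1 x0 (List.mem_singleton_self _)))
  apply hrK K hsub
  have h1 : r⁻¹ * g * k ∈ K := by
    apply hK _ (mul_mem (mul_mem (inv_mem hrM) hg.1) hkM)
    apply hfix
    rw [mul_smul, mul_smul, hkz, hgz, ← hry, inv_smul_smul]
  have h2 : r = g * k * (r⁻¹ * g * k)⁻¹ := by group
  rw [h2]
  exact mul_mem (mul_mem (hsub hg) hk) (inv_mem h1)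

end Cfsg.Agent.Lib.Helper9.Leech
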