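import Cfsg.Agent.Lib.Helper9.PermSimple

set_option autoImplicit false
open Cfsg

namespace Cfsg.Agent.Lib.Helper9.Leech

open scoped Pointwise
open Cfsg.Agent.S5393 Cfsg.Agent.S5548

theorem cfgSub_nil_eq (l : List ℕ) : cfgSub [] l = fixSub l := by
  ext g
  rw [mem_cfgSub, mem_fixSub]
  constructor
  · rintro ⟨h1, _, h3⟩
    exact ⟨h1, h3⟩
  · rintro ⟨h1, h3⟩
    exact ⟨h1, fun m hm => absurd hm (by simp), h3⟩

theorem valid_in_cfg (big : List (List ℕ)) (hbig : ∀ t ∈ big, ∃ g ∈ M24, TblP g t)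
    (idxs : List ℕ) (ms ps : List ℕ) (hps : ∀ j ∈ ps, j < 24)
    (h : (idxs.map (fun k => big.getD k idT)).all (fun t => cfgOK t ms ps) = true) :
    ∀ t ∈ idxs.map (fun k => big.getD k idT), ∃ g ∈ cfgSub ms ps, TblP g t := by
  intro t ht
  rw [List.all_eq_true] at h
  have h1 := h t ht
  rw [List.mem_map] at ht
  obtain ⟨k, _, rfl⟩ := ht
  obtain ⟨g, hg, htb⟩ := getD_valid M24 big hbig k
  exact ⟨g, cfgOK_mem g hg _ htb ms ps hps h1, htb⟩

theorem cfg_reach' (H : Subgroup (Equiv.Perm GolayPt)) (hH : H ≤ M24) (T : List (List ℕ))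
    (hT : ∀ t ∈ T, ∃ g ∈ H, TblP g t) (ms ps : List ℕ)
    (b : ℕ) (tr : List (ℕ × ℕ)) (hps : ∀ j ∈ ps, j < 24) (hb : b < 24)
    (h : lvlCfgOK T ms ps b tr = true) :
    ∀ x ∈ tr.map Prod.fst, ∃ u ∈ H, u ∈ cfgSub ms ps ∧ u (ptOf b) = ptOf x := by
  intro x hx
  rw [List.mem_map] at hx
  obtain ⟨xk, hxk, rfl⟩ := hx
  unfold lvlCfgOK at h
  rw [List.all_eq_true] at h
  have h1 := h xk hxk
  rw [Bool.and_eq_true] at h1
  obtain ⟨g, hg, ht⟩ := getD_valid H T hT xk.2
  refine ⟨g, hg, cfgOK_mem g (hH hg) _ ht ms ps hps h1.1, ?_⟩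
  rw [TblP_apply g _ ht b hb, Nat.eq_of_beq_eq_true h1.2]

theorem cchain_strip (ms bs : List ℕ) (hlt : ∀ j ∈ bs, j < 24) (hnd : bs.Nodup)
    (hbot : cfgSub ms bs = ⊥) (H : Subgroup (Equiv.Perm GolayPt)) (s : ℕ)
    (hH : ∀ i, s ≤ i → i < bs.length → ∀ n < 24, InCell ms (bs.getD i 0) n → n ∉ bs.take i →
      ∃ u ∈ H, u ∈ cfgSub ms (bs.take i) ∧ u (ptOf (bs.getD i 0)) = ptOf n) :
    ∀ k, k ≤ bs.length - s → ∀ g ∈ cfgSub ms (bs.take (bs.length - k)), g ∈ H := by
  intro k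
  induction k with
  | zero =>
    intro _ g hg
    rw [Nat.sub_zero, List.take_length, hbot, Subgroup.mem_bot] at hg
    rw [hg]
    exact Subgroup.one_mem _
  | succ k ih =>
    intro hk g hg
    have hi : bs.length - (k + 1) < bs.length := by omega
    have hb : bs.getD (bs.length - (k + 1)) 0 < 24 := by
      rw [getD_eq_getElem' bs _ hi]
      exact hlt _ (List.getElem_mem hi)
    have hcell : InCell ms (bs.getD (bs.length - (k + 1)) 0)
        (idx (g (ptOf (bs.getD (bs.length - (k + 1)) 0)))) := by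
      apply cfg_inCell ms _ g hg
      intro m _
      rw [idx_ptOf _ hb]
    have hne := idx_ne_of_fix g _ hg.2.2 _ hb (getD_notMem_take bs hnd _ hi)
    obtain ⟨u, hu, hucfg, hub⟩ := hH _ (by omega) hi _ (idx_lt _) hcell hne
    rw [ptOf_idx] at hub
    have hmem : u⁻¹ * g ∈ cfgSub ms (bs.take (bs.length - (k + 1) + 1)) := by
      rw [cfgSub_congr ms _ _ (take_succ_mem' bs _ hi), ← cfg_stab]
      refine Subgroup.mem_inf.2 ⟨Subgroup.mul_mem _ (inv_mem hucfg) hg, ?_⟩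
      rw [MulAction.mem_stabilizer_iff]
      change u⁻¹ (g _) = _
      rw [← hub]
      change u.symm (u _) = _
      rw [Equiv.symm_apply_apply]
    have h2 : bs.length - (k + 1) + 1 = bs.length - k := by omega
    rw [h2] at hmem
    have h3 := ih (by omega) _ hmem
    have h4 : g = u * (u⁻¹ * g) := by group
    rw [h4]
    exact Subgroup.mul_mem _ hu h3

def nlevelOK (NT : List (List ℕ)) (ms bs : List ℕ) (ntr : List (List (ℕ × ℕ))) (i : ℕ) : Prop :=
  lvlCfgOK NT ms (bs.take i) (bs.getD i 0) (ntr.getD i []) = true ∧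
  (∀ n < 24, InCell ms (bs.getD i 0) n → n ∉ bs.take i →
    n ∈ (ntr.getD i []).map Prod.fst)

instance (NT : List (List ℕ)) (ms bs : List ℕ) (ntr : List (List (ℕ × ℕ))) (i : ℕ) :
    Decidable (nlevelOK NT ms bs ntr i) := by
  unfold nlevelOK
  infer_instance

theorem ncert_cfg (big : List (List ℕ)) (hbig : ∀ t ∈ big, ∃ g ∈ M24, TblP g t)
    (ms bs : List ℕ) (hlt : ∀ j ∈ bs, j < 24) (hnd : bs.Nodup) (hbot : cfgSub ms bs = ⊥)
    (s : ℕ) (N : Subgroup (Equiv.Perm GolayPt)) (hN : N ≤ M24)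
    (hconj : ∀ g ∈ cfgSub ms (bs.take s), ∀ n ∈ N, g * n * g⁻¹ ∈ N)
    (cidx : List ℕ)
    (hc : (cidx.map (fun k => big.getD k idT)).all (fun t => cfgOK t ms (bs.take s)) = true)
    (st : List ℕ) (hst : ∃ x ∈ N, TblP x st) (NT : List (List ℕ)) (NI : List NIns)
    (hns : nslpOK (cidx.map (fun k => big.getD k idT)) [idT, st] NT NI = true)
    (ntr : List (List (ℕ × ℕ)))
    (hlev : ∀ i < bs.length, s ≤ i → nlevelOK ([idT, st] ++ NT) ms bs ntr i) :
    cfgSub ms (bs.take s) ≤ N := by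
  have hps : ∀ j ∈ bs.take s, j < 24 := fun j hj => hlt j (List.mem_of_mem_take hj)
  have hG := valid_in_cfg big hbig cidx ms (bs.take s) hps hc
  have hacc : ∀ t ∈ [idT, st], ∃ n ∈ N, TblP n t := by
    intro t ht
    rw [List.mem_cons, List.mem_singleton] at ht
    rcases ht with rfl | rfl
    · exact ⟨1, Subgroup.one_mem _, TblP_one⟩
    · exact hst
  have hall := nslpOK_spec (cfgSub ms (bs.take s)) N _ hG hconj NT NI _ hacc hns
  intro g hg
  rcases Nat.lt_or_ge bs.length s with hls | hls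
  · rw [List.take_of_length_le (le_of_lt hls), hbot, Subgroup.mem_bot] at hg
    rw [hg]
    exact Subgroup.one_mem _
  · have key := cchain_strip ms bs hlt hnd hbot N s (by
      intro i hsi hi n hn hcell hnot
      obtain ⟨h1, h2⟩ := hlev i hi hsi
      have hb : bs.getD i 0 < 24 := by
        rw [getD_eq_getElem' bs i hi]
        exact hlt _ (List.getElem_mem hi)
      exact cfg_reach' N hN _ hall ms (bs.take i) (bs.getD i 0) (ntr.getD i [])
        (fun j hj => hlt j (List.mem_of_mem_take hj)) hb h1 n (h2 n hn hcell hnot))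
      (bs.length - s) le_rfl g
    have h2 : bs.length - (bs.length - s) = s := by omega
    rw [h2] at key
    exact key hg

def nfixLevelOK (NT : List (List ℕ)) (ntr : List (List (ℕ × ℕ))) (i : ℕ) : Prop :=
  lvlOK' NT (baseL.take i) (baseL.getD i 0) (ntr.getD i []) = true ∧
  (∀ x ∈ orbL i, x ∈ (ntr.getD i []).map Prod.fst)

instance (NT : List (List ℕ)) (ntr : List (List (ℕ × ℕ))) (i : ℕ) :
    Decidable (nfixLevelOK NT ntr i) := by
  unfold nfixLevelOK
  infer_instance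

theorem ncert_fix (big : List (List ℕ)) (hbig : ∀ t ∈ big, ∃ g ∈ M24, TblP g t)
    (s : ℕ) (hs : s ≤ 7) (N : Subgroup (Equiv.Perm GolayPt)) (hN : N ≤ M24)
    (hconj : ∀ g ∈ fixSub (baseL.take s), ∀ n ∈ N, g * n * g⁻¹ ∈ N)
    (cidx : List ℕ)
    (hc : (cidx.map (fun k => big.getD k idT)).all (fun t => cfgOK t [] (baseL.take s)) = true)
    (st : List ℕ) (hst : ∃ x ∈ N, TblP x st) (NT : List (List ℕ)) (NI : List NIns)
    (hns : nslpOK (cidx.map (fun k => big.getD k idT)) [idT, st] NT NI = true)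
    (ntr : List (List (ℕ × ℕ)))
    (hlev : ∀ i < 7, s ≤ i → nfixLevelOK ([idT, st] ++ NT) ntr i) :
    fixSub (baseL.take s) ≤ N := by
  have hps : ∀ j ∈ baseL.take s, j < 24 := take_lt s
  have hG := valid_in_cfg big hbig cidx [] (baseL.take s) hps hc
  rw [cfgSub_nil_eq] at hG
  have hacc : ∀ t ∈ [idT, st], ∃ n ∈ N, TblP n t := by
    intro t ht
    rw [List.mem_cons, List.mem_singleton] at ht
    rcases ht with rfl | rfl
    · exact ⟨1, Subgroup.one_mem _, TblP_one⟩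
    · exact hst
  have hall := nslpOK_spec (fixSub (baseL.take s)) N _ hG hconj NT NI _ hacc hns
  apply fixSub_le_of N s hs
  intro j hsj hj x hx
  obtain ⟨h1, h2⟩ := hlev j hj hsj
  obtain ⟨u, hu, hfix, hub⟩ := lvl_spec' N _ hall (baseL.take j) (baseL.getD j 0)
    (ntr.getD j []) (take_lt j) (getD_lt j hj) h1 x (h2 x hx)
  exact ⟨u, hu, hN hu, hfix, hub⟩

end Cfsg.Agent.Lib.Helper9.Leech
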