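import Cfsg.Agent.Lib.Helper9.Comm

set_option autoImplicit false
open Cfsg

namespace Cfsg.Agent.Lib.Helper9.Leech

open scoped Pointwise

/-! ### counting the elements that conjugate `x` to one of a list of its powers -/

def imgB (d a y k : ℕ) : ℕ := if Nat.blt k d then fld a (baseL.getD k 0) else y

/-- `rels` lists pairs `(k, j)` of base positions with `x b_k = b_j`, `k ≤ j` -/
def relOK (X : ℕ) (rels : List (ℕ × ℕ)) : Bool :=
  rels.all (fun r => Nat.ble r.1 r.2 && Nat.blt (baseL.getD r.1 0) 24 &&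
    Nat.blt (baseL.getD r.2 0) 24 && Nat.beq (fld X (baseL.getD r.1 0)) (baseL.getD r.2 0))

def locN (X : ℕ) (rels : List (ℕ × ℕ)) (es : List ℕ) (d a y : ℕ) : Bool :=
  es.any (fun i => rels.all (fun r => Nat.blt d r.2 ||
    Nat.beq (imgB d a y r.2) (powFld X i (imgB d a y r.1))))

def passN (X : ℕ) (es : List ℕ) (t : ℕ) : Bool :=
  es.any (fun i => all24 (fun j => Nat.beq (fld t (fld X j)) (powFld X i (fld t j))))

theorem pw_iff_tbl (x g : Equiv.Perm GolayPt) (X t : ℕ) (hx : TblP x (tblOf X))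
    (hg : TblP g (tblOf t)) (i : ℕ) :
    g * x = x ^ i * g ↔
      all24 (fun j => Nat.beq (fld t (fld X j)) (powFld X i (fld t j))) = true := by
  constructor
  · intro he
    apply all24_of
    intro j hj
    rw [beq_iff]
    have h2 : (g * x) (ptOf j) = (x ^ i * g) (ptOf j) := by rw [he]
    rw [Equiv.Perm.mul_apply, Equiv.Perm.mul_apply] at h2
    have h3 := congrArg idx h2
    rw [TblP_idx g t hg, TblP_idx x X hx, powFld_spec x X hx, TblP_idx g t hg,
      idx_ptOf j hj] at h3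
    exact h3
  · intro hall
    apply Equiv.ext
    intro p
    apply idx_inj
    rw [Equiv.Perm.mul_apply, Equiv.Perm.mul_apply, TblP_idx g t hg, TblP_idx x X hx,
      powFld_spec x X hx, TblP_idx g t hg]
    exact Nat.eq_of_beq_eq_true (all24_spec _ hall _ (idx_lt p))

theorem passN_iff (x g : Equiv.Perm GolayPt) (X t : ℕ) (hx : TblP x (tblOf X))
    (hg : TblP g (tblOf t)) (es : List ℕ) :
    (∃ i ∈ es, g * x = x ^ i * g) ↔ passN X es t = true := by
  unfold passN
  rw [List.any_eq_true]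
  apply exists_congr
  intro i
  apply and_congr_right
  intro _
  exact pw_iff_tbl x g X t hx hg i

theorem blt_iff (a b : ℕ) : Nat.blt a b = true ↔ a < b := by
  constructor
  · intro h
    exact Nat.le_of_ble_eq_true h
  · intro h
    exact Nat.ble_eq_true_of_le h

theorem locN_sound (x g : Equiv.Perm GolayPt) (X : ℕ) (hx : TblP x (tblOf X))
    (rels : List (ℕ × ℕ)) (hrel : relOK X rels = true) (es : List ℕ)
    (hΦ : ∃ i ∈ es, g * x = x ^ i * g) (d a : ℕ)
    (hagree : ∀ i < d, idx (g (ptOf (baseL.getD i 0))) = fld a (baseL.getD i 0)) :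
    locN X rels es d a (idx (g (ptOf (baseL.getD d 0)))) = true := by
  obtain ⟨i, hi, hc⟩ := hΦ
  unfold locN
  rw [List.any_eq_true]
  refine ⟨i, hi, ?_⟩
  rw [List.all_eq_true]
  intro r hr
  unfold relOK at hrel
  rw [List.all_eq_true] at hrel
  have h1 := hrel r hr
  simp only [Bool.and_eq_true] at h1
  obtain ⟨⟨⟨h1a, h1b⟩, h1c⟩, h1d⟩ := h1
  have hkj : r.1 ≤ r.2 := Nat.le_of_ble_eq_true h1a
  have hb1 : baseL.getD r.1 0 < 24 := (blt_iff _ _).1 h1b
  have hb2 : baseL.getD r.2 0 < 24 := (blt_iff _ _).1 h1c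
  rw [Bool.or_eq_true]
  by_cases hd : d < r.2
  · left
    exact (blt_iff _ _).2 hd
  · right
    have hj : r.2 ≤ d := Nat.le_of_not_lt hd
    have him : ∀ k ≤ d, imgB d a (idx (g (ptOf (baseL.getD d 0)))) k =
        idx (g (ptOf (baseL.getD k 0))) := by
      intro k hk
      unfold imgB
      by_cases hkd : k < d
      · rw [if_pos ((blt_iff _ _).2 hkd)]
        exact (hagree k hkd).symm
      · have hkd' : k = d := by omega
        subst hkd'
        rw [if_neg]
        intro h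
        exact hkd ((blt_iff _ _).1 h)
    rw [him _ hj, him _ (le_trans hkj hj), beq_iff]
    have hxb : x (ptOf (baseL.getD r.1 0)) = ptOf (baseL.getD r.2 0) := by
      apply idx_inj
      rw [TblP_idx x X hx, idx_ptOf _ hb1, idx_ptOf _ hb2]
      exact Nat.eq_of_beq_eq_true h1d
    have h2 : (g * x) (ptOf (baseL.getD r.1 0)) = (x ^ i * g) (ptOf (baseL.getD r.1 0)) := by
      rw [hc]
    rw [Equiv.Perm.mul_apply, Equiv.Perm.mul_apply, hxb] at h2
    rw [h2, powFld_spec x X hx]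

theorem nrm_count (x : Equiv.Perm GolayPt) (X : ℕ) (hx : TblP x (tblOf X))
    (rels : List (ℕ × ℕ)) (hrel : relOK X rels = true) (es : List ℕ) :
    {g | g ∈ M24 ∧ ∃ i ∈ es, g * x = x ^ i * g}.ncard =
      srch (locN X rels es) (passN X es) srLv 0 idN := by
  apply m24_count (fun g => ∃ i ∈ es, g * x = x ^ i * g) (locN X rels es) (passN X es)
  · intro g _ t hg
    exact passN_iff x g X t hx hg es
  · intro g _ hΦ d _ a hagree
    exact locN_sound x g X hx rels hrel es hΦ d a hagree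

/-! ### subgroups of `M24` as sets of permutations -/

theorem card_sub_eq (H : Subgroup ↥M24) (Φ : Equiv.Perm GolayPt → Prop)
    (h : ∀ n : ↥M24, n ∈ H ↔ Φ (n : Equiv.Perm GolayPt)) :
    Nat.card ↥H = {g | g ∈ M24 ∧ Φ g}.ncard := by
  rw [← Nat.card_coe_set_eq]
  apply Nat.card_congr
  exact
    { toFun := fun n => ⟨(n : ↥M24).1, (n : ↥M24).2, (h _).1 n.2⟩
      invFun := fun g => ⟨⟨g.1, g.2.1⟩, (h _).2 g.2.2⟩
      left_inv := fun _ => rfl
      right_inv := fun _ => rfl }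

theorem mem_cent_zpowers (X n : ↥M24) :
    n ∈ Subgroup.centralizer ((Subgroup.zpowers X : Subgroup ↥M24) : Set ↥M24) ↔
      (n : Equiv.Perm GolayPt) * (X : Equiv.Perm GolayPt) =
        (X : Equiv.Perm GolayPt) * (n : Equiv.Perm GolayPt) := by
  rw [Subgroup.mem_centralizer_iff]
  constructor
  · intro h
    have h1 := h X (Subgroup.mem_zpowers X)
    exact (congrArg Subtype.val h1).symm
  · intro h y hy
    obtain ⟨k, rfl⟩ := Subgroup.mem_zpowers_iff.1 hy
    have hc : Commute X n := (Subtype.ext h).symm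
    exact (hc.zpow_left k).eq

theorem mem_norm_zpowers (X n : ↥M24) (m : ℕ) (hX : orderOf X = m) :
    n ∈ Subgroup.normalizer ((Subgroup.zpowers X : Subgroup ↥M24) : Set ↥M24) ↔
      ∃ i ∈ List.range m, (n : Equiv.Perm GolayPt) * (X : Equiv.Perm GolayPt) =
        (X : Equiv.Perm GolayPt) ^ i * (n : Equiv.Perm GolayPt) := by
  classical
  constructor
  · intro h
    rw [Subgroup.mem_normalizer_iff] at h
    have h1 := (h X).1 (Subgroup.mem_zpowers X)
    rw [(isOfFinOrder_of_finite X).mem_zpowers_iff_mem_range_orderOf, hX] at h1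
    obtain ⟨i, hi, he⟩ := Finset.mem_image.1 h1
    refine ⟨i, List.mem_range.2 (Finset.mem_range.1 hi), ?_⟩
    have h2 : n * X = X ^ i * n := by
      change X ^ i = n * X * n⁻¹ at he
      rw [he]
      group
    exact congrArg Subtype.val h2
  · rintro ⟨i, _, he⟩
    have h2 : n * X * n⁻¹ = X ^ i := by
      rw [mul_inv_eq_iff_eq_mul]
      exact Subtype.ext he
    apply Subgroup.mem_normalizer_fintype
    intro y hy
    obtain ⟨k, rfl⟩ := Subgroup.mem_zpowers_iff.1 hy
    have h3 : n * X ^ k * n⁻¹ = (X ^ i) ^ k := by rw [← h2, conj_zpow]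
    rw [h3]
    exact zpow_mem (pow_mem (Subgroup.mem_zpowers X) i) k

theorem pw_conj (k x n : Equiv.Perm GolayPt) (i : ℕ) :
    n * (k * x * k⁻¹) = (k * x * k⁻¹) ^ i * n ↔
      (k⁻¹ * n * k) * x = x ^ i * (k⁻¹ * n * k) := by
  rw [conj_pow]
  constructor
  · intro h
    have e : k⁻¹ * n * k * x = k⁻¹ * (n * (k * x * k⁻¹)) * k := by group
    rw [e, h]
    group
  · intro h
    have e : n * (k * x * k⁻¹) = k * (k⁻¹ * n * k * x) * k⁻¹ := by group
    rw [e, h]
    group

/-- the count of elements conjugating `x` into a list of its powers is a conjugacy invariant -/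
theorem nrm_ncard_conj (k x : Equiv.Perm GolayPt) (hk : k ∈ M24) (es : List ℕ) :
    {n | n ∈ M24 ∧ ∃ i ∈ es, n * (k * x * k⁻¹) = (k * x * k⁻¹) ^ i * n}.ncard =
      {n | n ∈ M24 ∧ ∃ i ∈ es, n * x = x ^ i * n}.ncard := by
  rw [← Nat.card_coe_set_eq, ← Nat.card_coe_set_eq]
  apply Nat.card_congr
  refine Equiv.subtypeEquiv (MulAut.conj k⁻¹).toEquiv ?_
  intro n
  change (n ∈ M24 ∧ ∃ i ∈ es, n * (k * x * k⁻¹) = (k * x * k⁻¹) ^ i * n) ↔
    (k⁻¹ * n * k⁻¹⁻¹ ∈ M24 ∧ ∃ i ∈ es, (k⁻¹ * n * k⁻¹⁻¹) * x = x ^ i * (k⁻¹ * n * k⁻¹⁻¹))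
  rw [inv_inv]
  constructor
  · rintro ⟨hn, i, hi, h⟩
    exact ⟨mul_mem (mul_mem (inv_mem hk) hn) hk, i, hi, (pw_conj k x n i).1 h⟩
  · rintro ⟨hn, i, hi, h⟩
    refine ⟨?_, i, hi, (pw_conj k x n i).2 h⟩
    have e : n = k * (k⁻¹ * n * k) * k⁻¹ := by group
    rw [e]
    exact mul_mem (mul_mem hk hn) (inv_mem hk)

/-- Sylow conjugacy inside `M24` for a prime dividing the order exactly once -/
theorem syl_conj (p c : ℕ) (hp : p.Prime) (hc : Nat.card ↥M24 = p * c) (hpc : ¬ p ∣ c)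
    (S S0 : Subgroup ↥M24) (hS : Nat.card S = p) (hS0 : Nat.card S0 = p) :
    ∃ g : ↥M24, MulAut.conj g • S0 = S := by
  have : Fact p.Prime := ⟨hp⟩
  have hc0 : c ≠ 0 := by
    rintro rfl
    exact hpc (dvd_zero p)
  have hf : (Nat.card ↥M24).factorization p = 1 := by
    rw [hc, Nat.factorization_mul hp.ne_zero hc0, Finsupp.add_apply, hp.factorization_self,
      Nat.factorization_eq_zero_of_not_dvd hpc]
  let P : Sylow p ↥M24 := Sylow.ofCard S (by rw [hS, hf, pow_one])
  let P0 : Sylow p ↥M24 := Sylow.ofCard S0 (by rw [hS0, hf, pow_one])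
  obtain ⟨g, hg⟩ := MulAction.exists_smul_eq ↥M24 P0 P
  refine ⟨g, ?_⟩
  have h1 := congrArg Sylow.toSubgroup hg
  exact h1

theorem conj_zpowers_sub (g X : ↥M24) :
    MulAut.conj g • (Subgroup.zpowers X : Subgroup ↥M24) = Subgroup.zpowers (g * X * g⁻¹) := by
  change Subgroup.map (MulAut.conj g).toMonoidHom (Subgroup.zpowers X) = _
  rw [MonoidHom.map_zpowers]
  rfl

end Cfsg.Agent.Lib.Helper9.Leech
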