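import Cfsg.Agent.Lib.Helper9.Rank2

set_option autoImplicit false
open Cfsg

namespace Cfsg.Agent.Lib.Helper9.Leech

open scoped Pointwise
open Cfsg.Agent.S5393 Cfsg.Agent.S5548

theorem oct_pull (σ : Equiv.Perm GolayPt) (hσ : σ ∈ M24) (o : Finset GolayPt) (ho : o ∈ octads) :
    ∃ m ∈ octL, bitsOf m = σ⁻¹ • o :=
  (mem_octads _).1 (octads_smul σ⁻¹ (inv_mem hσ) o ho)

theorem dod_pull (σ : Equiv.Perm GolayPt) (hσ : σ ∈ M24) (o : Finset GolayPt)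
    (ho : o ∈ dodecads) : ∃ m ∈ dodL, bitsOf m = σ⁻¹ • o :=
  (mem_dodecads _).1 (dodecads_smul σ⁻¹ (inv_mem hσ) o ho)

theorem pull_inter (σ : Equiv.Perm GolayPt) (a m : ℕ) (o' : Finset GolayPt)
    (hb : bitsOf m = σ⁻¹ • o') : popc (a &&& m) = (σ • bitsOf a ∩ o').card := by
  rw [← card_inter_bits, hb, card_inter_inv]

theorem pull_mem (σ : Equiv.Perm GolayPt) (j : ℕ) (hj : j < 24) (m : ℕ) (o' : Finset GolayPt)
    (hb : bitsOf m = σ⁻¹ • o') : tb m j = true ↔ σ (ptOf j) ∈ o' := by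
  rw [← mem_bits_tb m j hj, hb, inv_smul_mem_iff]

theorem pull_back (σ g : Equiv.Perm GolayPt) (m' m'' : ℕ) (o' o'' : Finset GolayPt)
    (hb' : bitsOf m' = σ⁻¹ • o') (hb'' : bitsOf m'' = σ⁻¹ • o'')
    (hg : g • bitsOf m' = bitsOf m'') : (σ * g * σ⁻¹) • o' = o'' := by
  rw [mul_smul, mul_smul, ← hb', hg, hb'', smul_inv_smul]

theorem beq_iff (a k : ℕ) : Nat.beq a k = true ↔ a = k :=
  ⟨Nat.eq_of_beq_eq_true, fun h => by rw [h]; exact Nat.beq_refl k⟩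

theorem not_tb_iff (m j : ℕ) (hj : j < 24) : (!(tb m j)) = true ↔ ptOf j ∉ bitsOf m := by
  rw [mem_bits_tb m j hj]
  cases tb m j <;> simp

/-! ### S1556 -/

theorem oct_orbits' (o o' o'' : Finset GolayPt) (ho : o ∈ octads) (ho' : o' ∈ octads)
    (ho'' : o'' ∈ octads) (h : (o ∩ o').card = (o ∩ o'').card) :
    ∃ g : Equiv.Perm GolayPt, g ∈ M24 ∧ g • o = o ∧ g • o' = o'' := by
  obtain ⟨σ, hσ, hσo, _⟩ := oct_to_octO o ho
  subst hσo
  obtain ⟨m', hm', hb'⟩ := oct_pull σ hσ o' ho'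
  obtain ⟨m'', hm'', hb''⟩ := oct_pull σ hσ o'' ho''
  obtain ⟨g, hg, hgm⟩ := rkOct_orb m' m'' hm' hm'' rfl rfl (by
    change popc (octO &&& m') = popc (octO &&& m'')
    rw [pull_inter σ octO m' o' hb', pull_inter σ octO m'' o'' hb'', h])
  exact ⟨σ * g * σ⁻¹, conj_mem σ g hσ hg.1,
    conj_smul σ g _ _ (hg.2.1 octO (List.mem_singleton_self _)), pull_back σ g _ _ _ _ hb' hb'' hgm⟩

/-! ### S1607 -/

theorem oct_in_count (σ : Equiv.Perm GolayPt) (hσ : σ ∈ M24) (k : ℕ) :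
    {o' : Finset GolayPt | o' ∈ octads ∧ σ (ptOf 0) ∈ o' ∧
      (σ • bitsOf octO ∩ o').card = k}.ncard =
      (octL.filter (fun m => tb m 0 && Nat.beq (popc (octO &&& m)) k)).length := by
  rw [ncard_conj σ {o' | o' ∈ octads ∧ ptOf 0 ∈ o' ∧ (bitsOf octO ∩ o').card = k} _ (by
    intro s
    simp only [Set.mem_ofPred_eq]
    rw [octads_smul_iff σ hσ, mem_smul_iff, card_inter_smul])]
  exact ncard_fam octads octL mem_octads octL_lt octL_sorted
    (fun o' => ptOf 0 ∈ o' ∧ (bitsOf octO ∩ o').card = k) _ (by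
      intro n _
      rw [mem_bits_tb n 0 (by decide), card_inter_bits, Bool.and_eq_true, beq_iff])

set_option maxRecDepth 100000 in
theorem oct_in_2 : (octL.filter (fun m => tb m 0 && Nat.beq (popc (octO &&& m)) 2)).length = 112 := by
  decide +kernel

set_option maxRecDepth 100000 in
theorem oct_in_4 : (octL.filter (fun m => tb m 0 && Nat.beq (popc (octO &&& m)) 4)).length = 140 := by
  decide +kernel

theorem s1607 (x : GolayPt) (o : Finset GolayPt) (ho : o ∈ octads) (hx : x ∈ o) :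
    {o' : Finset GolayPt | o' ∈ octads ∧ x ∈ o' ∧ (o ∩ o').card = 2}.ncard = 112 ∧
    {o' : Finset GolayPt | o' ∈ octads ∧ x ∈ o' ∧ (o ∩ o').card = 4}.ncard = 140 ∧
    ∀ o' o'' : Finset GolayPt, o' ∈ octads → o'' ∈ octads → x ∈ o' → x ∈ o'' →
      (o ∩ o').card = (o ∩ o'').card →
      ∃ g : Equiv.Perm GolayPt, g ∈ M24 ∧ g x = x ∧ g • o = o ∧ g • o' = o'' := by
  obtain ⟨σ, hσ, hσo, hσx⟩ := oct_flag_in o ho x hx
  subst hσo hσx
  refine ⟨?_, ?_, ?_⟩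
  · rw [oct_in_count σ hσ 2, oct_in_2]
  · rw [oct_in_count σ hσ 4, oct_in_4]
  · intro o' o'' ho' ho'' hx' hx'' hcard
    obtain ⟨m', hm', hb'⟩ := oct_pull σ hσ o' ho'
    obtain ⟨m'', hm'', hb''⟩ := oct_pull σ hσ o'' ho''
    obtain ⟨g, hg, hgm⟩ := rkOctIn_orb m' m'' hm' hm''
      ((pull_mem σ 0 (by decide) m' o' hb').2 hx') ((pull_mem σ 0 (by decide) m'' o'' hb'').2 hx'')
      (by
        change popc (octO &&& m') = popc (octO &&& m'')
        rw [pull_inter σ octO m' o' hb', pull_inter σ octO m'' o'' hb'', hcard])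
    exact ⟨σ * g * σ⁻¹, conj_mem σ g hσ hg.1, conj_apply σ g _ _ (hg.2.2 0 (by simp)),
      conj_smul σ g _ _ (hg.2.1 octO (List.mem_singleton_self _)),
      pull_back σ g _ _ _ _ hb' hb'' hgm⟩

/-! ### S1608 -/

theorem oct_out_count (σ : Equiv.Perm GolayPt) (hσ : σ ∈ M24) (k : ℕ) :
    {o' : Finset GolayPt | o' ∈ octads ∧ σ (ptOf 4) ∉ o' ∧
      (σ • bitsOf octO ∩ o').card = k}.ncard =
      (octL.filter (fun m => !(tb m 4) && Nat.beq (popc (octO &&& m)) k)).length := by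
  rw [ncard_conj σ {o' | o' ∈ octads ∧ ptOf 4 ∉ o' ∧ (bitsOf octO ∩ o').card = k} _ (by
    intro s
    simp only [Set.mem_ofPred_eq]
    rw [octads_smul_iff σ hσ, mem_smul_iff, card_inter_smul])]
  exact ncard_fam octads octL mem_octads octL_lt octL_sorted
    (fun o' => ptOf 4 ∉ o' ∧ (bitsOf octO ∩ o').card = k) _ (by
      intro n _
      rw [card_inter_bits, Bool.and_eq_true, beq_iff, not_tb_iff n 4 (by decide)])

set_option maxRecDepth 100000 in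
theorem oct_out_0 :
    (octL.filter (fun m => !(tb m 4) && Nat.beq (popc (octO &&& m)) 0)).length = 15 := by
  decide +kernel

set_option maxRecDepth 100000 in
theorem oct_out_4 :
    (octL.filter (fun m => !(tb m 4) && Nat.beq (popc (octO &&& m)) 4)).length = 210 := by
  decide +kernel

set_option maxRecDepth 100000 in
theorem oct_out_2 :
    (octL.filter (fun m => !(tb m 4) && Nat.beq (popc (octO &&& m)) 2)).length = 280 := by
  decide +kernel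

theorem pull_not_mem (σ : Equiv.Perm GolayPt) (j : ℕ) (hj : j < 24) (m : ℕ)
    (o' : Finset GolayPt) (hb : bitsOf m = σ⁻¹ • o') :
    (!(tb m j)) = true ↔ σ (ptOf j) ∉ o' := by
  rw [not_tb_iff m j hj, hb, inv_smul_mem_iff]

theorem s1608 (x : GolayPt) (o : Finset GolayPt) (ho : o ∈ octads) (hx : x ∉ o) :
    {o' : Finset GolayPt | o' ∈ octads ∧ x ∉ o' ∧ (o ∩ o').card = 0}.ncard = 15 ∧
    {o' : Finset GolayPt | o' ∈ octads ∧ x ∉ o' ∧ (o ∩ o').card = 4}.ncard = 210 ∧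
    {o' : Finset GolayPt | o' ∈ octads ∧ x ∉ o' ∧ (o ∩ o').card = 2}.ncard = 280 ∧
    ∀ o' o'' : Finset GolayPt, o' ∈ octads → o'' ∈ octads → x ∉ o' → x ∉ o'' →
      (o ∩ o').card = (o ∩ o'').card →
      ∃ g : Equiv.Perm GolayPt, g ∈ M24 ∧ g x = x ∧ g • o = o ∧ g • o' = o'' := by
  obtain ⟨σ, hσ, hσo, hσx⟩ := oct_flag_out o ho x hx
  subst hσo hσx
  refine ⟨?_, ?_, ?_, ?_⟩
  · rw [oct_out_count σ hσ 0, oct_out_0]
  · rw [oct_out_count σ hσ 4, oct_out_4]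
  · rw [oct_out_count σ hσ 2, oct_out_2]
  · intro o' o'' ho' ho'' hx' hx'' hcard
    obtain ⟨m', hm', hb'⟩ := oct_pull σ hσ o' ho'
    obtain ⟨m'', hm'', hb''⟩ := oct_pull σ hσ o'' ho''
    obtain ⟨g, hg, hgm⟩ := rkOctOut_orb m' m'' hm' hm''
      ((pull_not_mem σ 4 (by decide) m' o' hb').2 hx')
      ((pull_not_mem σ 4 (by decide) m'' o'' hb'').2 hx'')
      (by
        change popc (octO &&& m') = popc (octO &&& m'')
        rw [pull_inter σ octO m' o' hb', pull_inter σ octO m'' o'' hb'', hcard])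
    exact ⟨σ * g * σ⁻¹, conj_mem σ g hσ hg.1, conj_apply σ g _ _ (hg.2.2 4 (by simp)),
      conj_smul σ g _ _ (hg.2.1 octO (List.mem_singleton_self _)),
      pull_back σ g _ _ _ _ hb' hb'' hgm⟩

/-! ### S1604 -/

theorem oct_2in_count (σ : Equiv.Perm GolayPt) (hσ : σ ∈ M24) (k : ℕ) :
    {x : Finset GolayPt | x ∈ octads ∧ σ (ptOf 0) ∈ x ∧ σ (ptOf 1) ∈ x ∧
      (σ • bitsOf octO ∩ x).card = k}.ncard =
      (octL.filter (fun m => tb m 0 && tb m 1 && Nat.beq (popc (octO &&& m)) k)).length := by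
  rw [ncard_conj σ {x | x ∈ octads ∧ ptOf 0 ∈ x ∧ ptOf 1 ∈ x ∧ (bitsOf octO ∩ x).card = k} _ (by
    intro s
    simp only [Set.mem_ofPred_eq]
    rw [octads_smul_iff σ hσ, mem_smul_iff, mem_smul_iff, card_inter_smul])]
  exact ncard_fam octads octL mem_octads octL_lt octL_sorted
    (fun x => ptOf 0 ∈ x ∧ ptOf 1 ∈ x ∧ (bitsOf octO ∩ x).card = k) _ (by
      intro n _
      rw [mem_bits_tb n 0 (by decide), mem_bits_tb n 1 (by decide), card_inter_bits,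
        Bool.and_eq_true, Bool.and_eq_true, beq_iff, and_assoc])

set_option maxRecDepth 100000 in
theorem oct_2in_2 :
    (octL.filter (fun m => tb m 0 && tb m 1 && Nat.beq (popc (octO &&& m)) 2)).length = 16 := by
  decide +kernel

set_option maxRecDepth 100000 in
theorem oct_2in_4 :
    (octL.filter (fun m => tb m 0 && tb m 1 && Nat.beq (popc (octO &&& m)) 4)).length = 60 := by
  decide +kernel

theorem s1604 (p q : GolayPt) (hpq : p ≠ q) (o o' o'' : Finset GolayPt) (ho : o ∈ octads)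
    (ho' : o' ∈ octads) (ho'' : o'' ∈ octads) (hp : p ∈ o ∧ p ∈ o' ∧ p ∈ o'')
    (hq : q ∈ o ∧ q ∈ o' ∧ q ∈ o'') (h : (o ∩ o').card = (o ∩ o'').card) :
    {x : Finset GolayPt | x ∈ octads ∧ p ∈ x ∧ q ∈ x ∧ (o ∩ x).card = 2}.ncard = 16 ∧
    {x : Finset GolayPt | x ∈ octads ∧ p ∈ x ∧ q ∈ x ∧ (o ∩ x).card = 4}.ncard = 60 ∧
    ∃ g : Equiv.Perm GolayPt, g ∈ M24 ∧ g p = p ∧ g q = q ∧ g • o = o ∧ g • o' = o'' := by
  obtain ⟨σ, hσ, hσo, hσp, hσq⟩ := oct_flag_2in o ho p q hp.1 hq.1 hpq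
  subst hσo hσp hσq
  refine ⟨?_, ?_, ?_⟩
  · rw [oct_2in_count σ hσ 2, oct_2in_2]
  · rw [oct_2in_count σ hσ 4, oct_2in_4]
  · obtain ⟨m', hm', hb'⟩ := oct_pull σ hσ o' ho'
    obtain ⟨m'', hm'', hb''⟩ := oct_pull σ hσ o'' ho''
    obtain ⟨g, hg, hgm⟩ := rkOct2_orb m' m'' hm' hm''
      (by
        change (tb m' 0 && tb m' 1) = true
        rw [Bool.and_eq_true]
        exact ⟨(pull_mem σ 0 (by decide) m' o' hb').2 hp.2.1,
          (pull_mem σ 1 (by decide) m' o' hb').2 hq.2.1⟩)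
      (by
        change (tb m'' 0 && tb m'' 1) = true
        rw [Bool.and_eq_true]
        exact ⟨(pull_mem σ 0 (by decide) m'' o'' hb'').2 hp.2.2,
          (pull_mem σ 1 (by decide) m'' o'' hb'').2 hq.2.2⟩)
      (by
        change popc (octO &&& m') = popc (octO &&& m'')
        rw [pull_inter σ octO m' o' hb', pull_inter σ octO m'' o'' hb'', h])
    exact ⟨σ * g * σ⁻¹, conj_mem σ g hσ hg.1, conj_apply σ g _ _ (hg.2.2 0 (by simp)),
      conj_apply σ g _ _ (hg.2.2 1 (by simp)),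
      conj_smul σ g _ _ (hg.2.1 octO (List.mem_singleton_self _)),
      pull_back σ g _ _ _ _ hb' hb'' hgm⟩

/-! ### S1605 -/

theorem pq_count (σ : Equiv.Perm GolayPt) (hσ : σ ∈ M24) :
    {x : Finset GolayPt | (x ∈ octads ∧ σ (ptOf 0) ∈ x ∧ σ (ptOf 4) ∉ x)}.ncard =
      (octL.filter (fun m => tb m 0 && !(tb m 4))).length := by
  rw [ncard_conj σ {x | x ∈ octads ∧ ptOf 0 ∈ x ∧ ptOf 4 ∉ x} _ (by
    intro s
    simp only [Set.mem_ofPred_eq]
    rw [octads_smul_iff σ hσ, mem_smul_iff, mem_smul_iff])]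
  exact ncard_fam octads octL mem_octads octL_lt octL_sorted
    (fun x => ptOf 0 ∈ x ∧ ptOf 4 ∉ x) _ (by
      intro n _
      rw [mem_bits_tb n 0 (by decide), Bool.and_eq_true, not_tb_iff n 4 (by decide)])

set_option maxRecDepth 100000 in
theorem pq_176 : (octL.filter (fun m => tb m 0 && !(tb m 4))).length = 176 := by
  decide +kernel

theorem octpq_count (σ : Equiv.Perm GolayPt) (hσ : σ ∈ M24) (k : ℕ) :
    {x : Finset GolayPt | (x ∈ octads ∧ σ (ptOf 0) ∈ x ∧ σ (ptOf 4) ∉ x) ∧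
      (σ • bitsOf octO ∩ x).card = k}.ncard =
      (octL.filter (fun m => tb m 0 && !(tb m 4) && Nat.beq (popc (octO &&& m)) k)).length := by
  rw [ncard_conj σ {x | (x ∈ octads ∧ ptOf 0 ∈ x ∧ ptOf 4 ∉ x) ∧ (bitsOf octO ∩ x).card = k} _ (by
    intro s
    simp only [Set.mem_ofPred_eq]
    rw [octads_smul_iff σ hσ, mem_smul_iff, mem_smul_iff, card_inter_smul])]
  have h1 : {x : Finset GolayPt | (x ∈ octads ∧ ptOf 0 ∈ x ∧ ptOf 4 ∉ x) ∧
      (bitsOf octO ∩ x).card = k} = {x | x ∈ octads ∧ ((ptOf 0 ∈ x ∧ ptOf 4 ∉ x) ∧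
      (bitsOf octO ∩ x).card = k)} := by
    ext x
    simp only [Set.mem_ofPred_eq, and_assoc]
  rw [h1]
  exact ncard_fam octads octL mem_octads octL_lt octL_sorted
    (fun x => (ptOf 0 ∈ x ∧ ptOf 4 ∉ x) ∧ (bitsOf octO ∩ x).card = k) _ (by
      intro n _
      rw [mem_bits_tb n 0 (by decide), card_inter_bits, Bool.and_eq_true, Bool.and_eq_true,
        beq_iff, not_tb_iff n 4 (by decide)])

set_option maxRecDepth 100000 in
theorem octpq_2 : (octL.filter (fun m => tb m 0 && !(tb m 4) &&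
    Nat.beq (popc (octO &&& m)) 2)).length = 70 := by
  decide +kernel

set_option maxRecDepth 100000 in
theorem octpq_4 : (octL.filter (fun m => tb m 0 && !(tb m 4) &&
    Nat.beq (popc (octO &&& m)) 4)).length = 105 := by
  decide +kernel

theorem pull_sel_pq (σ : Equiv.Perm GolayPt) (m : ℕ) (o' : Finset GolayPt)
    (hb : bitsOf m = σ⁻¹ • o') (h1 : σ (ptOf 0) ∈ o') (h2 : σ (ptOf 4) ∉ o') :
    (tb m 0 && !(tb m 4)) = true := by
  rw [Bool.and_eq_true]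
  exact ⟨(pull_mem σ 0 (by decide) m o' hb).2 h1, (pull_not_mem σ 4 (by decide) m o' hb).2 h2⟩

theorem pt0_ne_pt4 : ptOf 0 ≠ ptOf 4 := by decide

theorem s1605 (p q : GolayPt) (hpq : p ≠ q) :
    {x : Finset GolayPt | (x ∈ octads ∧ p ∈ x ∧ q ∉ x)}.ncard = 176 ∧
    (∀ o o' : Finset GolayPt, (o ∈ octads ∧ p ∈ o ∧ q ∉ o) → (o' ∈ octads ∧ p ∈ o' ∧ q ∉ o') →
      ∃ g : Equiv.Perm GolayPt, g ∈ M24 ∧ g p = p ∧ g q = q ∧ g • o = o') ∧
    ∀ o : Finset GolayPt, (o ∈ octads ∧ p ∈ o ∧ q ∉ o) →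
      {x : Finset GolayPt | (x ∈ octads ∧ p ∈ x ∧ q ∉ x) ∧ (o ∩ x).card = 2}.ncard = 70 ∧
      {x : Finset GolayPt | (x ∈ octads ∧ p ∈ x ∧ q ∉ x) ∧ (o ∩ x).card = 4}.ncard = 105 ∧
      ∀ o' o'' : Finset GolayPt, (o' ∈ octads ∧ p ∈ o' ∧ q ∉ o') →
        (o'' ∈ octads ∧ p ∈ o'' ∧ q ∉ o'') → (o ∩ o').card = (o ∩ o'').card →
        ∃ g : Equiv.Perm GolayPt, g ∈ M24 ∧ g p = p ∧ g q = q ∧ g • o = o ∧ g • o' = o'' := by
  refine ⟨?_, ?_, ?_⟩
  · obtain ⟨σ, hσ, hσp, hσq⟩ := trans2 (ptOf 0) (ptOf 4) p q pt0_ne_pt4 hpq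
    subst hσp hσq
    rw [pq_count σ hσ, pq_176]
  · obtain ⟨σ, hσ, hσp, hσq⟩ := trans2 (ptOf 0) (ptOf 4) p q pt0_ne_pt4 hpq
    subst hσp hσq
    rintro o o' ⟨ho, hpo, hqo⟩ ⟨ho', hpo', hqo'⟩
    obtain ⟨m, hm, hb⟩ := oct_pull σ hσ o ho
    obtain ⟨m', hm', hb'⟩ := oct_pull σ hσ o' ho'
    obtain ⟨g, hg, hgm⟩ := rkPQ_orb m m' hm hm' (pull_sel_pq σ m o hb hpo hqo)
      (pull_sel_pq σ m' o' hb' hpo' hqo') rfl
    exact ⟨σ * g * σ⁻¹, conj_mem σ g hσ hg.1, conj_apply σ g _ _ (hg.2.2 0 (by simp)),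
      conj_apply σ g _ _ (hg.2.2 4 (by simp)), pull_back σ g _ _ _ _ hb hb' hgm⟩
  · rintro o ⟨ho, hpo, hqo⟩
    obtain ⟨σ, hσ, hσo, hσp, hσq⟩ := oct_flag_inout o ho p q hpo hqo
    subst hσo hσp hσq
    refine ⟨?_, ?_, ?_⟩
    · rw [octpq_count σ hσ 2, octpq_2]
    · rw [octpq_count σ hσ 4, octpq_4]
    · rintro o' o'' ⟨ho', hpo', hqo'⟩ ⟨ho'', hpo'', hqo''⟩ hcard
      obtain ⟨m', hm', hb'⟩ := oct_pull σ hσ o' ho'
      obtain ⟨m'', hm'', hb''⟩ := oct_pull σ hσ o'' ho''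
      obtain ⟨g, hg, hgm⟩ := rkOctPQ_orb m' m'' hm' hm'' (pull_sel_pq σ m' o' hb' hpo' hqo')
        (pull_sel_pq σ m'' o'' hb'' hpo'' hqo'')
        (by
          change popc (octO &&& m') = popc (octO &&& m'')
          rw [pull_inter σ octO m' o' hb', pull_inter σ octO m'' o'' hb'', hcard])
      exact ⟨σ * g * σ⁻¹, conj_mem σ g hσ hg.1, conj_apply σ g _ _ (hg.2.2 0 (by simp)),
        conj_apply σ g _ _ (hg.2.2 4 (by simp)),
        conj_smul σ g _ _ (hg.2.1 octO (List.mem_singleton_self _)),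
        pull_back σ g _ _ _ _ hb' hb'' hgm⟩

end Cfsg.Agent.Lib.Helper9.Leech
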