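import Cfsg.Agent.Lib.Helper9.Nrm
import Cfsg.Agent.Lib.Helper9.O15Data
import Cfsg.Agent.Lib.Helper9.M24Oct
import Cfsg.Agent.Lib.Helper9.RankA

set_option autoImplicit false
open Cfsg

namespace Cfsg.Agent.Lib.Helper9.Leech

open scoped Pointwise
open Cfsg.Agent.S5393 Cfsg.Agent.S5548

/-! ### generic helpers -/

theorem tb_pt (m : ℕ) (p : GolayPt) : tb m (idx p) = true ↔ p ∈ bitsOf m := by
  rw [mem_bitsOf, tb_eq]

theorem bnot_iff (z : Bool) : (!z) = true ↔ ¬ z = true := by cases z <;> simp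

theorem baseL_lt (d : ℕ) (hd : d < 7) : baseL.getD d 0 < 24 := by
  interval_cases d <;> decide

/-- the member sets of `c'` are carried by `g⁻¹` into members of `c` -/
def mapK (k s c c' : ℕ) : Bool :=
  allBelow (fun i => forceN (pullN s (ent c' 24 i)) (fun m =>
    anyBelow (fun j => Nat.beq m (ent c 24 j)) k)) k

theorem mapK_spec (g : Equiv.Perm GolayPt) (s : ℕ) (hg : TblP g (tblOf s)) (k c c' : ℕ)
    (hc : validK k c = true) (hc' : validK k c' = true) (h : mapK k s c c' = true) :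
    g • semK k c = semK k c' := by
  have h1 := allBelow_spec _ k h
  have hsub : g⁻¹ • semK k c' = semK k c := by
    apply Finset.eq_of_subset_of_card_le
    · intro t ht
      obtain ⟨u, hu, rfl⟩ := Finset.mem_smul_finset.1 ht
      obtain ⟨i, hi, rfl⟩ := (mem_semK k c' u).1 hu
      have h2 := h1 i hi
      rw [forceN_eq, anyBelow_iff] at h2
      obtain ⟨j, hj, hje⟩ := h2
      rw [beq_iff] at hje
      rw [mem_semK]
      refine ⟨j, hj, ?_⟩
      rw [← hje]
      exact (pullN_spec g s hg _).symm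
    · rw [Finset.card_smul_finset, semK_card k c hc, semK_card k c' hc']
  rw [← hsub, smul_inv_smul]

theorem has3_iff (c x : ℕ) (hx : x < 2 ^ 24) : bitsOf x ∈ semK 3 c ↔ has3 c x = true := by
  constructor
  · intro h
    obtain ⟨j, hj, hje⟩ := (mem_semK 3 c _).1 h
    have he := bitsOf_inj _ _ (ent_lt c 24 j) hx hje
    unfold has3
    interval_cases j
    · rw [(beq_iff _ _).2 he]
      rfl
    · rw [(beq_iff _ _).2 he]
      simp
    · rw [(beq_iff _ _).2 he]
      simp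
  · exact has3_mem c x

theorem trios_with_count (m : ℕ) (hm : m < 2 ^ 24) :
    {T | T ∈ trios ∧ bitsOf m ∈ T}.ncard =
      ((List.range 3795).filter (fun i => has3 (codeAt 3 trioLE i) m)).length :=
  ncard_famG trios 3795 (fun i => semK 3 (codeAt 3 trioLE i)) mem_trios
    (fun i hi j hj hij => fam_inj 3 trioLE 3795 trio_fam i j hi hj hij)
    (fun T => bitsOf m ∈ T) _ (fun _ _ => has3_iff _ m hm)

theorem ptfix_iff (g : Equiv.Perm GolayPt) (t : ℕ) (hg : TblP g (tblOf t)) (m : ℕ) :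
    (∀ p ∈ bitsOf m, g p = p) ↔
      allBelow (fun i => !(tb m i) || Nat.beq (fld t i) i) 24 = true := by
  constructor
  · intro h
    apply allBelow_of
    intro i hi
    cases htb : tb m i with
    | false => rfl
    | true =>
      have h1 := h (ptOf i) ((mem_bits_tb m i hi).2 htb)
      rw [tbl_fix_iff g t hg, idx_ptOf i hi] at h1
      rw [(beq_iff _ _).2 h1]
      rfl
  · intro h p hp
    rw [tbl_fix_iff g t hg]
    have h1 := allBelow_spec _ 24 h (idx p) (idx_lt p)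
    rw [(tb_pt m p).2 hp] at h1
    exact Nat.eq_of_beq_eq_true h1

theorem fixAll_iff (g : Equiv.Perm GolayPt) (t : ℕ) (hg : TblP g (tblOf t)) (C : ℕ → ℕ)
    (n : ℕ) : (∀ r < n, g • semK 3 (C r) = semK 3 (C r)) ↔
      allBelow (fun r => fixK 3 t (C r)) n = true := by
  constructor
  · intro h
    exact allBelow_of _ n (fun r hr => (fixK_iff g t hg 3 _).1 (h r hr))
  · intro h r hr
    exact (fixK_iff g t hg 3 _).2 (allBelow_spec _ n h r hr)

def same3 (c x y : ℕ) : Bool :=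
  anyBelow (fun j => tb (ent c 24 j) x && tb (ent c 24 j) y) 3

theorem same3_smul (g : Equiv.Perm GolayPt) (c : ℕ) (hfix : g • semK 3 c = semK 3 c)
    (p q : GolayPt) (h : same3 c (idx p) (idx q) = true) :
    same3 c (idx (g p)) (idx (g q)) = true := by
  unfold same3 at h ⊢
  rw [anyBelow_iff] at h ⊢
  obtain ⟨j, hj, hb⟩ := h
  rw [Bool.and_eq_true, tb_pt, tb_pt] at hb
  have hmem : g • bitsOf (ent c 24 j) ∈ semK 3 c := by
    rw [← hfix]
    exact Finset.smul_mem_smul_finset ((mem_semK 3 c _).2 ⟨j, hj, rfl⟩)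
  obtain ⟨j', hj', he⟩ := (mem_semK 3 c _).1 hmem
  refine ⟨j', hj', ?_⟩
  rw [Bool.and_eq_true, tb_pt, tb_pt, he]
  exact ⟨Finset.smul_mem_smul_finset hb.1, Finset.smul_mem_smul_finset hb.2⟩

/-! ### the four properties and their invariance -/

def P1 (o : Finset GolayPt) : Prop := {T | T ∈ trios ∧ o ∈ T}.ncard = 15

def P2 (o : Finset GolayPt) : Prop :=
  ∀ T₁ T₂ T₁' T₂' : Finset (Finset GolayPt), T₁ ∈ trios → T₂ ∈ trios → T₁' ∈ trios →
    T₂' ∈ trios → o ∈ T₁ → o ∈ T₂ → o ∈ T₁' → o ∈ T₂' → T₁ ≠ T₂ → T₁' ≠ T₂' →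
    ∃ g ∈ M24, g • o = o ∧ g • T₁ = T₁' ∧ g • T₂ = T₂'

def P3a (o : Finset GolayPt) : Prop :=
  ∀ g ∈ M24, g • o = o → (∀ T ∈ trios, o ∈ T → g • T = T) → ∀ p ∈ o, g p = p

def P3b (o : Finset GolayPt) : Prop :=
  ∀ g ∈ M24, (∀ p ∈ o, g p = p) → ∀ T ∈ trios, o ∈ T → g • T = T

theorem oct_wlog (P : Finset GolayPt → Prop) (hconj : ∀ σ ∈ M24, ∀ o, P o → P (σ • o))
    (m : ℕ) (hm : bitsOf m ∈ octads) (h0 : P (bitsOf m)) : ∀ o ∈ octads, P o := by
  intro o ho
  obtain ⟨g, hg⟩ := octads_trans (bitsOf m) o hm ho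
  rw [← hg]
  exact hconj g.1 g.2 _ h0

theorem mem_inv_smul (σ : Equiv.Perm GolayPt) (o : Finset GolayPt)
    (T : Finset (Finset GolayPt)) : o ∈ σ⁻¹ • T ↔ σ • o ∈ T := by
  rw [← Finset.smul_mem_smul_finset_iff σ, smul_inv_smul]

theorem trios_inv (σ : Equiv.Perm GolayPt) (hσ : σ ∈ M24) (T : Finset (Finset GolayPt))
    (hT : T ∈ trios) : σ⁻¹ • T ∈ trios := trios_smul σ⁻¹ (inv_mem hσ) T hT

theorem p1_conj : ∀ σ ∈ M24, ∀ o, P1 o → P1 (σ • o) := by
  intro σ hσ o h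
  unfold P1 at h ⊢
  rw [← h]
  apply ncard_conj σ
  intro s
  simp only [Set.mem_ofPred_eq]
  constructor
  · rintro ⟨hs, ho⟩
    exact ⟨trios_smul σ hσ s hs, Finset.smul_mem_smul_finset ho⟩
  · rintro ⟨hs, ho⟩
    refine ⟨?_, (Finset.smul_mem_smul_finset_iff σ).1 ho⟩
    have := trios_inv σ hσ _ hs
    rwa [inv_smul_smul] at this

theorem p2_conj : ∀ σ ∈ M24, ∀ o, P2 o → P2 (σ • o) := by
  intro σ hσ o h T₁ T₂ T₁' T₂' h1 h2 h1' h2' ho1 ho2 ho1' ho2' hne hne'
  obtain ⟨g, hg, hgo, hg1, hg2⟩ := h (σ⁻¹ • T₁) (σ⁻¹ • T₂) (σ⁻¹ • T₁') (σ⁻¹ • T₂')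
    (trios_inv σ hσ _ h1) (trios_inv σ hσ _ h2) (trios_inv σ hσ _ h1') (trios_inv σ hσ _ h2')
    ((mem_inv_smul σ o T₁).2 ho1) ((mem_inv_smul σ o T₂).2 ho2)
    ((mem_inv_smul σ o T₁').2 ho1') ((mem_inv_smul σ o T₂').2 ho2')
    (fun e => hne (smul_left_cancel σ⁻¹ e)) (fun e => hne' (smul_left_cancel σ⁻¹ e))
  refine ⟨σ * g * σ⁻¹, conj_mem σ g hσ hg, ?_, ?_, ?_⟩
  · rw [mul_smul, mul_smul, inv_smul_smul, hgo]
  · rw [mul_smul, mul_smul, hg1, smul_inv_smul]
  · rw [mul_smul, mul_smul, hg2, smul_inv_smul]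

theorem p3a_conj : ∀ σ ∈ M24, ∀ o, P3a o → P3a (σ • o) := by
  intro σ hσ o h g hg hgo hall p hp
  have h1 := h (σ⁻¹ * g * σ) (mul_mem (mul_mem (inv_mem hσ) hg) hσ)
    (by rw [mul_smul, mul_smul, hgo, inv_smul_smul])
    (by
      intro T hT hoT
      have h2 := hall (σ • T) (trios_smul σ hσ T hT) (Finset.smul_mem_smul_finset hoT)
      rw [mul_smul, mul_smul, h2, inv_smul_smul])
  obtain ⟨q, hq, rfl⟩ := Finset.mem_smul_finset.1 hp
  have h3 := h1 q hq
  rw [Equiv.Perm.mul_apply, Equiv.Perm.mul_apply] at h3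
  have h4 := congrArg σ h3
  change σ (σ.symm (g (σ q))) = σ q at h4
  rw [Equiv.apply_symm_apply] at h4
  exact h4

theorem p3b_conj : ∀ σ ∈ M24, ∀ o, P3b o → P3b (σ • o) := by
  intro σ hσ o h g hg hpt T hT hoT
  have h1 := h (σ⁻¹ * g * σ) (mul_mem (mul_mem (inv_mem hσ) hg) hσ)
    (by
      intro q hq
      have h2 := hpt (σ q) (Finset.smul_mem_smul_finset hq)
      rw [Equiv.Perm.mul_apply, Equiv.Perm.mul_apply, h2]
      change σ.symm (σ q) = q
      rw [Equiv.symm_apply_apply])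
    (σ⁻¹ • T) (trios_inv σ hσ T hT) ((mem_inv_smul σ o T).2 hoT)
  rw [mul_smul, mul_smul, smul_inv_smul] at h1
  exact smul_left_cancel σ⁻¹ h1

/-! ### the standard octad: count and double transitivity -/

set_option maxRecDepth 100000 in
theorem octO_15 : ((List.range 3795).filter (fun i => has3 (codeAt 3 trioLE i) octO)).length
    = 15 := by decide +kernel

theorem octO_p1 : P1 (bitsOf octO) := by
  unfold P1
  rw [trios_with_count octO (by decide)]
  exact octO_15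

def c15 (r : ℕ) : ℕ := codeAt 3 trioLE (Nat.add 330 r)

theorem c15_valid (r : ℕ) (hr : r < 15) : validK 3 (c15 r) = true :=
  famChk_valid 3 trioLE 3795 trio_fam (330 + r) (by omega)

theorem c15_trio (r : ℕ) (hr : r < 15) : semK 3 (c15 r) ∈ trios :=
  (mem_trios _).2 ⟨330 + r, by omega, rfl⟩

set_option maxRecDepth 100000 in
theorem octO_idx : allBelow (fun i => !(has3 (codeAt 3 trioLE i) octO) ||
    (Nat.ble 330 i && Nat.blt i 345)) 3795 = true := by decide +kernel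

theorem octO_trio_idx (T : Finset (Finset GolayPt)) (hT : T ∈ trios) (hO : bitsOf octO ∈ T) :
    ∃ r < 15, T = semK 3 (c15 r) := by
  obtain ⟨i, hi, rfl⟩ := (mem_trios T).1 hT
  have h3 := (has3_iff (codeAt 3 trioLE i) octO (by decide)).1 hO
  have h4 := allBelow_spec _ _ octO_idx i hi
  rw [h3, Bool.not_true, Bool.false_or, Bool.and_eq_true] at h4
  have h5 : 330 ≤ i := Nat.le_of_ble_eq_true h4.1
  have h6 : i < 345 := (blt_iff _ _).1 h4.2
  refine ⟨i - 330, by omega, ?_⟩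
  have e : 330 + (i - 330) = i := by omega
  unfold c15
  change _ = semK 3 (codeAt 3 trioLE (330 + (i - 330)))
  rw [e]

set_option maxRecDepth 100000 in
theorem o15S_ok : slpChk o15S o15N = true := by decide +kernel

set_option maxRecDepth 100000 in
theorem o15H_ok : allBelow (fun r => forceN (ent o15H 16 r) (fun k => Nat.blt k o15N &&
    forceN (nodeTbl o15S k) (fun t => Nat.beq (pullN t octO) octO &&
      mapK 3 t (c15 0) (c15 r)))) 15 = true := by decide +kernel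

set_option maxRecDepth 100000 in
theorem o15K_ok : allBelow (fun s => Nat.beq s 0 || forceN (ent o15K 16 s) (fun k =>
    Nat.blt k o15N && forceN (nodeTbl o15S k) (fun t => Nat.beq (pullN t octO) octO &&
      (mapK 3 t (c15 0) (c15 0) && mapK 3 t (c15 1) (c15 s))))) 15 = true := by decide +kernel

theorem octO_pair (T₁ T₂ : Finset (Finset GolayPt)) (h1 : T₁ ∈ trios) (h2 : T₂ ∈ trios)
    (ho1 : bitsOf octO ∈ T₁) (ho2 : bitsOf octO ∈ T₂) (hne : T₁ ≠ T₂) :
    ∃ g ∈ M24, g • bitsOf octO = bitsOf octO ∧ g • semK 3 (c15 0) = T₁ ∧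
      g • semK 3 (c15 1) = T₂ := by
  obtain ⟨r, hr, rfl⟩ := octO_trio_idx T₁ h1 ho1
  have hH := allBelow_spec _ 15 o15H_ok r hr
  rw [forceN_eq, Bool.and_eq_true, forceN_eq, Bool.and_eq_true] at hH
  obtain ⟨hk, hfix, hmap⟩ := hH
  obtain ⟨h, hhM, hh⟩ := slpChk_spec M24 (shift_mem 1) projInv_mem cubeTwist_mem o15S o15N
    o15S_ok _ ((blt_iff _ _).1 hk)
  have hhO : h • bitsOf octO = bitsOf octO := (fix_mask_iff h _ hh octO (by decide)).2 hfix
  have hhT : h • semK 3 (c15 0) = semK 3 (c15 r) :=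
    mapK_spec h _ hh 3 _ _ (c15_valid 0 (by norm_num)) (c15_valid r hr) hmap
  have hU : h⁻¹ • T₂ ∈ trios := trios_inv h hhM T₂ h2
  have hUO : bitsOf octO ∈ h⁻¹ • T₂ := by
    rw [mem_inv_smul, hhO]
    exact ho2
  obtain ⟨s, hs, hUs⟩ := octO_trio_idx _ hU hUO
  have hs0 : s ≠ 0 := by
    rintro rfl
    apply hne
    rw [inv_smul_eq_iff] at hUs
    rw [hUs, hhT]
  have hK := allBelow_spec _ 15 o15K_ok s hs
  rw [Bool.or_eq_true] at hK
  rcases hK with hK | hK
  · exact absurd (Nat.eq_of_beq_eq_true hK) hs0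
  rw [forceN_eq, Bool.and_eq_true, forceN_eq, Bool.and_eq_true, Bool.and_eq_true] at hK
  obtain ⟨hk2, hfix2, hmap0, hmap1⟩ := hK
  obtain ⟨k, hkM, hkt⟩ := slpChk_spec M24 (shift_mem 1) projInv_mem cubeTwist_mem o15S o15N
    o15S_ok _ ((blt_iff _ _).1 hk2)
  have hkO : k • bitsOf octO = bitsOf octO := (fix_mask_iff k _ hkt octO (by decide)).2 hfix2
  have hk0 : k • semK 3 (c15 0) = semK 3 (c15 0) :=
    mapK_spec k _ hkt 3 _ _ (c15_valid 0 (by norm_num)) (c15_valid 0 (by norm_num)) hmap0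
  have hk1 : k • semK 3 (c15 1) = semK 3 (c15 s) :=
    mapK_spec k _ hkt 3 _ _ (c15_valid 1 (by norm_num)) (c15_valid s hs) hmap1
  refine ⟨h * k, mul_mem hhM hkM, ?_, ?_, ?_⟩
  · rw [mul_smul, hkO, hhO]
  · rw [mul_smul, hk0, hhT]
  · rw [mul_smul, hk1, ← hUs, smul_inv_smul]

theorem octO_p2 : P2 (bitsOf octO) := by
  intro T₁ T₂ T₁' T₂' h1 h2 h1' h2' ho1 ho2 ho1' ho2' hne hne'
  obtain ⟨g, hg, hgo, hg1, hg2⟩ := octO_pair T₁ T₂ h1 h2 ho1 ho2 hne
  obtain ⟨g', hg', hgo', hg1', hg2'⟩ := octO_pair T₁' T₂' h1' h2' ho1' ho2' hne'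
  refine ⟨g' * g⁻¹, mul_mem hg' (inv_mem hg), ?_, ?_, ?_⟩
  · rw [mul_smul, inv_smul_eq_iff.2 hgo.symm, hgo']
  · rw [mul_smul, ← hg1, inv_smul_smul, hg1']
  · rw [mul_smul, ← hg2, inv_smul_smul, hg2']

/-! ### pointwise stabiliser of the standard octad fixes the fifteen trios -/

def loc0 (d _a y : ℕ) : Bool :=
  !(tb octO (baseL.getD d 0)) || Nat.beq y (baseL.getD d 0)

def pass0 (t : ℕ) : Bool :=
  allBelow (fun i => !(tb octO i) || Nat.beq (fld t i) i) 24 &&
    !(allBelow (fun r => fixK 3 t (c15 r)) 15)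

set_option maxRecDepth 100000 in
theorem srch0 : srch loc0 pass0 srLv 0 idN = 0 := by decide +kernel

theorem octO_p3b : P3b (bitsOf octO) := by
  have hcount : {g | g ∈ M24 ∧ ((∀ p ∈ bitsOf octO, g p = p) ∧
      ¬ (∀ r < 15, g • semK 3 (c15 r) = semK 3 (c15 r)))}.ncard = 0 := by
    rw [← srch0]
    apply m24_count (fun g => (∀ p ∈ bitsOf octO, g p = p) ∧
      ¬ (∀ r < 15, g • semK 3 (c15 r) = semK 3 (c15 r))) loc0 pass0
    · intro g _ t hg
      unfold pass0
      rw [Bool.and_eq_true, bnot_iff, ← ptfix_iff g t hg octO, ← fixAll_iff g t hg c15 15]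
    · intro g _ hΦ d hd a _
      unfold loc0
      cases htb : tb octO (baseL.getD d 0) with
      | false => rfl
      | true =>
        have h1 := hΦ.1 (ptOf (baseL.getD d 0)) ((mem_bits_tb octO _ (baseL_lt d hd)).2 htb)
        rw [h1, idx_ptOf _ (baseL_lt d hd), (beq_iff _ _).2 rfl]
        rfl
  have hempty := (Set.ncard_eq_zero (Set.toFinite _)).1 hcount
  intro g hg hpt T hT hO
  by_contra hne
  have hmem : g ∈ {g | g ∈ M24 ∧ ((∀ p ∈ bitsOf octO, g p = p) ∧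
      ¬ (∀ r < 15, g • semK 3 (c15 r) = semK 3 (c15 r)))} := by
    refine ⟨hg, hpt, ?_⟩
    intro hall
    obtain ⟨r, hr, rfl⟩ := octO_trio_idx T hT hO
    exact hne (hall r hr)
  rw [hempty] at hmem
  exact hmem

/-! ### an octad off the base: the kernel on its fifteen trios fixes it pointwise -/

theorem o15B_lt : o15B < 2 ^ 24 := by decide

theorem o15B_octad : bitsOf o15B ∈ octads :=
  (mem_octads _).2 ⟨o15B, memL_mem _ _ (by decide +kernel), rfl⟩

def cB (r : ℕ) : ℕ := ent o15C 72 r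

theorem cB_ok : allBelow (fun r => forceN (ent o15I 16 r) (fun i => Nat.blt i 3795 &&
    (Nat.beq (codeAt 3 trioLE i) (cB r) && has3 (cB r) o15B))) 15 = true := by decide +kernel

theorem cB_trio (r : ℕ) (hr : r < 15) : semK 3 (cB r) ∈ trios ∧ bitsOf o15B ∈ semK 3 (cB r) := by
  have h := allBelow_spec _ 15 cB_ok r hr
  rw [forceN_eq, Bool.and_eq_true, Bool.and_eq_true] at h
  obtain ⟨h1, h2, h3⟩ := h
  refine ⟨(mem_trios _).2 ⟨_, (blt_iff _ _).1 h1, ?_⟩, has3_mem _ _ h3⟩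
  rw [Nat.eq_of_beq_eq_true h2]

theorem base_out : ∀ d < 7, tb o15B (baseL.getD d 0) = false := by decide +kernel

def loc1 (d a y : ℕ) : Bool :=
  !(tb o15B y) && allBelow (fun k => allBelow (fun r => forceN (cB r) (fun c =>
    !(same3 c (baseL.getD k 0) (baseL.getD d 0)) || same3 c (fld a (baseL.getD k 0)) y)) 15) d

def pass1 (t : ℕ) : Bool :=
  Nat.beq (pullN t o15B) o15B && (allBelow (fun r => fixK 3 t (cB r)) 15 &&
    !(allBelow (fun i => !(tb o15B i) || Nat.beq (fld t i) i) 24))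

set_option maxRecDepth 100000 in
theorem srch1 : srch loc1 pass1 srLv 0 idN = 0 := by decide +kernel

theorem o15B_p3a : P3a (bitsOf o15B) := by
  have hcount : {g | g ∈ M24 ∧ (g • bitsOf o15B = bitsOf o15B ∧
      (∀ r < 15, g • semK 3 (cB r) = semK 3 (cB r)) ∧
      ¬ (∀ p ∈ bitsOf o15B, g p = p))}.ncard = 0 := by
    rw [← srch1]
    apply m24_count (fun g => g • bitsOf o15B = bitsOf o15B ∧
      (∀ r < 15, g • semK 3 (cB r) = semK 3 (cB r)) ∧
      ¬ (∀ p ∈ bitsOf o15B, g p = p)) loc1 pass1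
    · intro g _ t hg
      unfold pass1
      rw [Bool.and_eq_true, Bool.and_eq_true, bnot_iff, ← ptfix_iff g t hg o15B,
        ← fixAll_iff g t hg cB 15, ← fix_mask_iff g t hg o15B o15B_lt]
    · intro g _ hΦ d hd a hagree
      unfold loc1
      rw [Bool.and_eq_true]
      constructor
      · cases htb : tb o15B (idx (g (ptOf (baseL.getD d 0)))) with
        | false => rfl
        | true =>
          exfalso
          rw [tb_pt, ← hΦ.1] at htb
          have h3 : ptOf (baseL.getD d 0) ∈ bitsOf o15B :=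
            (Finset.smul_mem_smul_finset_iff g).1 htb
          rw [mem_bits_tb _ _ (baseL_lt d hd), base_out d hd] at h3
          exact absurd h3 (by decide)
      · apply allBelow_of
        intro k hk
        apply allBelow_of
        intro r hr
        rw [forceN_eq]
        cases hs : same3 (cB r) (baseL.getD k 0) (baseL.getD d 0) with
        | false => rfl
        | true =>
          have h4 := same3_smul g _ (hΦ.2.1 r hr) (ptOf (baseL.getD k 0)) (ptOf (baseL.getD d 0))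
            (by
              rw [idx_ptOf _ (baseL_lt k (by omega)), idx_ptOf _ (baseL_lt d hd)]
              exact hs)
          rw [hagree k hk] at h4
          rw [h4]
          rfl
  have hempty := (Set.ncard_eq_zero (Set.toFinite _)).1 hcount
  intro g hg hgB hall p hp
  by_contra hne
  have hmem : g ∈ {g | g ∈ M24 ∧ (g • bitsOf o15B = bitsOf o15B ∧
      (∀ r < 15, g • semK 3 (cB r) = semK 3 (cB r)) ∧
      ¬ (∀ p ∈ bitsOf o15B, g p = p))} := by
    refine ⟨hg, hgB, ?_, ?_⟩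
    · intro r hr
      exact hall _ (cB_trio r hr).1 (cB_trio r hr).2
    · intro hpt
      exact hne (hpt p hp)
  rw [hempty] at hmem
  exact hmem

theorem s5615 (o : Finset GolayPt) (ho : o ∈ octads) :
    {T : Finset (Finset GolayPt) | T ∈ trios ∧ o ∈ T}.ncard = 15 ∧
    (∀ T₁ T₂ T₁' T₂' : Finset (Finset GolayPt), T₁ ∈ trios → T₂ ∈ trios → T₁' ∈ trios →
      T₂' ∈ trios → o ∈ T₁ → o ∈ T₂ → o ∈ T₁' → o ∈ T₂' → T₁ ≠ T₂ → T₁' ≠ T₂' →
      ∃ g ∈ M24, g • o = o ∧ g • T₁ = T₁' ∧ g • T₂ = T₂') ∧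
    ∀ g ∈ M24, g • o = o → ((∀ T ∈ trios, o ∈ T → g • T = T) ↔ ∀ p ∈ o, g p = p) := by
  refine ⟨oct_wlog P1 p1_conj octO octO_octad octO_p1 o ho,
    oct_wlog P2 p2_conj octO octO_octad octO_p2 o ho, ?_⟩
  intro g hg hgo
  exact ⟨oct_wlog P3a p3a_conj o15B o15B_octad o15B_p3a o ho g hg hgo,
    oct_wlog P3b p3b_conj octO octO_octad octO_p3b o ho g hg⟩

end Cfsg.Agent.Lib.Helper9.Leech
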