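import Cfsg.Agent.Lib.Helper9.Rank

set_option autoImplicit false
open Cfsg

namespace Cfsg.Agent.Lib.Helper9.Leech

open scoped Pointwise
open Cfsg.Agent.S5393 Cfsg.Agent.S5548

/-! ### the octad chain and flag transitivity -/

def octB : List ℕ := [0, 1, 2, 3, 5, 14, 4]

set_option maxRecDepth 100000 in
theorem rkOctChT_ok : tblsOK rkS rkN rkOctChT rkOctChIx = true := by decide +kernel

theorem rkOctChT_valid : ∀ t ∈ rkOctChT, ∃ g ∈ M24, TblP g t :=
  tblsOK_spec rkS rkN rkS_ok rkOctChT rkOctChIx rkOctChT_ok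

set_option maxRecDepth 100000 in
theorem rkOct_chain : chainOK2 rkOctChT [octO] octB rkOctCh := by decide +kernel

theorem octO_bit0 : octO.testBit 0 = true := by decide +kernel

theorem octO_bit4 : octO.testBit 4 = false := by decide +kernel

theorem octO_take6 : ∀ j ∈ octB.take 6, octO.testBit j = true := by decide +kernel

theorem inCell_in (p : GolayPt) (hp : p ∈ bitsOf octO) : InCell [octO] 0 (idx p) := by
  intro m hm
  rw [List.mem_singleton] at hm
  rw [hm, octO_bit0]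
  exact (mem_bitsOf _ _).1 hp

theorem inCell_out (p : GolayPt) (hp : p ∉ bitsOf octO) : InCell [octO] 4 (idx p) := by
  intro m hm
  rw [List.mem_singleton] at hm
  rw [hm, octO_bit4]
  rw [mem_bitsOf] at hp
  cases h : octO.testBit (idx p)
  · rfl
  · exact absurd h hp

/-- composing a transporting element with an element of the base stabiliser -/
theorem flag_step (σ1 g : Equiv.Perm GolayPt) (hσ1 : σ1 ∈ M24) (ps : List ℕ)
    (hg : g ∈ cfgSub [octO] ps) (o : Finset GolayPt) (hσo : σ1 • bitsOf octO = o) :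
    σ1 * g⁻¹ ∈ M24 ∧ (σ1 * g⁻¹) • bitsOf octO = o ∧
      (∀ y q : GolayPt, g y = q → (σ1 * g⁻¹) q = σ1 y) := by
  refine ⟨Subgroup.mul_mem _ hσ1 (inv_mem hg.1), ?_, ?_⟩
  · rw [mul_smul, inv_smul_eq_iff.2 (hg.2.1 octO (List.mem_singleton_self _)).symm, hσo]
  · intro y q hyq
    rw [Equiv.Perm.mul_apply, ← hyq]
    change σ1 (g.symm (g y)) = σ1 y
    rw [Equiv.symm_apply_apply]

theorem oct_flag_in (o : Finset GolayPt) (ho : o ∈ octads) (x : GolayPt) (hx : x ∈ o) :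
    ∃ σ ∈ M24, σ • bitsOf octO = o ∧ σ (ptOf 0) = x := by
  obtain ⟨σ1, hσ1, hσo, _⟩ := oct_to_octO o ho
  have hx1 : σ1⁻¹ x ∈ bitsOf octO := (smul_inv_mem σ1 _ x).2 (by rw [hσo]; exact hx)
  obtain ⟨g, hg, hgx⟩ := cchain_trans rkOctChT rkOctChT_valid [octO] octB rkOctCh rkOct_chain 0 0
    [σ1⁻¹ x] (List.nodup_singleton _) (by simp [octB]) (by
      intro i _ hi
      have : i = 0 := by simpa using hi
      rw [this]
      intro m _
      rfl) (by
      intro p hp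
      rw [List.mem_singleton] at hp
      rw [hp]
      exact inCell_in _ hx1) (by simp) 1 (by simp)
  have h0 : g (σ1⁻¹ x) = ptOf 0 := hgx 0 (by simp) (by decide)
  obtain ⟨h1, h2, h3⟩ := flag_step σ1 g hσ1 _ hg o hσo
  refine ⟨σ1 * g⁻¹, h1, h2, ?_⟩
  rw [h3 _ _ h0]
  change σ1 (σ1.symm x) = x
  rw [Equiv.apply_symm_apply]

theorem oct_flag_2in (o : Finset GolayPt) (ho : o ∈ octads) (p q : GolayPt) (hp : p ∈ o)
    (hq : q ∈ o) (hpq : p ≠ q) :
    ∃ σ ∈ M24, σ • bitsOf octO = o ∧ σ (ptOf 0) = p ∧ σ (ptOf 1) = q := by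
  obtain ⟨σ1, hσ1, hσo, _⟩ := oct_to_octO o ho
  have hp1 : σ1⁻¹ p ∈ bitsOf octO := (smul_inv_mem σ1 _ p).2 (by rw [hσo]; exact hp)
  have hq1 : σ1⁻¹ q ∈ bitsOf octO := (smul_inv_mem σ1 _ q).2 (by rw [hσo]; exact hq)
  have hne : σ1⁻¹ p ≠ σ1⁻¹ q := fun h => hpq (σ1⁻¹.injective h)
  obtain ⟨g, hg, hgx⟩ := cchain_trans rkOctChT rkOctChT_valid [octO] octB rkOctCh rkOct_chain 0 0
    [σ1⁻¹ p, σ1⁻¹ q] (by simp [hpq]) (by simp [octB]) (by
      intro i _ hi
      have hi' : i < 2 := by simpa using hi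
      intro m hm
      rw [List.mem_singleton] at hm
      rw [hm]
      interval_cases i <;> decide +kernel) (by
      intro x hx
      simp only [List.mem_cons, List.not_mem_nil, or_false] at hx
      rcases hx with rfl | rfl
      · exact inCell_in _ hp1
      · exact inCell_in _ hq1) (by simp) 2 (by simp)
  have h0 : g (σ1⁻¹ p) = ptOf 0 := hgx 0 (by simp) (by decide)
  have h1' : g (σ1⁻¹ q) = ptOf 1 := hgx 1 (by simp) (by decide)
  obtain ⟨h1, h2, h3⟩ := flag_step σ1 g hσ1 _ hg o hσo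
  refine ⟨σ1 * g⁻¹, h1, h2, ?_, ?_⟩
  · rw [h3 _ _ h0]
    change σ1 (σ1.symm p) = p
    rw [Equiv.apply_symm_apply]
  · rw [h3 _ _ h1']
    change σ1 (σ1.symm q) = q
    rw [Equiv.apply_symm_apply]

/-- second stage: move an outside point to the base outside point, keeping the inside base
points -/
theorem oct_out_step (σ2 : Equiv.Perm GolayPt) (hσ2 : σ2 ∈ M24) (o : Finset GolayPt)
    (hσo : σ2 • bitsOf octO = o) (q : GolayPt) (hq : q ∉ o) :
    ∃ σ ∈ M24, σ • bitsOf octO = o ∧ σ (ptOf 4) = q ∧ σ (ptOf 0) = σ2 (ptOf 0) ∧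
      σ (ptOf 1) = σ2 (ptOf 1) := by
  have hq2 : σ2⁻¹ q ∉ bitsOf octO := by
    intro h
    apply hq
    rw [← hσo]
    exact (smul_inv_mem σ2 _ q).1 h
  obtain ⟨g, hg, hgx⟩ := cchain_trans rkOctChT rkOctChT_valid [octO] octB rkOctCh rkOct_chain 4 6
    [σ2⁻¹ q] (List.nodup_singleton _) (by simp [octB]) (by
      intro i h6 hi
      have hi' : i < 7 := by simpa using hi
      have : i = 6 := by omega
      rw [this]
      intro m _
      rfl) (by
      intro p hp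
      rw [List.mem_singleton] at hp
      rw [hp]
      exact inCell_out _ hq2) (by
      intro p hp hcon
      rw [List.mem_singleton] at hp
      rw [hp] at hcon
      have := octO_take6 _ hcon
      rw [mem_bitsOf] at hq2
      exact hq2 this) 1 (by simp)
  have h0 : g (σ2⁻¹ q) = ptOf 4 := hgx 0 (by simp) (by decide)
  obtain ⟨h1, h2, h3⟩ := flag_step σ2 g hσ2 _ hg o hσo
  refine ⟨σ2 * g⁻¹, h1, h2, ?_, ?_, ?_⟩
  · rw [h3 _ _ h0]
    change σ2 (σ2.symm q) = q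
    rw [Equiv.apply_symm_apply]
  · exact h3 _ _ (hg.2.2 0 (by decide))
  · exact h3 _ _ (hg.2.2 1 (by decide))

theorem oct_flag_out (o : Finset GolayPt) (ho : o ∈ octads) (x : GolayPt) (hx : x ∉ o) :
    ∃ σ ∈ M24, σ • bitsOf octO = o ∧ σ (ptOf 4) = x := by
  obtain ⟨σ1, hσ1, hσo, _⟩ := oct_to_octO o ho
  obtain ⟨σ, hσ, h1, h2, _⟩ := oct_out_step σ1 hσ1 o hσo x hx
  exact ⟨σ, hσ, h1, h2⟩

theorem oct_flag_inout (o : Finset GolayPt) (ho : o ∈ octads) (p q : GolayPt) (hp : p ∈ o)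
    (hq : q ∉ o) : ∃ σ ∈ M24, σ • bitsOf octO = o ∧ σ (ptOf 0) = p ∧ σ (ptOf 4) = q := by
  obtain ⟨σ2, hσ2, hσo, hσp⟩ := oct_flag_in o ho p hp
  obtain ⟨σ, hσ, h1, h2, h3, _⟩ := oct_out_step σ2 hσ2 o hσo q hq
  exact ⟨σ, hσ, h1, by rw [h3, hσp], h2⟩

end Cfsg.Agent.Lib.Helper9.Leech
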