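import Cfsg.Agent.Lib.Helper9.CfgSub
import Cfsg.Agent.Lib.Helper9.M24Simple

set_option autoImplicit false
open Cfsg

namespace Cfsg.Agent.Lib.Helper9.Leech

open scoped Pointwise
open Cfsg.Agent.S5393 Cfsg.Agent.S5548

def stabSub (S : List (Finset GolayPt)) (P : List GolayPt) : Subgroup (Equiv.Perm GolayPt) where
  carrier := {g | g ∈ M24 ∧ (∀ s ∈ S, g • s = s) ∧ ∀ p ∈ P, g p = p}
  mul_mem' := by
    intro a b ha hb
    refine ⟨Subgroup.mul_mem _ ha.1 hb.1, ?_, ?_⟩
    · intro s hs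
      rw [mul_smul, hb.2.1 s hs, ha.2.1 s hs]
    · intro p hp
      rw [Equiv.Perm.mul_apply, hb.2.2 p hp, ha.2.2 p hp]
  one_mem' := ⟨Subgroup.one_mem _, fun _ _ => one_smul _ _, fun _ _ => rfl⟩
  inv_mem' := by
    intro a ha
    refine ⟨Subgroup.inv_mem _ ha.1, ?_, ?_⟩
    · intro s hs
      rw [inv_smul_eq_iff, ha.2.1 s hs]
    · intro p hp
      exact inv_apply_of_fix a p (ha.2.2 p hp)

theorem mem_stabSub (S : List (Finset GolayPt)) (P : List GolayPt) (g : Equiv.Perm GolayPt) :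
    g ∈ stabSub S P ↔ g ∈ M24 ∧ (∀ s ∈ S, g • s = s) ∧ ∀ p ∈ P, g p = p := Iff.rfl

theorem stabSub_le (S : List (Finset GolayPt)) (P : List GolayPt) : stabSub S P ≤ M24 :=
  fun _ h => h.1

theorem cfgSub_eq_stabSub (ms ps : List ℕ) :
    cfgSub ms ps = stabSub (ms.map bitsOf) (ps.map ptOf) := by
  ext g
  rw [mem_cfgSub, mem_stabSub]
  constructor
  · rintro ⟨h1, h2, h3⟩
    refine ⟨h1, ?_, ?_⟩
    · intro s hs
      rw [List.mem_map] at hs
      obtain ⟨m, hm, rfl⟩ := hs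
      exact h2 m hm
    · intro p hp
      rw [List.mem_map] at hp
      obtain ⟨j, hj, rfl⟩ := hp
      exact h3 j hj
  · rintro ⟨h1, h2, h3⟩
    exact ⟨h1, fun m hm => h2 _ (List.mem_map_of_mem hm), fun j hj => h3 _ (List.mem_map_of_mem hj)⟩

theorem stabSub_conj (σ : Equiv.Perm GolayPt) (hσ : σ ∈ M24) (S : List (Finset GolayPt))
    (P : List GolayPt) (g : Equiv.Perm GolayPt) (hg : g ∈ stabSub S P) :
    σ * g * σ⁻¹ ∈ stabSub (S.map (fun s => σ • s)) (P.map σ) := by
  refine ⟨Subgroup.mul_mem _ (Subgroup.mul_mem _ hσ hg.1) (inv_mem hσ), ?_, ?_⟩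
  · intro s hs
    rw [List.mem_map] at hs
    obtain ⟨s0, hs0, rfl⟩ := hs
    rw [mul_smul, mul_smul, inv_smul_smul, hg.2.1 s0 hs0]
  · intro p hp
    rw [List.mem_map] at hp
    obtain ⟨q, hq, rfl⟩ := hp
    rw [Equiv.Perm.mul_apply, Equiv.Perm.mul_apply]
    have h1 : σ⁻¹ (σ q) = q := by
      change σ.symm (σ q) = q
      rw [Equiv.symm_apply_apply]
    rw [h1, hg.2.2 q hq]

theorem stabSub_conj_back (σ : Equiv.Perm GolayPt) (hσ : σ ∈ M24) (S : List (Finset GolayPt))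
    (P : List GolayPt) (g : Equiv.Perm GolayPt)
    (hg : g ∈ stabSub (S.map (fun s => σ • s)) (P.map σ)) : σ⁻¹ * g * σ ∈ stabSub S P := by
  refine ⟨Subgroup.mul_mem _ (Subgroup.mul_mem _ (inv_mem hσ) hg.1) hσ, ?_, ?_⟩
  · intro s hs
    rw [mul_smul, mul_smul, hg.2.1 _ (List.mem_map_of_mem hs), inv_smul_smul]
  · intro p hp
    rw [Equiv.Perm.mul_apply, Equiv.Perm.mul_apply, hg.2.2 _ (List.mem_map_of_mem hp)]
    change σ.symm (σ p) = p
    rw [Equiv.symm_apply_apply]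

theorem card_stabSub_conj (σ : Equiv.Perm GolayPt) (hσ : σ ∈ M24) (S : List (Finset GolayPt))
    (P : List GolayPt) :
    Nat.card (stabSub (S.map (fun s => σ • s)) (P.map σ)) = Nat.card (stabSub S P) := by
  refine Nat.card_congr ⟨fun x => ⟨σ⁻¹ * x.1 * σ, stabSub_conj_back σ hσ S P x.1 x.2⟩,
    fun y => ⟨σ * y.1 * σ⁻¹, stabSub_conj σ hσ S P y.1 y.2⟩, ?_, ?_⟩
  · intro x
    apply Subtype.ext
    change σ * (σ⁻¹ * x.1 * σ) * σ⁻¹ = x.1
    group
  · intro y
    apply Subtype.ext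
    change σ⁻¹ * (σ * y.1 * σ⁻¹) * σ = y.1
    group

theorem stabSub_congr (S S' : List (Finset GolayPt)) (P P' : List GolayPt)
    (hS : ∀ s, s ∈ S ↔ s ∈ S') (hP : ∀ p, p ∈ P ↔ p ∈ P') : stabSub S P = stabSub S' P' := by
  ext g
  rw [mem_stabSub, mem_stabSub]
  constructor
  · rintro ⟨h1, h2, h3⟩
    exact ⟨h1, fun s hs => h2 s ((hS s).2 hs), fun p hp => h3 p ((hP p).2 hp)⟩
  · rintro ⟨h1, h2, h3⟩
    exact ⟨h1, fun s hs => h2 s ((hS s).1 hs), fun p hp => h3 p ((hP p).1 hp)⟩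

theorem card_stab_mask (s : Finset GolayPt) (F : Set (Finset GolayPt))
    (hF : MulAction.orbit M24 s = F) :
    Nat.card (stabSub [s] []) * F.ncard = 244823040 := by
  have h := Subgroup.card_mul_index (MulAction.stabilizer M24 s)
  rw [MulAction.index_stabilizer, hF, card_M24] at h
  rw [← h]
  congr 1
  symm
  apply card_sub M24 _ _ _ (stabSub_le _ _)
  intro g
  rw [MulAction.mem_stabilizer_iff, mem_stabSub]
  constructor
  · intro h1
    refine ⟨g.2, ?_, fun p hp => absurd hp (by simp)⟩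
    intro t ht
    rw [List.mem_singleton] at ht
    rw [ht]
    exact h1
  · intro h1
    exact h1.2.1 s (List.mem_singleton_self s)

theorem orbit_dodecad (d : Finset GolayPt) (hd : d ∈ dodecads) :
    MulAction.orbit M24 d = dodecads := by
  ext e
  rw [MulAction.mem_orbit_iff]
  constructor
  · rintro ⟨g, rfl⟩
    exact dodecads_smul g.1 g.2 d hd
  · intro he
    exact dodecads_trans d e hd he

theorem orbit_octad (o : Finset GolayPt) (ho : o ∈ octads) :
    MulAction.orbit M24 o = octads := by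
  ext e
  rw [MulAction.mem_orbit_iff]
  constructor
  · rintro ⟨g, rfl⟩
    exact octads_smul g.1 g.2 o ho
  · intro he
    exact octads_trans o e ho he

theorem card_stab_dodecad (d : Finset GolayPt) (hd : d ∈ dodecads) :
    Nat.card (stabSub [d] []) = 95040 := by
  have h := card_stab_mask d dodecads (orbit_dodecad d hd)
  rw [ncard_dodecads] at h
  omega

theorem card_stab_octad (o : Finset GolayPt) (ho : o ∈ octads) :
    Nat.card (stabSub [o] []) = 322560 := by
  have h := card_stab_mask o octads (orbit_octad o ho)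
  rw [ncard_octads] at h
  omega

end Cfsg.Agent.Lib.Helper9.Leech
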