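import Cfsg.Agent.Lib.Helper9.Sym6
import Cfsg.Agent.Lib.Helper9.StabSub
import Cfsg.Agent.Lib.Helper9.Rank2
import Cfsg.Agent.Lib.Helper9.K16Data

set_option autoImplicit false
open Cfsg

namespace Cfsg.Agent.Lib.Helper9.Leech

open scoped Pointwise
open Cfsg.Agent.S5393 Cfsg.Agent.S5548

/-! ### restriction of an octad stabiliser to the octad -/

theorem oct_mem_iff (g : Equiv.Perm GolayPt) (o : Finset GolayPt) :
    (∀ x, g x ∈ o ↔ x ∈ o) ↔ g • o = o := by
  constructor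
  · intro h
    ext x
    have e : g (g⁻¹ x) = x := g.apply_symm_apply x
    have h1 := mem_smul_iff g (g⁻¹ x) o
    have h2 := h (g⁻¹ x)
    rw [e] at h1 h2
    exact h1.trans h2.symm
  · intro h x
    have h2 := mem_smul_iff g x o
    rw [h] at h2
    exact h2

theorem smul_eq_of_ptfix (g : Equiv.Perm GolayPt) (o : Finset GolayPt)
    (h : ∀ p ∈ o, g p = p) : g • o = o := by
  ext x
  rw [Finset.mem_smul_finset]
  constructor
  · rintro ⟨y, hy, rfl⟩
    have : g • y = y := h y hy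
    rw [this]
    exact hy
  · intro hx
    exact ⟨x, hx, h x hx⟩

theorem stab_mem (o : Finset GolayPt) (g : ↥(stabSub [o] [])) (x : GolayPt) :
    (g : Equiv.Perm GolayPt) x ∈ o ↔ x ∈ o :=
  (oct_mem_iff _ o).2 (g.2.2.1 o (List.mem_singleton_self _)) x

def rho (o : Finset GolayPt) : ↥(stabSub [o] []) →* Equiv.Perm ↥o :=
  MonoidHom.mk' (fun g => Equiv.Perm.subtypePerm (g : Equiv.Perm GolayPt) (stab_mem o g))
    (by
      intro a b
      rfl)

theorem rho_eq_one_iff (o : Finset GolayPt) (g : ↥(stabSub [o] [])) :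
    rho o g = 1 ↔ ∀ p ∈ o, (g : Equiv.Perm GolayPt) p = p := by
  constructor
  · intro h p hp
    exact congrArg (fun e : Equiv.Perm ↥o => ((e ⟨p, hp⟩ : ↥o) : GolayPt)) h
  · intro h
    apply Equiv.ext
    intro x
    apply Subtype.ext
    exact h x.1 x.2

theorem ptstab_ncard_conj (σ : Equiv.Perm GolayPt) (hσ : σ ∈ M24) (E : Finset GolayPt) :
    {g | g ∈ M24 ∧ ∀ p ∈ σ • E, g p = p}.ncard = {g | g ∈ M24 ∧ ∀ p ∈ E, g p = p}.ncard := by
  rw [← Nat.card_coe_set_eq, ← Nat.card_coe_set_eq]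
  apply Nat.card_congr
  refine Equiv.subtypeEquiv (MulAut.conj σ⁻¹).toEquiv ?_
  intro g
  change (g ∈ M24 ∧ ∀ p ∈ σ • E, g p = p) ↔
    (σ⁻¹ * g * σ⁻¹⁻¹ ∈ M24 ∧ ∀ p ∈ E, (σ⁻¹ * g * σ⁻¹⁻¹) p = p)
  rw [inv_inv]
  constructor
  · rintro ⟨hg, h⟩
    refine ⟨mul_mem (mul_mem (inv_mem hσ) hg) hσ, ?_⟩
    intro p hp
    rw [Equiv.Perm.mul_apply, Equiv.Perm.mul_apply, h (σ p) (Finset.smul_mem_smul_finset hp)]
    exact σ.symm_apply_apply p
  · rintro ⟨hg, h⟩
    constructor
    · have e : g = σ * (σ⁻¹ * g * σ) * σ⁻¹ := by group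
      rw [e]
      exact mul_mem (mul_mem hσ hg) (inv_mem hσ)
    · intro q hq
      obtain ⟨p, hp, rfl⟩ := Finset.mem_smul_finset.1 hq
      have h1 := h p hp
      rw [Equiv.Perm.mul_apply, Equiv.Perm.mul_apply] at h1
      have h2 := congrArg σ h1
      change σ (σ.symm (g (σ p))) = σ p at h2
      rw [Equiv.apply_symm_apply] at h2
      exact h2

set_option maxRecDepth 100000 in
theorem srchK16 : srch (fun d a y => locM [] d a y && locPt octO d a y)
    (fun t => passM [] t && psPt octO t) srLv 0 idN = 16 := by decide +kernel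

theorem ptstab_octO : {g | g ∈ M24 ∧ ∀ p ∈ bitsOf octO, g p = p}.ncard = 16 := by
  rw [← srchK16, ← stab_pt_count [] (fun m hm => absurd hm (List.not_mem_nil)) octO]
  congr 1
  ext g
  simp

theorem ptstab_card (o : Finset GolayPt) (ho : o ∈ octads) :
    {g | g ∈ M24 ∧ ∀ p ∈ o, g p = p}.ncard = 16 := by
  obtain ⟨σ, hσ, rfl, _⟩ := oct_to_octO o ho
  rw [ptstab_ncard_conj σ hσ]
  exact ptstab_octO

theorem ker_card (o : Finset GolayPt) (ho : o ∈ octads) : Nat.card ↥(rho o).ker = 16 := by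
  rw [← ptstab_card o ho, ← Nat.card_coe_set_eq]
  apply Nat.card_congr
  exact
    { toFun := fun k => ⟨(k.1 : Equiv.Perm GolayPt), k.1.2.1,
        (rho_eq_one_iff o k.1).1 (MonoidHom.mem_ker.1 k.2)⟩
      invFun := fun g => ⟨⟨g.1, g.2.1, fun s hs => by
          rw [List.mem_singleton.1 hs]
          exact smul_eq_of_ptfix g.1 o g.2.2, fun p hp => absurd hp (List.not_mem_nil)⟩,
        MonoidHom.mem_ker.2 ((rho_eq_one_iff o _).2 g.2.2)⟩
      left_inv := fun _ => rfl
      right_inv := fun _ => rfl }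

theorem rho_range_card (o : Finset GolayPt) (ho : o ∈ octads) :
    Nat.card ↥(rho o).range = 20160 := by
  have h1 := Subgroup.card_eq_card_quotient_mul_card_subgroup (rho o).ker
  have h2 : Nat.card (↥(stabSub [o] []) ⧸ (rho o).ker) = Nat.card ↥(rho o).range :=
    Nat.card_congr (QuotientGroup.quotientKerEquivRange (rho o)).toEquiv
  rw [card_stab_octad o ho, h2, ker_card o ho] at h1
  omega

theorem rho_range (o : Finset GolayPt) (ho : o ∈ octads) :
    (rho o).range = alternatingGroup ↥o := by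
  apply Equiv.Perm.eq_alternatingGroup_of_index_eq_two
  have h3 := Subgroup.index_mul_card (rho o).range
  have h5 : Nat.card (Equiv.Perm ↥o) = 40320 := by
    rw [Nat.card_perm, Nat.card_eq_fintype_card, Fintype.card_coe, octad_card o ho]
    rfl
  rw [h5, rho_range_card o ho] at h3
  omega

theorem s1553 (o : Finset GolayPt) (ho : o ∈ octads) :
    {e : Equiv.Perm ↥o | ∃ g : Equiv.Perm GolayPt, g ∈ M24 ∧
      ∃ h : (∀ x, g x ∈ o ↔ x ∈ o), g.subtypePerm h = e} =
      (alternatingGroup ↥o : Set (Equiv.Perm ↥o)) := by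
  rw [← rho_range o ho]
  ext e
  constructor
  · rintro ⟨g, hgM, h, rfl⟩
    refine MonoidHom.mem_range.2 ⟨⟨g, hgM, ?_, fun p hp => absurd hp (List.not_mem_nil)⟩, rfl⟩
    intro s hs
    rw [List.mem_singleton.1 hs]
    exact (oct_mem_iff g o).1 h
  · intro he
    obtain ⟨n, rfl⟩ := MonoidHom.mem_range.1 he
    exact ⟨n.1, n.2.1, stab_mem o n, rfl⟩

end Cfsg.Agent.Lib.Helper9.Leech
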