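import Cfsg.Agent.Lib.Helper9.OctA8

set_option autoImplicit false
open Cfsg

namespace Cfsg.Agent.Lib.Helper9.Leech

open scoped Pointwise
open Cfsg.Agent.S5393 Cfsg.Agent.S5548

set_option maxRecDepth 100000 in
theorem k16S_ok : slpChk k16S k16N = true := by decide +kernel

theorem k16_ok : allBelow (fun y => tb octO y || forceN (ent k16I 16 y) (fun k =>
    Nat.blt k k16N && forceN (nodeTbl k16S k) (fun t => psPt octO t && Nat.beq (fld t 4) y))) 24
    = true := by decide +kernel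

theorem kO_trans (y : ℕ) (hy : y < 24) (hO : tb octO y = false) :
    ∃ k ∈ M24, (∀ q ∈ bitsOf octO, k q = q) ∧ k (ptOf 4) = ptOf y := by
  have h := allBelow_spec _ 24 k16_ok y hy
  rw [hO, Bool.false_or, forceN_eq, Bool.and_eq_true, forceN_eq, Bool.and_eq_true] at h
  obtain ⟨hk, hpt, himg⟩ := h
  obtain ⟨k, hkM, hkt⟩ := slpChk_spec M24 (shift_mem 1) projInv_mem cubeTwist_mem k16S k16N
    k16S_ok _ ((blt_iff _ _).1 hk)
  refine ⟨k, hkM, (ptfix_iff k _ hkt octO).2 hpt, ?_⟩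
  apply idx_inj
  rw [TblP_idx k _ hkt, idx_ptOf 4 (by norm_num), idx_ptOf y hy]
  exact Nat.eq_of_beq_eq_true himg

theorem k_trans (o : Finset GolayPt) (ho : o ∈ octads) (p q : GolayPt) (hp : p ∉ o)
    (hq : q ∉ o) : ∃ k ∈ M24, (∀ x ∈ o, k x = x) ∧ k p = q := by
  obtain ⟨σ, hσ, rfl, rfl⟩ := oct_flag_out o ho p hp
  have e : σ (σ⁻¹ q) = q := σ.apply_symm_apply q
  have hq' : tb octO (idx (σ⁻¹ q)) = false := by
    cases htb : tb octO (idx (σ⁻¹ q)) with
    | false => rfl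
    | true =>
      exfalso
      apply hq
      have h1 := (mem_smul_iff σ (σ⁻¹ q) (bitsOf octO)).2 ((tb_pt octO _).1 htb)
      rw [e] at h1
      exact h1
  obtain ⟨k, hkM, hkpt, hk4⟩ := kO_trans (idx (σ⁻¹ q)) (idx_lt _) hq'
  refine ⟨σ * k * σ⁻¹, conj_mem σ k hσ hkM, ?_, ?_⟩
  · intro x hx
    obtain ⟨x0, hx0, rfl⟩ := Finset.mem_smul_finset.1 hx
    exact conj_apply σ k x0 x0 (hkpt x0 hx0)
  · rw [conj_apply σ k (ptOf 4) (ptOf (idx (σ⁻¹ q))) hk4, ptOf_idx]
    exact e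

theorem oct_decomp (o : Finset GolayPt) (ho : o ∈ octads) (p : GolayPt) (hp : p ∉ o)
    (n : Equiv.Perm GolayPt) (hn : n ∈ M24) (hno : n • o = o) :
    ∃ k m : Equiv.Perm GolayPt, (k ∈ M24 ∧ ∀ x ∈ o, k x = x) ∧
      (m ∈ M24 ∧ m • o = o ∧ m p = p) ∧ n = k * m := by
  have hq : n p ∉ o := fun h => hp (((oct_mem_iff n o).2 hno p).1 h)
  obtain ⟨k, hkM, hkpt, hkp⟩ := k_trans o ho p (n p) hp hq
  refine ⟨k, k⁻¹ * n, ⟨hkM, hkpt⟩, ⟨mul_mem (inv_mem hkM) hn, ?_, ?_⟩, by group⟩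
  · rw [mul_smul, hno, inv_smul_eq_iff, smul_eq_of_ptfix k o hkpt]
  · rw [Equiv.Perm.mul_apply, ← hkp]
    exact k.symm_apply_apply p

theorem base_in : ∀ j ∈ baseL, j < 24 ∧ (j = 4 ∨ tb octO j = true) := by decide +kernel

theorem oct_pt_trivial (o : Finset GolayPt) (ho : o ∈ octads) (p : GolayPt) (hp : p ∉ o)
    (g : Equiv.Perm GolayPt) (hg : g ∈ M24) (hpt : ∀ q ∈ o, g q = q) (hgp : g p = p) :
    g = 1 := by
  obtain ⟨σ, hσ, rfl, rfl⟩ := oct_flag_out o ho p hp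
  have hg' : σ⁻¹ * g * σ ∈ fixSub baseL := by
    rw [mem_fixSub]
    refine ⟨mul_mem (mul_mem (inv_mem hσ) hg) hσ, ?_⟩
    intro j hj
    rw [Equiv.Perm.mul_apply, Equiv.Perm.mul_apply]
    obtain ⟨hj24, hj'⟩ := base_in j hj
    have e : g (σ (ptOf j)) = σ (ptOf j) := by
      rcases hj' with rfl | h
      · exact hgp
      · exact hpt _ (Finset.smul_mem_smul_finset ((mem_bits_tb octO j hj24).2 h))
    rw [e]
    exact σ.symm_apply_apply _
  rw [fixSub_base, Subgroup.mem_bot] at hg'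
  have e : g = σ * (σ⁻¹ * g * σ) * σ⁻¹ := by group
  rw [e, hg']
  group

theorem memK (o : Finset GolayPt) (g : Equiv.Perm GolayPt) :
    g ∈ M24 ⊓ fixingSubgroup (Equiv.Perm GolayPt) (o : Set GolayPt) ↔
      g ∈ M24 ∧ ∀ q ∈ o, g q = q := by
  constructor
  · intro h
    have h1 := Subgroup.mem_inf.1 h
    refine ⟨h1.1, fun q hq => ?_⟩
    exact (mem_fixingSubgroup_iff (Equiv.Perm GolayPt)).1 h1.2 q (Finset.mem_coe.2 hq)
  · rintro ⟨h1, h2⟩
    refine Subgroup.mem_inf.2 ⟨h1, (mem_fixingSubgroup_iff (Equiv.Perm GolayPt)).2 ?_⟩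
    intro q hq
    exact h2 q (Finset.mem_coe.1 hq)

theorem memN (o : Finset GolayPt) (g : Equiv.Perm GolayPt) :
    g ∈ M24 ⊓ MulAction.stabilizer (Equiv.Perm GolayPt) o ↔ g ∈ M24 ∧ g • o = o := by
  constructor
  · intro h
    have h1 := Subgroup.mem_inf.1 h
    exact ⟨h1.1, MulAction.mem_stabilizer_iff.1 h1.2⟩
  · rintro ⟨h1, h2⟩
    exact Subgroup.mem_inf.2 ⟨h1, MulAction.mem_stabilizer_iff.2 h2⟩

theorem memNp (o : Finset GolayPt) (p : GolayPt) (g : Equiv.Perm GolayPt) :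
    g ∈ M24 ⊓ MulAction.stabilizer (Equiv.Perm GolayPt) o ⊓
      MulAction.stabilizer (Equiv.Perm GolayPt) p ↔ g ∈ M24 ∧ g • o = o ∧ g p = p := by
  constructor
  · intro h
    have h1 := Subgroup.mem_inf.1 h
    have h2 := (memN o g).1 h1.1
    exact ⟨h2.1, h2.2, MulAction.mem_stabilizer_iff.1 h1.2⟩
  · rintro ⟨h1, h2, h3⟩
    exact Subgroup.mem_inf.2 ⟨(memN o g).2 ⟨h1, h2⟩, MulAction.mem_stabilizer_iff.2 h3⟩

theorem np_le (o : Finset GolayPt) (p : GolayPt) :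
    M24 ⊓ MulAction.stabilizer (Equiv.Perm GolayPt) o ⊓
      MulAction.stabilizer (Equiv.Perm GolayPt) p ≤ stabSub [o] [] := by
  intro g hg
  have h := (memNp o p g).1 hg
  refine ⟨h.1, ?_, fun q hq => absurd hq (List.not_mem_nil)⟩
  intro s hs
  rw [List.mem_singleton.1 hs]
  exact h.2.1

theorem s1554 (o : Finset GolayPt) (ho : o ∈ octads) (p : GolayPt) (hp : p ∉ o) :
    (M24 ⊓ fixingSubgroup (Equiv.Perm GolayPt) (o : Set GolayPt)) ⊓
      (M24 ⊓ MulAction.stabilizer (Equiv.Perm GolayPt) o ⊓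
        MulAction.stabilizer (Equiv.Perm GolayPt) p) = ⊥ ∧
    (M24 ⊓ fixingSubgroup (Equiv.Perm GolayPt) (o : Set GolayPt)) ⊔
      (M24 ⊓ MulAction.stabilizer (Equiv.Perm GolayPt) o ⊓
        MulAction.stabilizer (Equiv.Perm GolayPt) p) =
      (M24 ⊓ MulAction.stabilizer (Equiv.Perm GolayPt) o) ∧
    Nonempty (↥(M24 ⊓ MulAction.stabilizer (Equiv.Perm GolayPt) o ⊓
      MulAction.stabilizer (Equiv.Perm GolayPt) p) ≃* alternatingGroup (Fin 8)) := by
  refine ⟨?_, ?_, ?_⟩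
  · rw [eq_bot_iff]
    intro g hg
    rw [Subgroup.mem_bot]
    have h1 := (memK o g).1 (Subgroup.mem_inf.1 hg).1
    have h2 := (memNp o p g).1 (Subgroup.mem_inf.1 hg).2
    exact oct_pt_trivial o ho p hp g h1.1 h1.2 h2.2.2
  · apply le_antisymm
    · apply sup_le
      · intro g hg
        have h1 := (memK o g).1 hg
        exact (memN o g).2 ⟨h1.1, smul_eq_of_ptfix g o h1.2⟩
      · exact inf_le_left
    · intro n hn
      have h1 := (memN o n).1 hn
      obtain ⟨k, m, hk, hm, rfl⟩ := oct_decomp o ho p hp n h1.1 h1.2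
      exact Subgroup.mul_mem_sup ((memK o k).2 hk) ((memNp o p m).2 hm)
  · have hmem : ∀ g : ↥(M24 ⊓ MulAction.stabilizer (Equiv.Perm GolayPt) o ⊓
        MulAction.stabilizer (Equiv.Perm GolayPt) p),
        ((rho o).comp (Subgroup.inclusion (np_le o p))) g ∈ alternatingGroup ↥o := by
      intro g
      rw [← rho_range o ho]
      exact MonoidHom.mem_range.2 ⟨_, rfl⟩
    have hinj : Function.Injective
        (((rho o).comp (Subgroup.inclusion (np_le o p))).codRestrict (alternatingGroup ↥o) hmem) := by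
      rw [injective_iff_map_eq_one]
      intro g hg
      have h1 : rho o (Subgroup.inclusion (np_le o p) g) = 1 := congrArg Subtype.val hg
      have h2 := (rho_eq_one_iff o _).1 h1
      have h3 := (memNp o p g.1).1 g.2
      exact Subtype.ext (oct_pt_trivial o ho p hp g.1 h3.1 h2 h3.2.2)
    have hsurj : Function.Surjective
        (((rho o).comp (Subgroup.inclusion (np_le o p))).codRestrict (alternatingGroup ↥o) hmem) := by
      intro e
      have he : (e : Equiv.Perm ↥o) ∈ (rho o).range := by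
        rw [rho_range o ho]
        exact e.2
      obtain ⟨n, hn⟩ := MonoidHom.mem_range.1 he
      obtain ⟨k, m, hk, hm, hnkm⟩ := oct_decomp o ho p hp n.1 n.2.1
        (n.2.2.1 o (List.mem_singleton_self _))
      refine ⟨⟨m, (memNp o p m).2 hm⟩, ?_⟩
      apply Subtype.ext
      rw [← hn]
      apply Equiv.ext
      intro x
      apply Subtype.ext
      change m (x : GolayPt) = (n : Equiv.Perm GolayPt) (x : GolayPt)
      rw [hnkm, Equiv.Perm.mul_apply, hk.2 _ (((oct_mem_iff m o).2 hm.2.1 x.1).2 x.2)]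
    have e2 : ↥o ≃ Fin 8 := Fintype.equivFinOfCardEq (by rw [Fintype.card_coe, octad_card o ho])
    exact ⟨(MulEquiv.ofBijective _ ⟨hinj, hsurj⟩).trans (Equiv.altCongrHom e2)⟩

end Cfsg.Agent.Lib.Helper9.Leech
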