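import Cfsg.Agent.Lib.Helper9.RankA
import Cfsg.Agent.Lib.Helper9.M24Oct
import Cfsg.Agent.Lib.Helper9.KSub

set_option autoImplicit false
open Cfsg

namespace Cfsg.Agent.Lib.Helper9.Leech

open scoped Pointwise

/-! ### pairs of octads -/

theorem pair_to_base (o o' : Finset GolayPt) (ho : o ∈ octads) (ho' : o' ∈ octads) (m : ℕ)
    (hm : m ∈ octL) (h : (o ∩ o').card = popc (octO &&& m)) :
    ∃ ρ ∈ M24, ρ • bitsOf octO = o ∧ ρ • bitsOf m = o' := by
  obtain ⟨σ, hσ, hσo, _⟩ := oct_to_octO o ho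
  have hM : σ • bitsOf m ∈ octads := octads_smul σ hσ _ ((mem_octads _).2 ⟨m, hm, rfl⟩)
  have hc : (o ∩ σ • bitsOf m).card = (o ∩ o').card := by
    rw [h, ← hσo, card_inter_smul, card_inter_bits]
  obtain ⟨g, hg, hgo, hgm⟩ := oct_orbits' o (σ • bitsOf m) o' ho hM ho' hc
  refine ⟨g * σ, mul_mem hg hσ, ?_, ?_⟩
  · rw [mul_smul, hσo, hgo]
  · rw [mul_smul, hgm]

set_option maxRecDepth 100000 in
theorem octO_inter_chk : octL.all (fun m => Nat.beq (popc (octO &&& m)) 0 ||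
    Nat.beq (popc (octO &&& m)) 2 || Nat.beq (popc (octO &&& m)) 4 || Nat.beq m octO) = true := by
  decide +kernel

theorem oct_inter_cases (o o' : Finset GolayPt) (ho : o ∈ octads) (ho' : o' ∈ octads) :
    (o ∩ o').card = 0 ∨ (o ∩ o').card = 2 ∨ (o ∩ o').card = 4 ∨ o = o' := by
  obtain ⟨σ, hσ, hσo, _⟩ := oct_to_octO o ho
  obtain ⟨m, hm, hb⟩ := oct_pull σ hσ o' ho'
  have h1 := List.all_eq_true.1 octO_inter_chk m hm
  simp only [Bool.or_eq_true, beq_iff] at h1
  have h2 := pull_inter σ octO m o' hb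
  rw [hσo] at h2
  rcases h1 with ((h1 | h1) | h1) | h1
  · left
    rw [← h2, h1]
  · right
    left
    rw [← h2, h1]
  · right
    right
    left
    rw [← h2, h1]
  · right
    right
    right
    rw [h1] at hb
    rw [← hσo, hb, smul_inv_smul]

theorem disj_smul_iff (ρ : Equiv.Perm GolayPt) (a b : Finset GolayPt) :
    Disjoint (ρ • a) (ρ • b) ↔ Disjoint a b := by
  rw [Finset.disjoint_iff_inter_eq_empty, Finset.disjoint_iff_inter_eq_empty,
    ← Finset.smul_finset_inter, Finset.smul_finset_eq_empty]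

theorem og_mem : [5279, 4038912, 15777, 337856, 6832158].all (fun m => memL m octL) = true := by
  decide +kernel

theorem og_in (m : ℕ) (h : m ∈ [5279, 4038912, 15777, 337856, 6832158]) : m ∈ octL :=
  memL_mem _ _ (List.all_eq_true.1 og_mem m h)

theorem og_vals : popc (octO &&& 5279) = 4 ∧ octO &&& 4038912 = 0 ∧ 4038912 &&& 5279 = 0 ∧
    popc (octO &&& 15777) = 2 ∧ octO &&& 337856 = 0 ∧ 337856 &&& 6832158 = 0 ∧
    6832158 &&& 15777 = 0 := by decide +kernel

set_option maxRecDepth 100000 in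
theorem og_no : octL.all (fun x => !(Nat.beq (octO &&& x) 0 && Nat.beq (x &&& 15777) 0)) = true := by
  decide +kernel

theorem og_oct (m : ℕ) (h : m ∈ [5279, 4038912, 15777, 337856, 6832158]) (ρ : Equiv.Perm GolayPt)
    (hρ : ρ ∈ M24) : ρ • bitsOf m ∈ octads :=
  octads_smul ρ hρ _ ((mem_octads _).2 ⟨m, og_in m h, rfl⟩)

theorem common4 (o o' : Finset GolayPt) (ho : o ∈ octads) (ho' : o' ∈ octads)
    (h : (o ∩ o').card = 4) : ∃ x ∈ octads, Disjoint o x ∧ Disjoint x o' := by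
  obtain ⟨ρ, hρ, rfl, rfl⟩ := pair_to_base o o' ho ho' 5279 (og_in _ (by simp))
    (by rw [h, og_vals.1])
  exact ⟨ρ • bitsOf 4038912, og_oct _ (by simp) ρ hρ,
    (disj_smul_iff ρ _ _).2 (disj_of_land_eq_zero _ _ og_vals.2.1),
    (disj_smul_iff ρ _ _).2 (disj_of_land_eq_zero _ _ og_vals.2.2.1)⟩

theorem path2 (o o' : Finset GolayPt) (ho : o ∈ octads) (ho' : o' ∈ octads)
    (h : (o ∩ o').card = 2) :
    ∃ x ∈ octads, ∃ y ∈ octads, Disjoint o x ∧ Disjoint x y ∧ Disjoint y o' := by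
  obtain ⟨ρ, hρ, rfl, rfl⟩ := pair_to_base o o' ho ho' 15777 (og_in _ (by simp))
    (by rw [h, og_vals.2.2.2.1])
  exact ⟨ρ • bitsOf 337856, og_oct _ (by simp) ρ hρ, ρ • bitsOf 6832158, og_oct _ (by simp) ρ hρ,
    (disj_smul_iff ρ _ _).2 (disj_of_land_eq_zero _ _ og_vals.2.2.2.2.1),
    (disj_smul_iff ρ _ _).2 (disj_of_land_eq_zero _ _ og_vals.2.2.2.2.2.1),
    (disj_smul_iff ρ _ _).2 (disj_of_land_eq_zero _ _ og_vals.2.2.2.2.2.2)⟩

theorem no_common2 (o o' : Finset GolayPt) (ho : o ∈ octads) (ho' : o' ∈ octads)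
    (h : (o ∩ o').card = 2) : ¬ ∃ x ∈ octads, Disjoint o x ∧ Disjoint x o' := by
  obtain ⟨ρ, hρ, rfl, rfl⟩ := pair_to_base o o' ho ho' 15777 (og_in _ (by simp))
    (by rw [h, og_vals.2.2.2.1])
  rintro ⟨x, hx, h1, h2⟩
  obtain ⟨n, hn, hb⟩ := oct_pull ρ hρ x hx
  have hx' : x = ρ • bitsOf n := by rw [hb, smul_inv_smul]
  subst hx'
  rw [disj_smul_iff] at h1 h2
  have e1 := land_eq_zero_of_disj octO n (by decide) h1
  have e2 := land_eq_zero_of_disj n 15777 (octL_lt n hn) h2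
  have h3 := List.all_eq_true.1 og_no n hn
  rw [e1, e2] at h3
  exact absurd h3 (by decide)

/-! ### the graph -/

theorem bg_adj (a b : ↥octads) : (blockGraph octads).Adj a b ↔
    a ≠ b ∧ Disjoint (a : Finset GolayPt) (b : Finset GolayPt) := by
  unfold blockGraph
  rw [SimpleGraph.fromRel_adj]
  constructor
  · rintro ⟨hne, h | h⟩
    · exact ⟨hne, h⟩
    · exact ⟨hne, h.symm⟩
  · rintro ⟨hne, h⟩
    exact ⟨hne, Or.inl h⟩

theorem adj_of_disj (a b : ↥octads) (h : Disjoint (a : Finset GolayPt) (b : Finset GolayPt)) :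
    (blockGraph octads).Adj a b := by
  rw [bg_adj]
  refine ⟨?_, h⟩
  rintro rfl
  have h1 := (Finset.disjoint_self_iff_empty _).1 h
  have hc := octad_card a.1 a.2
  rw [h1] at hc
  simp at hc

theorem walk2 {V : Type*} (G : SimpleGraph V) {u v : V} (p : G.Walk u v) (hp : p.length = 2) :
    ∃ w, G.Adj u w ∧ G.Adj w v := by
  cases p with
  | nil => simp at hp
  | cons h q =>
    cases q with
    | nil => simp at hp
    | cons h' r =>
      cases r with
      | nil => exact ⟨_, h, h'⟩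
      | cons _ _ =>
        rw [SimpleGraph.Walk.length_cons, SimpleGraph.Walk.length_cons,
          SimpleGraph.Walk.length_cons] at hp
        omega

theorem ne_of_card (u v : ↥octads) (k : ℕ) (hk : k ≠ 8)
    (h : ((u : Finset GolayPt) ∩ (v : Finset GolayPt)).card = k) : u ≠ v := by
  rintro rfl
  rw [Finset.inter_self, octad_card u.1 u.2] at h
  exact hk h.symm

theorem not_adj_of_card (u v : ↥octads) (k : ℕ) (hk : k ≠ 0)
    (h : ((u : Finset GolayPt) ∩ (v : Finset GolayPt)).card = k) :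
    ¬ (blockGraph octads).Adj u v := by
  rw [bg_adj]
  rintro ⟨_, hd⟩
  rw [Finset.disjoint_iff_inter_eq_empty] at hd
  rw [hd] at h
  exact hk h.symm

theorem dist_of_0 (u v : ↥octads)
    (h : ((u : Finset GolayPt) ∩ (v : Finset GolayPt)).card = 0) :
    (blockGraph octads).dist u v = 1 := by
  rw [SimpleGraph.dist_eq_one_iff_adj]
  apply adj_of_disj
  rw [Finset.disjoint_iff_inter_eq_empty, ← Finset.card_eq_zero]
  exact h

theorem dist_of_4 (u v : ↥octads)
    (h : ((u : Finset GolayPt) ∩ (v : Finset GolayPt)).card = 4) :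
    (blockGraph octads).Reachable u v ∧ (blockGraph octads).dist u v = 2 := by
  obtain ⟨x, hx, h1, h2⟩ := common4 u.1 v.1 u.2 v.2 h
  have a1 := adj_of_disj u ⟨x, hx⟩ h1
  have a2 := adj_of_disj ⟨x, hx⟩ v h2
  have hle := SimpleGraph.dist_le (SimpleGraph.Walk.cons a1 (SimpleGraph.Walk.cons a2
    SimpleGraph.Walk.nil))
  rw [SimpleGraph.Walk.length_cons, SimpleGraph.Walk.length_cons,
    SimpleGraph.Walk.length_nil] at hle
  have hreach : (blockGraph octads).Reachable u v :=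
    ⟨SimpleGraph.Walk.cons a1 (SimpleGraph.Walk.cons a2 SimpleGraph.Walk.nil)⟩
  have h0 : (blockGraph octads).dist u v ≠ 0 := by
    rw [Ne, hreach.dist_eq_zero_iff]
    exact ne_of_card u v 4 (by norm_num) h
  have h1' : (blockGraph octads).dist u v ≠ 1 := by
    rw [Ne, SimpleGraph.dist_eq_one_iff_adj]
    exact not_adj_of_card u v 4 (by norm_num) h
  exact ⟨hreach, by omega⟩

theorem dist_of_2 (u v : ↥octads)
    (h : ((u : Finset GolayPt) ∩ (v : Finset GolayPt)).card = 2) :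
    (blockGraph octads).Reachable u v ∧ (blockGraph octads).dist u v = 3 := by
  obtain ⟨x, hx, y, hy, h1, h2, h3⟩ := path2 u.1 v.1 u.2 v.2 h
  have a1 := adj_of_disj u ⟨x, hx⟩ h1
  have a2 := adj_of_disj ⟨x, hx⟩ ⟨y, hy⟩ h2
  have a3 := adj_of_disj ⟨y, hy⟩ v h3
  have hle := SimpleGraph.dist_le (SimpleGraph.Walk.cons a1 (SimpleGraph.Walk.cons a2
    (SimpleGraph.Walk.cons a3 SimpleGraph.Walk.nil)))
  rw [SimpleGraph.Walk.length_cons, SimpleGraph.Walk.length_cons, SimpleGraph.Walk.length_cons,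
    SimpleGraph.Walk.length_nil] at hle
  have hreach : (blockGraph octads).Reachable u v :=
    ⟨SimpleGraph.Walk.cons a1 (SimpleGraph.Walk.cons a2
      (SimpleGraph.Walk.cons a3 SimpleGraph.Walk.nil))⟩
  have h0 : (blockGraph octads).dist u v ≠ 0 := by
    rw [Ne, hreach.dist_eq_zero_iff]
    exact ne_of_card u v 2 (by norm_num) h
  have h1' : (blockGraph octads).dist u v ≠ 1 := by
    rw [Ne, SimpleGraph.dist_eq_one_iff_adj]
    exact not_adj_of_card u v 2 (by norm_num) h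
  have h2' : (blockGraph octads).dist u v ≠ 2 := by
    intro hd
    obtain ⟨p, hp⟩ := hreach.exists_walk_length_eq_dist
    rw [hd] at hp
    obtain ⟨w, haw, hwv⟩ := walk2 _ p hp
    exact no_common2 u.1 v.1 u.2 v.2 h
      ⟨w.1, w.2, ((bg_adj _ _).1 haw).2, ((bg_adj _ _).1 hwv).2⟩
  exact ⟨hreach, by omega⟩

theorem og_connected : (blockGraph octads).Connected := by
  have : Nonempty ↥octads := ⟨⟨_, octO_octad⟩⟩
  refine ⟨?_⟩
  intro u v
  rcases oct_inter_cases u.1 v.1 u.2 v.2 with h | h | h | h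
  · exact SimpleGraph.Adj.reachable ((SimpleGraph.dist_eq_one_iff_adj).1 (dist_of_0 u v h))
  · exact (dist_of_2 u v h).1
  · exact (dist_of_4 u v h).1
  · have : u = v := Subtype.ext h
    rw [this]

theorem s5609 (o o' : Finset GolayPt) (ho : o ∈ octads) (ho' : o' ∈ octads) (hne : o ≠ o') :
    (blockGraph octads).Connected ∧
    ((blockGraph octads).dist ⟨o, ho⟩ ⟨o', ho'⟩ = 1 ↔ (o ∩ o').card = 0) ∧
    ((blockGraph octads).dist ⟨o, ho⟩ ⟨o', ho'⟩ = 2 ↔ (o ∩ o').card = 4) ∧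
    ((blockGraph octads).dist ⟨o, ho⟩ ⟨o', ho'⟩ = 3 ↔ (o ∩ o').card = 2) := by
  refine ⟨og_connected, ?_⟩
  rcases oct_inter_cases o o' ho ho' with h | h | h | h
  · have hd := dist_of_0 ⟨o, ho⟩ ⟨o', ho'⟩ h
    rw [hd, h]
    decide
  · have hd := (dist_of_2 ⟨o, ho⟩ ⟨o', ho'⟩ h).2
    rw [hd, h]
    decide
  · have hd := (dist_of_4 ⟨o, ho⟩ ⟨o', ho'⟩ h).2
    rw [hd, h]
    decide
  · exact absurd h hne

end Cfsg.Agent.Lib.Helper9.Leech
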