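import Cfsg.Agent.Lib.Helper9.StabSub

set_option autoImplicit false
open Cfsg

namespace Cfsg.Agent.Lib.Helper9.Leech

open scoped Pointwise
open Cfsg.Agent.S5393 Cfsg.Agent.S5548

theorem simple_of_core {α : Type*} (K : Subgroup (Equiv.Perm α)) (hnt : ∃ g ∈ K, g ≠ 1)
    (hcore : ∀ N : Subgroup (Equiv.Perm α), N ≤ K → (∀ g ∈ K, ∀ n ∈ N, g * n * g⁻¹ ∈ N) →
      N ≠ ⊥ → N = K) : IsSimpleGroup K := by
  have : Nontrivial K := by
    obtain ⟨g, hg, hg1⟩ := hnt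
    refine ⟨⟨⟨g, hg⟩, 1, ?_⟩⟩
    intro h
    exact hg1 (congrArg Subtype.val h)
  refine ⟨fun N' hN' => ?_⟩
  by_cases hbot : N' = ⊥
  · exact Or.inl hbot
  · right
    have hle : N'.map K.subtype ≤ K := by
      rintro x ⟨y, _, rfl⟩
      exact y.2
    have hconj : ∀ g ∈ K, ∀ n ∈ N'.map K.subtype, g * n * g⁻¹ ∈ N'.map K.subtype := by
      rintro g hg n ⟨y, hy, rfl⟩
      exact ⟨⟨g, hg⟩ * y * ⟨g, hg⟩⁻¹, hN'.conj_mem y hy ⟨g, hg⟩, rfl⟩
    have hne : N'.map K.subtype ≠ ⊥ := by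
      intro h
      apply hbot
      rw [Subgroup.eq_bot_iff_forall]
      intro x hx
      have h1 : (x : Equiv.Perm α) ∈ N'.map K.subtype := ⟨x, hx, rfl⟩
      rw [h, Subgroup.mem_bot] at h1
      exact Subtype.ext h1
    have key := hcore _ hle hconj hne
    rw [Subgroup.eq_top_iff']
    intro x
    have h1 : (x : Equiv.Perm α) ∈ N'.map K.subtype := by
      rw [key]
      exact x.2
    obtain ⟨y, hy, hyx⟩ := h1
    have : y = x := Subtype.ext hyx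
    rw [← this]
    exact hy

theorem sylow_step {α : Type*} [Finite α] (K N : Subgroup (Equiv.Perm α)) (hle : N ≤ K)
    (hconj : ∀ g ∈ K, ∀ n ∈ N, g * n * g⁻¹ ∈ N) (l : ℕ) [Fact l.Prime]
    (hdiv : l ∣ Nat.card N) (hsq : ¬ l ^ 2 ∣ Nat.card K) (s : Equiv.Perm α) (hsK : s ∈ K)
    (hs1 : s ≠ 1) (hsl : s ^ l = 1) : s ∈ N := by
  have : (N.subgroupOf K).Normal := by
    refine ⟨fun n hn g => ?_⟩
    rw [Subgroup.mem_subgroupOf] at hn ⊢
    exact hconj g.1 g.2 n.1 hn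
  have hcard : Nat.card (N.subgroupOf K) = Nat.card N :=
    Nat.card_congr (Subgroup.subgroupOfEquivOfLe hle).toEquiv
  have hs : orderOf (⟨s, hsK⟩ : K) = l := by
    apply orderOf_eq_prime
    · apply Subtype.ext
      exact hsl
    · intro h
      exact hs1 (congrArg Subtype.val h)
  have hmem := sylow_mem l (N.subgroupOf K) (by rw [hcard]; exact hdiv) hsq (⟨s, hsK⟩ : K) hs
  rw [Subgroup.mem_subgroupOf] at hmem
  exact hmem

theorem exists_ne_one_of_ne_bot {G : Type*} [Group G] (N : Subgroup G) (h : N ≠ ⊥) :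
    ∃ n ∈ N, n ≠ 1 := by
  by_contra hcon
  apply h
  rw [Subgroup.eq_bot_iff_forall]
  intro x hx
  by_contra hx1
  exact hcon ⟨x, hx, hx1⟩

section Trans

variable (K N : Subgroup (Equiv.Perm GolayPt)) (D : Set GolayPt)

theorem ps_trans (hinv : ∀ g ∈ K, ∀ p ∈ D, g p ∈ D)
    (hfaith : ∀ g ∈ K, (∀ p ∈ D, g p = p) → g = 1)
    (ht2 : ∀ p ∈ D, ∀ q ∈ D, p ≠ q → ∀ p' ∈ D, ∀ q' ∈ D, p' ≠ q' →
      ∃ g ∈ K, g p = p' ∧ g q = q')
    (hle : N ≤ K) (hconj : ∀ g ∈ K, ∀ n ∈ N, g * n * g⁻¹ ∈ N) (hne : N ≠ ⊥)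
    (a : GolayPt) (ha : a ∈ D) (b : GolayPt) (hb : b ∈ D) : ∃ n ∈ N, n a = b := by
  by_cases hab : a = b
  · exact ⟨1, Subgroup.one_mem _, hab⟩
  · obtain ⟨n, hn, hn1⟩ := exists_ne_one_of_ne_bot N hne
    obtain ⟨p, hpD, hp⟩ : ∃ p ∈ D, n p ≠ p := by
      by_contra hcon
      apply hn1
      apply hfaith n (hle hn)
      intro p hpD
      by_contra hp
      exact hcon ⟨p, hpD, hp⟩
    obtain ⟨g, hg, hga, hgb⟩ := ht2 p hpD (n p) (hinv n (hle hn) p hpD) (Ne.symm hp) a ha b hb hab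
    refine ⟨g * n * g⁻¹, hconj g hg n hn, ?_⟩
    rw [Equiv.Perm.mul_apply, Equiv.Perm.mul_apply, ← hga]
    have : g⁻¹ (g p) = p := by
      change g.symm (g p) = p
      rw [Equiv.symm_apply_apply]
    rw [this, hgb]

theorem ps_orbit (hinv : ∀ g ∈ K, ∀ p ∈ D, g p ∈ D) (hle : N ≤ K)
    (htr : ∀ a ∈ D, ∀ b ∈ D, ∃ n ∈ N, n a = b) (a : GolayPt) (ha : a ∈ D) :
    MulAction.orbit N a = D := by
  ext q
  rw [MulAction.mem_orbit_iff]
  constructor
  · rintro ⟨n, rfl⟩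
    exact hinv n.1 (hle n.2) a ha
  · intro hq
    obtain ⟨n, hn, hnq⟩ := htr a ha q hq
    exact ⟨⟨n, hn⟩, hnq⟩

theorem ps_dvdA (hinv : ∀ g ∈ K, ∀ p ∈ D, g p ∈ D)
    (hfaith : ∀ g ∈ K, (∀ p ∈ D, g p = p) → g = 1)
    (ht2 : ∀ p ∈ D, ∀ q ∈ D, p ≠ q → ∀ p' ∈ D, ∀ q' ∈ D, p' ≠ q' →
      ∃ g ∈ K, g p = p' ∧ g q = q')
    (hle : N ≤ K) (hconj : ∀ g ∈ K, ∀ n ∈ N, g * n * g⁻¹ ∈ N) (hne : N ≠ ⊥)
    (a : GolayPt) (ha : a ∈ D) : D.ncard ∣ Nat.card N := by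
  have htr := ps_trans K N D hinv hfaith ht2 hle hconj hne
  rw [card_orbit_step N a, ps_orbit K N D hinv hle htr a ha]
  exact Dvd.intro _ rfl

theorem ps_dvdB (hinv : ∀ g ∈ K, ∀ p ∈ D, g p ∈ D)
    (hfaith : ∀ g ∈ K, (∀ p ∈ D, g p = p) → g = 1)
    (ht3 : ∀ p ∈ D, ∀ q ∈ D, ∀ r ∈ D, p ≠ q → p ≠ r → q ≠ r →
      ∀ p' ∈ D, ∀ q' ∈ D, ∀ r' ∈ D, p' ≠ q' → p' ≠ r' → q' ≠ r' →
      ∃ g ∈ K, g p = p' ∧ g q = q' ∧ g r = r')
    (hD2 : 2 ∣ D.ncard) (hD3 : 3 ∣ D.ncard) (h3 : 3 ≤ D.ncard)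
    (hle : N ≤ K) (hconj : ∀ g ∈ K, ∀ n ∈ N, g * n * g⁻¹ ∈ N) (hne : N ≠ ⊥)
    (a : GolayPt) (ha : a ∈ D) : (D.ncard - 1) ∣ Nat.card N := by
  have hthird : ∀ p ∈ D, ∀ q ∈ D, ∃ r ∈ D, p ≠ r ∧ q ≠ r := by
    intro p hp q hq
    by_contra hcon
    have hsub : D ⊆ ({p, q} : Set GolayPt) := by
      intro r hr
      by_contra hr2
      apply hcon
      refine ⟨r, hr, ?_, ?_⟩
      · rintro rfl
        exact hr2 (Set.mem_insert _ _)
      · rintro rfl
        exact hr2 (Set.mem_insert_of_mem _ rfl)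
    have h1 := Set.ncard_le_ncard hsub (Set.toFinite _)
    have h2 : ({p, q} : Set GolayPt).ncard ≤ 2 := Set.ncard_insert_le _ _ |>.trans (by
      rw [Set.ncard_singleton])
    omega
  have ht2 : ∀ p ∈ D, ∀ q ∈ D, p ≠ q → ∀ p' ∈ D, ∀ q' ∈ D, p' ≠ q' →
      ∃ g ∈ K, g p = p' ∧ g q = q' := by
    intro p hp q hq hpq p' hp' q' hq' hpq'
    obtain ⟨r, hr, hpr, hqr⟩ := hthird p hp q hq
    obtain ⟨r', hr', hpr', hqr'⟩ := hthird p' hp' q' hq'
    obtain ⟨g, hg, h1, h2, _⟩ := ht3 p hp q hq r hr hpq hpr hqr p' hp' q' hq' r' hr' hpq' hpr' hqr'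
    exact ⟨g, hg, h1, h2⟩
  have htr := ps_trans K N D hinv hfaith ht2 hle hconj hne
  have hcard : Nat.card N = D.ncard *
      Nat.card ↥(N ⊓ MulAction.stabilizer (Equiv.Perm GolayPt) a) := by
    rw [card_orbit_step N a, ps_orbit K N D hinv hle htr a ha]
  have hK : N ⊓ MulAction.stabilizer (Equiv.Perm GolayPt) a ≠ ⊥ := by
    intro hK
    rw [hK, Subgroup.card_bot, mul_one] at hcard
    have hfin : Finite N := Finite.of_injective (fun x : N => (x : Equiv.Perm GolayPt))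
      Subtype.val_injective
    obtain ⟨x, hx⟩ := exists_prime_orderOf_dvd_card' (G := N) 2 (by rw [hcard]; exact hD2)
    obtain ⟨y, hy⟩ := exists_prime_orderOf_dvd_card' (G := N) 3 (by rw [hcard]; exact hD3)
    have hmove : ∀ z : N, z ≠ 1 → (z : Equiv.Perm GolayPt) a ≠ a := by
      intro z hz hza
      have h1 : (z : Equiv.Perm GolayPt) ∈ N ⊓ MulAction.stabilizer (Equiv.Perm GolayPt) a :=
        Subgroup.mem_inf.2 ⟨z.2, MulAction.mem_stabilizer_iff.2 hza⟩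
      rw [hK, Subgroup.mem_bot] at h1
      exact hz (Subtype.ext h1)
    have hx1 : x ≠ 1 := by
      rintro rfl
      rw [orderOf_one] at hx
      exact absurd hx (by decide)
    have hy1 : y ≠ 1 := by
      rintro rfl
      rw [orderOf_one] at hy
      exact absurd hy (by decide)
    obtain ⟨g, hg, hga, hgxy⟩ := ht2 a ha ((x : Equiv.Perm GolayPt) a)
      (hinv _ (hle x.2) a ha) (Ne.symm (hmove x hx1)) a ha ((y : Equiv.Perm GolayPt) a)
      (hinv _ (hle y.2) a ha) (Ne.symm (hmove y hy1))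
    have hc : g * (x : Equiv.Perm GolayPt) * g⁻¹ ∈ N := hconj g hg _ x.2
    have hcp : (g * (x : Equiv.Perm GolayPt) * g⁻¹) a = (y : Equiv.Perm GolayPt) a := by
      rw [Equiv.Perm.mul_apply, Equiv.Perm.mul_apply, inv_apply_of_fix g a hga, hgxy]
    have hbc : (y : Equiv.Perm GolayPt)⁻¹ * (g * (x : Equiv.Perm GolayPt) * g⁻¹) ∈
        N ⊓ MulAction.stabilizer (Equiv.Perm GolayPt) a := by
      refine Subgroup.mem_inf.2 ⟨Subgroup.mul_mem _ (inv_mem y.2) hc, ?_⟩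
      rw [MulAction.mem_stabilizer_iff]
      change (y : Equiv.Perm GolayPt)⁻¹ ((g * (x : Equiv.Perm GolayPt) * g⁻¹) a) = a
      rw [hcp]
      change (y : Equiv.Perm GolayPt).symm ((y : Equiv.Perm GolayPt) a) = a
      rw [Equiv.symm_apply_apply]
    rw [hK, Subgroup.mem_bot] at hbc
    have hbeq : (y : Equiv.Perm GolayPt) = g * (x : Equiv.Perm GolayPt) * g⁻¹ := by
      have : (y : Equiv.Perm GolayPt) =
          (y : Equiv.Perm GolayPt) * ((y : Equiv.Perm GolayPt)⁻¹ *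
            (g * (x : Equiv.Perm GolayPt) * g⁻¹)) := by
        rw [hbc, mul_one]
      rw [this]
      group
    have hx2 : x ^ 2 = 1 := by rw [← hx, pow_orderOf_eq_one]
    have hx2' : (x : Equiv.Perm GolayPt) * (x : Equiv.Perm GolayPt) = 1 := by
      have := congrArg (fun z : N => (z : Equiv.Perm GolayPt)) hx2
      simpa [pow_two] using this
    have hy2 : y ^ 2 = 1 := by
      apply Subtype.ext
      change (y : Equiv.Perm GolayPt) ^ 2 = 1
      rw [pow_two, hbeq]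
      have : g * (x : Equiv.Perm GolayPt) * g⁻¹ * (g * (x : Equiv.Perm GolayPt) * g⁻¹) =
          g * ((x : Equiv.Perm GolayPt) * (x : Equiv.Perm GolayPt)) * g⁻¹ := by group
      rw [this, hx2']
      group
    have h3' := orderOf_dvd_of_pow_eq_one hy2
    rw [hy] at h3'
    exact absurd h3' (by decide)
  rw [hcard]
  apply Dvd.dvd.mul_left
  obtain ⟨n, hn, hn1⟩ := exists_ne_one_of_ne_bot _ hK
  have hnN : n ∈ N := (Subgroup.mem_inf.1 hn).1
  have hna : n a = a := MulAction.mem_stabilizer_iff.1 (Subgroup.mem_inf.1 hn).2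
  obtain ⟨q, hqD, hq⟩ : ∃ q ∈ D, n q ≠ q := by
    by_contra hcon
    apply hn1
    apply hfaith n (hle hnN)
    intro p hpD
    by_contra hp
    exact hcon ⟨p, hpD, hp⟩
  have hqa : q ≠ a := by
    rintro rfl
    exact hq hna
  have hq'a : n q ≠ a := by
    intro h
    rw [← hna] at h
    exact hqa (n.injective h)
  have hq'D : n q ∈ D := hinv n (hle hnN) q hqD
  rw [card_orbit_step _ q]
  apply Dvd.dvd.mul_right
  have horb : MulAction.orbit ↥(N ⊓ MulAction.stabilizer (Equiv.Perm GolayPt) a) q =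
      D \ {a} := by
    ext r
    rw [MulAction.mem_orbit_iff]
    constructor
    · rintro ⟨k, rfl⟩
      have hka : (k : Equiv.Perm GolayPt) a = a :=
        MulAction.mem_stabilizer_iff.1 (Subgroup.mem_inf.1 k.2).2
      refine ⟨hinv _ (hle (Subgroup.mem_inf.1 k.2).1) q hqD, ?_⟩
      intro h
      have h' : (k : Equiv.Perm GolayPt) q = a := h
      exact hqa ((k : Equiv.Perm GolayPt).injective (h'.trans hka.symm))
    · rintro ⟨hrD, hra⟩
      have hr' : r ≠ a := hra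
      by_cases hrq : r = q
      · exact ⟨1, by rw [hrq]; rfl⟩
      · obtain ⟨g, hg, hga, hgq, hgr⟩ := ht3 a ha q hqD (n q) hq'D (Ne.symm hqa) (Ne.symm hq'a)
          (Ne.symm hq) a ha q hqD r hrD (Ne.symm hqa) (Ne.symm hr') (Ne.symm hrq)
        have hmem : g * n * g⁻¹ ∈ N ⊓ MulAction.stabilizer (Equiv.Perm GolayPt) a := by
          refine Subgroup.mem_inf.2 ⟨hconj g hg n hnN, ?_⟩
          rw [MulAction.mem_stabilizer_iff]
          change (g * n * g⁻¹) a = a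
          rw [Equiv.Perm.mul_apply, Equiv.Perm.mul_apply, inv_apply_of_fix g a hga, hna, hga]
        refine ⟨⟨g * n * g⁻¹, hmem⟩, ?_⟩
        change (g * n * g⁻¹) q = r
        rw [Equiv.Perm.mul_apply, Equiv.Perm.mul_apply, inv_apply_of_fix g q hgq, hgr]
  rw [horb, Set.ncard_sdiff_singleton_of_mem ha]

end Trans

end Cfsg.Agent.Lib.Helper9.Leech
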