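import Cfsg.Agent.Lib.Helper9.TreeCert
import Cfsg.Agent.Lib.Helper9.RankData

set_option autoImplicit false
open Cfsg

namespace Cfsg.Agent.Lib.Helper9.Leech

open scoped Pointwise
open Cfsg.Agent.S5393 Cfsg.Agent.S5548

set_option maxRecDepth 100000 in
theorem rkS_ok : slpChk rkS rkN = true := by decide +kernel

theorem rank_cfg (ms ps : List ℕ) (hps : ∀ j ∈ ps, j < 24) (kidx : List ℕ)
    (hk : (0 :: kidx).all (fun k => Nat.blt k rkN &&
      cfgOK (tblOf (nodeTbl rkS k)) ms ps) = true)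
    (E len : ℕ)
    (htree : treeOKN stepN (fun gi => nodeTbl rkS (kidx.getD gi 0)) decM (ent E 64) len = true)
    (inv rootF : ℕ → ℕ) (hroot : allBelow (rootOKM E inv rootF) len = true)
    (F : List ℕ) (sel : ℕ → Bool) (hcov : covGo (objM E) len 0 (F.filter sel) = true)
    (x y : ℕ) (hx : x ∈ F) (hy : y ∈ F) (hsx : sel x = true) (hsy : sel y = true)
    (hxy : inv x = inv y) : ∃ g ∈ cfgSub ms ps, g • bitsOf x = bitsOf y :=
  mtree_same (cfgSub ms ps) _ (kgens_valid rkS rkN rkS_ok ms ps hps kidx hk) E len htree inv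
    rootF hroot F sel hcov x y hx hy hsx hsy hxy

theorem card_inter_inv (σ : Equiv.Perm GolayPt) (s t : Finset GolayPt) :
    (s ∩ σ⁻¹ • t).card = (σ • s ∩ t).card := by
  rw [← card_inter_smul σ s (σ⁻¹ • t), smul_inv_smul]

/-- kernel-friendly bit test -/
def tb (m i : ℕ) : Bool := Nat.beq (Nat.mod (Nat.shiftRight m i) 2) 1

theorem tb_eq (m i : ℕ) : tb m i = m.testBit i := by
  unfold tb
  have h := bit_eq m i
  change Nat.beq ((m >>> i) % 2) 1 = m.testBit i
  rw [← h]
  cases m.testBit i <;> rfl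

theorem mem_bits_tb (m j : ℕ) (hj : j < 24) : ptOf j ∈ bitsOf m ↔ tb m j = true := by
  rw [mem_bitsOf, idx_ptOf j hj, tb_eq]

def octT0 : List ℕ := [8398155, 8421811, 8505411, 8524371, 8536111, 8657159, 8716939, 8983587, 9347075, 9465987, 9471495, 9963547, 10496547, 10765331, 11010247, 11731203, 12656663, 12717187, 13124355, 13893731, 14716939]

def octPQS : List ℕ := [8536111, 8657159, 9471495, 11010247, 12656663]

def triInv (m : ℕ) : ℕ := cond (octT0.any (fun o => Nat.beq (popc (Nat.land m o)) 3)) 1 0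

def duInv (m : ℕ) : ℕ :=
  Nat.add (Nat.mul 2 (popc (Nat.land m 6)))
    (cond (octPQS.any (fun o => Nat.beq (popc (Nat.land m o)) 2)) 1 0)

/-! ### config rkOct -/

def rkOctRoot (k : ℕ) : ℕ :=
  cond (Nat.beq k 4) 0 (cond (Nat.beq k 2) 2 (cond (Nat.beq k 0) 58 (528)))

set_option maxRecDepth 100000 in
theorem rkOct_k : (0 :: rkOctK).all (fun k => Nat.blt k rkN &&
    cfgOK (tblOf (nodeTbl rkS k)) [octO] []) = true := by decide +kernel

set_option maxRecDepth 100000 in
theorem rkOct_tree : treeOKN stepN (fun gi => nodeTbl rkS (rkOctK.getD gi 0)) decM (ent rkOctE 64)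
    rkOctLen = true := by decide +kernel

set_option maxRecDepth 100000 in
theorem rkOct_root : allBelow (rootOKM rkOctE (fun m => popc (octO &&& m)) rkOctRoot) rkOctLen = true := by
  decide +kernel

set_option maxRecDepth 100000 in
theorem rkOct_cov : covGo (objM rkOctE) rkOctLen 0 (octL.filter (fun _ => true)) = true := by
  decide +kernel

theorem rkOct_orb (x y : ℕ) (hx : x ∈ octL) (hy : y ∈ octL) (hsx : (fun _ => true) x = true)
    (hsy : (fun _ => true) y = true) (hxy : (fun m => popc (octO &&& m)) x = (fun m => popc (octO &&& m)) y) :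
    ∃ g ∈ cfgSub [octO] [], g • bitsOf x = bitsOf y :=
  rank_cfg [octO] [] (by decide) rkOctK rkOct_k rkOctE rkOctLen rkOct_tree (fun m => popc (octO &&& m)) rkOctRoot rkOct_root
    octL (fun _ => true) rkOct_cov x y hx hy hsx hsy hxy

/-! ### config rkOctIn -/

def rkOctInRoot (k : ℕ) : ℕ :=
  cond (Nat.beq k 4) 0 (cond (Nat.beq k 2) 1 (185))

set_option maxRecDepth 100000 in
theorem rkOctIn_k : (0 :: rkOctInK).all (fun k => Nat.blt k rkN &&
    cfgOK (tblOf (nodeTbl rkS k)) [octO] [0]) = true := by decide +kernel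

set_option maxRecDepth 100000 in
theorem rkOctIn_tree : treeOKN stepN (fun gi => nodeTbl rkS (rkOctInK.getD gi 0)) decM (ent rkOctInE 64)
    rkOctInLen = true := by decide +kernel

set_option maxRecDepth 100000 in
theorem rkOctIn_root : allBelow (rootOKM rkOctInE (fun m => popc (octO &&& m)) rkOctInRoot) rkOctInLen = true := by
  decide +kernel

set_option maxRecDepth 100000 in
theorem rkOctIn_cov : covGo (objM rkOctInE) rkOctInLen 0 (octL.filter (fun m => tb m 0)) = true := by
  decide +kernel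

theorem rkOctIn_orb (x y : ℕ) (hx : x ∈ octL) (hy : y ∈ octL) (hsx : (fun m => tb m 0) x = true)
    (hsy : (fun m => tb m 0) y = true) (hxy : (fun m => popc (octO &&& m)) x = (fun m => popc (octO &&& m)) y) :
    ∃ g ∈ cfgSub [octO] [0], g • bitsOf x = bitsOf y :=
  rank_cfg [octO] [0] (by decide) rkOctInK rkOctIn_k rkOctInE rkOctInLen rkOctIn_tree (fun m => popc (octO &&& m)) rkOctInRoot rkOctIn_root
    octL (fun m => tb m 0) rkOctIn_cov x y hx hy hsx hsy hxy

/-! ### config rkOctOut -/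

def rkOctOutRoot (k : ℕ) : ℕ :=
  cond (Nat.beq k 2) 0 (cond (Nat.beq k 4) 1 (cond (Nat.beq k 0) 32 (343)))

set_option maxRecDepth 100000 in
theorem rkOctOut_k : (0 :: rkOctOutK).all (fun k => Nat.blt k rkN &&
    cfgOK (tblOf (nodeTbl rkS k)) [octO] [4]) = true := by decide +kernel

set_option maxRecDepth 100000 in
theorem rkOctOut_tree : treeOKN stepN (fun gi => nodeTbl rkS (rkOctOutK.getD gi 0)) decM (ent rkOctOutE 64)
    rkOctOutLen = true := by decide +kernel

set_option maxRecDepth 100000 in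
theorem rkOctOut_root : allBelow (rootOKM rkOctOutE (fun m => popc (octO &&& m)) rkOctOutRoot) rkOctOutLen = true := by
  decide +kernel

set_option maxRecDepth 100000 in
theorem rkOctOut_cov : covGo (objM rkOctOutE) rkOctOutLen 0 (octL.filter (fun m => !(tb m 4))) = true := by
  decide +kernel

theorem rkOctOut_orb (x y : ℕ) (hx : x ∈ octL) (hy : y ∈ octL) (hsx : (fun m => !(tb m 4)) x = true)
    (hsy : (fun m => !(tb m 4)) y = true) (hxy : (fun m => popc (octO &&& m)) x = (fun m => popc (octO &&& m)) y) :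
    ∃ g ∈ cfgSub [octO] [4], g • bitsOf x = bitsOf y :=
  rank_cfg [octO] [4] (by decide) rkOctOutK rkOctOut_k rkOctOutE rkOctOutLen rkOctOut_tree (fun m => popc (octO &&& m)) rkOctOutRoot rkOctOut_root
    octL (fun m => !(tb m 4)) rkOctOut_cov x y hx hy hsx hsy hxy

/-! ### config rkOct2 -/

def rkOct2Root (k : ℕ) : ℕ :=
  cond (Nat.beq k 4) 0 (cond (Nat.beq k 2) 4 (60))

set_option maxRecDepth 100000 in
theorem rkOct2_k : (0 :: rkOct2K).all (fun k => Nat.blt k rkN &&
    cfgOK (tblOf (nodeTbl rkS k)) [octO] [0, 1]) = true := by decide +kernel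

set_option maxRecDepth 100000 in
theorem rkOct2_tree : treeOKN stepN (fun gi => nodeTbl rkS (rkOct2K.getD gi 0)) decM (ent rkOct2E 64)
    rkOct2Len = true := by decide +kernel

set_option maxRecDepth 100000 in
theorem rkOct2_root : allBelow (rootOKM rkOct2E (fun m => popc (octO &&& m)) rkOct2Root) rkOct2Len = true := by
  decide +kernel

set_option maxRecDepth 100000 in
theorem rkOct2_cov : covGo (objM rkOct2E) rkOct2Len 0 (octL.filter (fun m => tb m 0 && tb m 1)) = true := by
  decide +kernel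

theorem rkOct2_orb (x y : ℕ) (hx : x ∈ octL) (hy : y ∈ octL) (hsx : (fun m => tb m 0 && tb m 1) x = true)
    (hsy : (fun m => tb m 0 && tb m 1) y = true) (hxy : (fun m => popc (octO &&& m)) x = (fun m => popc (octO &&& m)) y) :
    ∃ g ∈ cfgSub [octO] [0, 1], g • bitsOf x = bitsOf y :=
  rank_cfg [octO] [0, 1] (by decide) rkOct2K rkOct2_k rkOct2E rkOct2Len rkOct2_tree (fun m => popc (octO &&& m)) rkOct2Root rkOct2_root
    octL (fun m => tb m 0 && tb m 1) rkOct2_cov x y hx hy hsx hsy hxy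

/-! ### config rkPQ -/

def rkPQRoot (_k : ℕ) : ℕ :=
  0

set_option maxRecDepth 100000 in
theorem rkPQ_k : (0 :: rkPQK).all (fun k => Nat.blt k rkN &&
    cfgOK (tblOf (nodeTbl rkS k)) [] [0, 4]) = true := by decide +kernel

set_option maxRecDepth 100000 in
theorem rkPQ_tree : treeOKN stepN (fun gi => nodeTbl rkS (rkPQK.getD gi 0)) decM (ent rkPQE 64)
    rkPQLen = true := by decide +kernel

set_option maxRecDepth 100000 in
theorem rkPQ_root : allBelow (rootOKM rkPQE (fun _ => 0) rkPQRoot) rkPQLen = true := by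
  decide +kernel

set_option maxRecDepth 100000 in
theorem rkPQ_cov : covGo (objM rkPQE) rkPQLen 0 (octL.filter (fun m => tb m 0 && !(tb m 4))) = true := by
  decide +kernel

theorem rkPQ_orb (x y : ℕ) (hx : x ∈ octL) (hy : y ∈ octL) (hsx : (fun m => tb m 0 && !(tb m 4)) x = true)
    (hsy : (fun m => tb m 0 && !(tb m 4)) y = true) (hxy : (fun _ => 0) x = (fun _ => 0) y) :
    ∃ g ∈ cfgSub [] [0, 4], g • bitsOf x = bitsOf y :=
  rank_cfg [] [0, 4] (by decide) rkPQK rkPQ_k rkPQE rkPQLen rkPQ_tree (fun _ => 0) rkPQRoot rkPQ_root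
    octL (fun m => tb m 0 && !(tb m 4)) rkPQ_cov x y hx hy hsx hsy hxy

/-! ### config rkOctPQ -/

def rkOctPQRoot (k : ℕ) : ℕ :=
  cond (Nat.beq k 2) 0 (cond (Nat.beq k 4) 1 (126))

set_option maxRecDepth 100000 in
theorem rkOctPQ_k : (0 :: rkOctPQK).all (fun k => Nat.blt k rkN &&
    cfgOK (tblOf (nodeTbl rkS k)) [octO] [0, 4]) = true := by decide +kernel

set_option maxRecDepth 100000 in
theorem rkOctPQ_tree : treeOKN stepN (fun gi => nodeTbl rkS (rkOctPQK.getD gi 0)) decM (ent rkOctPQE 64)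
    rkOctPQLen = true := by decide +kernel

set_option maxRecDepth 100000 in
theorem rkOctPQ_root : allBelow (rootOKM rkOctPQE (fun m => popc (octO &&& m)) rkOctPQRoot) rkOctPQLen = true := by
  decide +kernel

set_option maxRecDepth 100000 in
theorem rkOctPQ_cov : covGo (objM rkOctPQE) rkOctPQLen 0 (octL.filter (fun m => tb m 0 && !(tb m 4))) = true := by
  decide +kernel

theorem rkOctPQ_orb (x y : ℕ) (hx : x ∈ octL) (hy : y ∈ octL) (hsx : (fun m => tb m 0 && !(tb m 4)) x = true)
    (hsy : (fun m => tb m 0 && !(tb m 4)) y = true) (hxy : (fun m => popc (octO &&& m)) x = (fun m => popc (octO &&& m)) y) :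
    ∃ g ∈ cfgSub [octO] [0, 4], g • bitsOf x = bitsOf y :=
  rank_cfg [octO] [0, 4] (by decide) rkOctPQK rkOctPQ_k rkOctPQE rkOctPQLen rkOctPQ_tree (fun m => popc (octO &&& m)) rkOctPQRoot rkOctPQ_root
    octL (fun m => tb m 0 && !(tb m 4)) rkOctPQ_cov x y hx hy hsx hsy hxy

/-! ### config rkDodPt -/

def rkDodPtRoot (k : ℕ) : ℕ :=
  cond (Nat.beq k 8) 0 (cond (Nat.beq k 6) 6 (cond (Nat.beq k 12) 15 (126)))

set_option maxRecDepth 100000 in
theorem rkDodPt_k : (0 :: rkDodPtK).all (fun k => Nat.blt k rkN &&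
    cfgOK (tblOf (nodeTbl rkS k)) [dM] [0]) = true := by decide +kernel

set_option maxRecDepth 100000 in
theorem rkDodPt_tree : treeOKN stepN (fun gi => nodeTbl rkS (rkDodPtK.getD gi 0)) decM (ent rkDodPtE 64)
    rkDodPtLen = true := by decide +kernel

set_option maxRecDepth 100000 in
theorem rkDodPt_root : allBelow (rootOKM rkDodPtE (fun m => popc (dM &&& m)) rkDodPtRoot) rkDodPtLen = true := by
  decide +kernel

set_option maxRecDepth 100000 in
theorem rkDodPt_cov : covGo (objM rkDodPtE) rkDodPtLen 0 (dodL.filter (fun m => tb m 0)) = true := by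
  decide +kernel

theorem rkDodPt_orb (x y : ℕ) (hx : x ∈ dodL) (hy : y ∈ dodL) (hsx : (fun m => tb m 0) x = true)
    (hsy : (fun m => tb m 0) y = true) (hxy : (fun m => popc (dM &&& m)) x = (fun m => popc (dM &&& m)) y) :
    ∃ g ∈ cfgSub [dM] [0], g • bitsOf x = bitsOf y :=
  rank_cfg [dM] [0] (by decide) rkDodPtK rkDodPt_k rkDodPtE rkDodPtLen rkDodPt_tree (fun m => popc (dM &&& m)) rkDodPtRoot rkDodPt_root
    dodL (fun m => tb m 0) rkDodPt_cov x y hx hy hsx hsy hxy

/-! ### config rkDod -/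

def rkDodRoot (k : ℕ) : ℕ :=
  cond (Nat.beq k 8) 0 (cond (Nat.beq k 6) 1 (cond (Nat.beq k 12) 23 (cond (Nat.beq k 4) 116 (2552))))

set_option maxRecDepth 100000 in
theorem rkDod_k : (0 :: rkDodK).all (fun k => Nat.blt k rkN &&
    cfgOK (tblOf (nodeTbl rkS k)) [dM] []) = true := by decide +kernel

set_option maxRecDepth 100000 in
theorem rkDod_tree : treeOKN stepN (fun gi => nodeTbl rkS (rkDodK.getD gi 0)) decM (ent rkDodE 64)
    rkDodLen = true := by decide +kernel

set_option maxRecDepth 100000 in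
theorem rkDod_root : allBelow (rootOKM rkDodE (fun m => popc (dM &&& m)) rkDodRoot) rkDodLen = true := by
  decide +kernel

set_option maxRecDepth 100000 in
theorem rkDod_cov : covGo (objM rkDodE) rkDodLen 0 (dodL.filter (fun _ => true)) = true := by
  decide +kernel

theorem rkDod_orb (x y : ℕ) (hx : x ∈ dodL) (hy : y ∈ dodL) (hsx : (fun _ => true) x = true)
    (hsy : (fun _ => true) y = true) (hxy : (fun m => popc (dM &&& m)) x = (fun m => popc (dM &&& m)) y) :
    ∃ g ∈ cfgSub [dM] [], g • bitsOf x = bitsOf y :=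
  rank_cfg [dM] [] (by decide) rkDodK rkDod_k rkDodE rkDodLen rkDod_tree (fun m => popc (dM &&& m)) rkDodRoot rkDod_root
    dodL (fun _ => true) rkDod_cov x y hx hy hsx hsy hxy

/-! ### config rkTri -/

def rkTriRoot (k : ℕ) : ℕ :=
  cond (Nat.beq k 0) 0 (1)

set_option maxRecDepth 100000 in
theorem rkTri_k : (0 :: rkTriK).all (fun k => Nat.blt k rkN &&
    cfgOK (tblOf (nodeTbl rkS k)) [8388611] []) = true := by decide +kernel

set_option maxRecDepth 100000 in
theorem rkTri_tree : treeOKN stepN (fun gi => nodeTbl rkS (rkTriK.getD gi 0)) decM (ent rkTriE 64)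
    rkTriLen = true := by decide +kernel

set_option maxRecDepth 100000 in
theorem rkTri_root : allBelow (rootOKM rkTriE (triInv) rkTriRoot) rkTriLen = true := by
  decide +kernel

set_option maxRecDepth 100000 in
theorem rkTri_cov : covGo (objM rkTriE) rkTriLen 0 (triL.filter (fun m => Nat.beq (Nat.land 8388611 m) 0)) = true := by
  decide +kernel

theorem rkTri_orb (x y : ℕ) (hx : x ∈ triL) (hy : y ∈ triL) (hsx : (fun m => Nat.beq (Nat.land 8388611 m) 0) x = true)
    (hsy : (fun m => Nat.beq (Nat.land 8388611 m) 0) y = true) (hxy : (triInv) x = (triInv) y) :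
    ∃ g ∈ cfgSub [8388611] [], g • bitsOf x = bitsOf y :=
  rank_cfg [8388611] [] (by decide) rkTriK rkTri_k rkTriE rkTriLen rkTri_tree (triInv) rkTriRoot rkTri_root
    triL (fun m => Nat.beq (Nat.land 8388611 m) 0) rkTri_cov x y hx hy hsx hsy hxy

/-! ### config rkDuad -/

def rkDuadRoot (k : ℕ) : ℕ :=
  cond (Nat.beq k 3) 0 (cond (Nat.beq k 0) 4 (7))

set_option maxRecDepth 100000 in
theorem rkDuad_k : (0 :: rkDuadK).all (fun k => Nat.blt k rkN &&
    cfgOK (tblOf (nodeTbl rkS k)) [6] [23, 0]) = true := by decide +kernel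

set_option maxRecDepth 100000 in
theorem rkDuad_tree : treeOKN stepN (fun gi => nodeTbl rkS (rkDuadK.getD gi 0)) decM (ent rkDuadE 64)
    rkDuadLen = true := by decide +kernel

set_option maxRecDepth 100000 in
theorem rkDuad_root : allBelow (rootOKM rkDuadE (duInv) rkDuadRoot) rkDuadLen = true := by
  decide +kernel

set_option maxRecDepth 100000 in
theorem rkDuad_cov : covGo (objM rkDuadE) rkDuadLen 0 (duL.filter (fun m => Nat.beq (Nat.land 8388609 m) 0 && !(Nat.beq m 6))) = true := by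
  decide +kernel

theorem rkDuad_orb (x y : ℕ) (hx : x ∈ duL) (hy : y ∈ duL) (hsx : (fun m => Nat.beq (Nat.land 8388609 m) 0 && !(Nat.beq m 6)) x = true)
    (hsy : (fun m => Nat.beq (Nat.land 8388609 m) 0 && !(Nat.beq m 6)) y = true) (hxy : (duInv) x = (duInv) y) :
    ∃ g ∈ cfgSub [6] [23, 0], g • bitsOf x = bitsOf y :=
  rank_cfg [6] [23, 0] (by decide) rkDuadK rkDuad_k rkDuadE rkDuadLen rkDuad_tree (duInv) rkDuadRoot rkDuad_root
    duL (fun m => Nat.beq (Nat.land 8388609 m) 0 && !(Nat.beq m 6)) rkDuad_cov x y hx hy hsx hsy hxy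

end Cfsg.Agent.Lib.Helper9.Leech
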