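import Cfsg.Agent.Lib.Helper9.RankA

set_option autoImplicit false
open Cfsg

namespace Cfsg.Agent.Lib.Helper9.Leech

open scoped Pointwise
open Cfsg.Agent.S5393 Cfsg.Agent.S5548

theorem dod_to_dM (d : Finset GolayPt) (hd : d ∈ dodecads) : ∃ σ ∈ M24, σ • bitsOf dM = d := by
  rw [← orbit_dodecad _ dM_dodecad] at hd
  obtain ⟨σ, hσ⟩ := hd
  exact ⟨σ.1, σ.2, hσ⟩

/-! ### S1561 -/

theorem s1561 (d d' d'' : Finset GolayPt) (hd : d ∈ dodecads) (hd' : d' ∈ dodecads)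
    (hd'' : d'' ∈ dodecads) (h : (d ∩ d').card = (d ∩ d'').card) :
    ∃ g : Equiv.Perm GolayPt, g ∈ M24 ∧ g • d = d ∧ g • d' = d'' := by
  obtain ⟨σ, hσ, hσd⟩ := dod_to_dM d hd
  subst hσd
  obtain ⟨m', hm', hb'⟩ := dod_pull σ hσ d' hd'
  obtain ⟨m'', hm'', hb''⟩ := dod_pull σ hσ d'' hd''
  obtain ⟨g, hg, hgm⟩ := rkDod_orb m' m'' hm' hm'' rfl rfl (by
    change popc (dM &&& m') = popc (dM &&& m'')
    rw [pull_inter σ dM m' d' hb', pull_inter σ dM m'' d'' hb'', h])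
  exact ⟨σ * g * σ⁻¹, conj_mem σ g hσ hg.1,
    conj_smul σ g _ _ (hg.2.1 dM (List.mem_singleton_self _)), pull_back σ g _ _ _ _ hb' hb'' hgm⟩

/-! ### S1639 -/

theorem dod_in_count (σ : Equiv.Perm GolayPt) (hσ : σ ∈ M24) (k : ℕ) :
    {d' : Finset GolayPt | d' ∈ dodecads ∧ σ (ptOf 0) ∈ d' ∧
      (σ • bitsOf dM ∩ d').card = k}.ncard =
      (dodL.filter (fun m => tb m 0 && Nat.beq (popc (dM &&& m)) k)).length := by
  rw [ncard_conj σ {d' | d' ∈ dodecads ∧ ptOf 0 ∈ d' ∧ (bitsOf dM ∩ d').card = k} _ (by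
    intro s
    simp only [Set.mem_ofPred_eq]
    rw [dodecads_smul_iff σ hσ, mem_smul_iff, card_inter_smul])]
  exact ncard_fam dodecads dodL mem_dodecads dodL_lt dodL_sorted
    (fun d' => ptOf 0 ∈ d' ∧ (bitsOf dM ∩ d').card = k) _ (by
      intro n _
      rw [mem_bits_tb n 0 (by decide), card_inter_bits, Bool.and_eq_true, beq_iff])

set_option maxRecDepth 100000 in
theorem dod_in_4 : (dodL.filter (fun m => tb m 0 && Nat.beq (popc (dM &&& m)) 4)).length = 165 := by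
  decide +kernel

set_option maxRecDepth 100000 in
theorem dod_in_8 : (dodL.filter (fun m => tb m 0 && Nat.beq (popc (dM &&& m)) 8)).length = 330 := by
  decide +kernel

set_option maxRecDepth 100000 in
theorem dod_in_6 : (dodL.filter (fun m => tb m 0 && Nat.beq (popc (dM &&& m)) 6)).length = 792 := by
  decide +kernel

theorem s1639 (x : GolayPt) (d : Finset GolayPt) (hd : d ∈ dodecads) (hx : x ∈ d) :
    {d' : Finset GolayPt | d' ∈ dodecads ∧ x ∈ d' ∧ (d ∩ d').card = 4}.ncard = 165 ∧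
    {d' : Finset GolayPt | d' ∈ dodecads ∧ x ∈ d' ∧ (d ∩ d').card = 8}.ncard = 330 ∧
    {d' : Finset GolayPt | d' ∈ dodecads ∧ x ∈ d' ∧ (d ∩ d').card = 6}.ncard = 792 ∧
    ∀ d' d'' : Finset GolayPt, d' ∈ dodecads → d'' ∈ dodecads → x ∈ d' → x ∈ d'' →
      (d ∩ d').card = (d ∩ d'').card →
      ∃ g : Equiv.Perm GolayPt, g ∈ M24 ∧ g x = x ∧ g • d = d ∧ g • d' = d'' := by
  obtain ⟨σ, hσ, hσd, hσx⟩ := dod_flag d hd x hx
  subst hσd hσx
  refine ⟨?_, ?_, ?_, ?_⟩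
  · rw [dod_in_count σ hσ 4, dod_in_4]
  · rw [dod_in_count σ hσ 8, dod_in_8]
  · rw [dod_in_count σ hσ 6, dod_in_6]
  · intro d' d'' hd' hd'' hx' hx'' hcard
    obtain ⟨m', hm', hb'⟩ := dod_pull σ hσ d' hd'
    obtain ⟨m'', hm'', hb''⟩ := dod_pull σ hσ d'' hd''
    obtain ⟨g, hg, hgm⟩ := rkDodPt_orb m' m'' hm' hm''
      ((pull_mem σ 0 (by decide) m' d' hb').2 hx') ((pull_mem σ 0 (by decide) m'' d'' hb'').2 hx'')
      (by
        change popc (dM &&& m') = popc (dM &&& m'')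
        rw [pull_inter σ dM m' d' hb', pull_inter σ dM m'' d'' hb'', hcard])
    exact ⟨σ * g * σ⁻¹, conj_mem σ g hσ hg.1, conj_apply σ g _ _ (hg.2.2 0 (by simp)),
      conj_smul σ g _ _ (hg.2.1 dM (List.mem_singleton_self _)),
      pull_back σ g _ _ _ _ hb' hb'' hgm⟩

end Cfsg.Agent.Lib.Helper9.Leech
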