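import Cfsg.Agent.Lib.Helper9.KSub

set_option autoImplicit false
open Cfsg

namespace Cfsg.Agent.Lib.Helper9.Leech

open scoped Pointwise
open Cfsg.Agent.S5393 Cfsg.Agent.S5548

/-! ### S1562: a triad stabiliser on the disjoint triads -/

theorem bitsOf_T0 : bitsOf 8388611 = {ptOf 23, ptOf 0, ptOf 1} := by
  have h := bitsOf_mask3 (ptOf 23) (ptOf 0) (ptOf 1)
  rw [idx_ptOf 23 (by decide), idx_ptOf 0 (by decide), idx_ptOf 1 (by decide)] at h
  have h2 : 2 ^ 23 ||| 2 ^ 0 ||| 2 ^ 1 = 8388611 := by decide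
  rw [h2] at h
  exact h

set_option maxRecDepth 100000 in
theorem octT0_eq : octL.filter (fun o => Nat.beq (Nat.land 8388611 o) 8388611) = octT0 := by
  decide +kernel

theorem triInv_iff (n : ℕ) (hn : n ∈ triL) :
    (∃ o ∈ octads, bitsOf 8388611 ∪ bitsOf n ⊆ o) ↔ triInv n = 1 := by
  constructor
  · rintro ⟨o, ho, hsub⟩
    obtain ⟨mo, hmo, rfl⟩ := (mem_octads o).1 ho
    have h1 : bitsOf 8388611 ⊆ bitsOf mo := (Finset.union_subset_iff.1 hsub).1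
    have h2 : bitsOf n ⊆ bitsOf mo := (Finset.union_subset_iff.1 hsub).2
    have h3 : mo ∈ octT0 := by
      rw [← octT0_eq, List.mem_filter]
      exact ⟨hmo, (beq_iff _ _).2 (land_eq_of_sub _ _ (by norm_num) h1)⟩
    have h4 : popc (n &&& mo) = 3 := by rw [(sub_iff_popc n mo).1 h2, tri_popc n hn]
    have h5 : octT0.any (fun o => Nat.beq (popc (Nat.land n o)) 3) = true :=
      List.any_eq_true.2 ⟨mo, h3, (beq_iff _ _).2 h4⟩
    unfold triInv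
    rw [h5]
    rfl
  · intro h
    unfold triInv at h
    cases h5 : octT0.any (fun o => Nat.beq (popc (Nat.land n o)) 3) with
    | false =>
      rw [h5] at h
      exact absurd h (by decide)
    | true =>
      obtain ⟨mo, h3, h4⟩ := List.any_eq_true.1 h5
      rw [← octT0_eq, List.mem_filter] at h3
      exact ⟨bitsOf mo, (mem_octads _).2 ⟨mo, h3.1, rfl⟩,
        Finset.union_subset (sub_of_land_eq _ _ ((beq_iff _ _).1 h3.2))
          ((sub_iff_popc n mo).2 (by rw [tri_popc n hn]; exact (beq_iff _ _).1 h4))⟩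

theorem triInv_cases (n : ℕ) : triInv n = 1 ∨ triInv n = 0 := by
  unfold triInv
  cases octT0.any (fun o => Nat.beq (popc (Nat.land n o)) 3)
  · exact Or.inr rfl
  · exact Or.inl rfl

theorem triInv_not (n : ℕ) (hn : n ∈ triL) :
    (¬ ∃ o ∈ octads, bitsOf 8388611 ∪ bitsOf n ⊆ o) ↔ triInv n = 0 := by
  rw [triInv_iff n hn]
  rcases triInv_cases n with h | h <;> rw [h] <;> decide

theorem tri_sel_iff (n : ℕ) :
    Disjoint (bitsOf 8388611) (bitsOf n) ↔ Nat.beq (Nat.land 8388611 n) 0 = true := by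
  rw [beq_iff]
  exact ⟨land_eq_zero_of_disj _ _ (by norm_num), disj_of_land_eq_zero _ _⟩

theorem tri_count1 : {U : Finset GolayPt | U.card = 3 ∧ Disjoint (bitsOf 8388611) U ∧
    (∃ o ∈ octads, bitsOf 8388611 ∪ U ⊆ o)}.ncard =
    (triL.filter (fun n => Nat.beq (Nat.land 8388611 n) 0 && Nat.beq (triInv n) 1)).length :=
  ncard_fam {U : Finset GolayPt | U.card = 3} triL mem_tri triL_lt triL_sorted
    (fun U => Disjoint (bitsOf 8388611) U ∧ (∃ o ∈ octads, bitsOf 8388611 ∪ U ⊆ o)) _ (by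
      intro n hn
      rw [tri_sel_iff, triInv_iff n hn, Bool.and_eq_true, beq_iff (triInv n) 1])

theorem tri_count0 : {U : Finset GolayPt | U.card = 3 ∧ Disjoint (bitsOf 8388611) U ∧
    ¬ (∃ o ∈ octads, bitsOf 8388611 ∪ U ⊆ o)}.ncard =
    (triL.filter (fun n => Nat.beq (Nat.land 8388611 n) 0 && Nat.beq (triInv n) 0)).length :=
  ncard_fam {U : Finset GolayPt | U.card = 3} triL mem_tri triL_lt triL_sorted
    (fun U => Disjoint (bitsOf 8388611) U ∧ ¬ (∃ o ∈ octads, bitsOf 8388611 ∪ U ⊆ o)) _ (by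
      intro n hn
      rw [tri_sel_iff, triInv_not n hn, Bool.and_eq_true, beq_iff (triInv n) 0])

set_option maxRecDepth 100000 in
theorem tri_210 :
    (triL.filter (fun n => Nat.beq (Nat.land 8388611 n) 0 && Nat.beq (triInv n) 1)).length = 210 := by
  decide +kernel

set_option maxRecDepth 100000 in
theorem tri_1120 :
    (triL.filter (fun n => Nat.beq (Nat.land 8388611 n) 0 && Nat.beq (triInv n) 0)).length = 1120 := by
  decide +kernel

theorem tri_prop_smul (σ : Equiv.Perm GolayPt) (hσ : σ ∈ M24) (T s : Finset GolayPt) :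
    (∃ o ∈ octads, σ • T ∪ σ • s ⊆ o) ↔ (∃ o ∈ octads, T ∪ s ⊆ o) := by
  rw [← Finset.smul_finset_union, oct_sup_smul σ hσ]

theorem s1562 (T : Finset GolayPt) (hT : T.card = 3) :
    {U : Finset GolayPt | U.card = 3 ∧ Disjoint T U ∧ (∃ o ∈ octads, T ∪ U ⊆ o)}.ncard = 210 ∧
    {U : Finset GolayPt | U.card = 3 ∧ Disjoint T U ∧
      ¬ (∃ o ∈ octads, T ∪ U ⊆ o)}.ncard = 1120 ∧
    ∀ U U' : Finset GolayPt, U.card = 3 → U'.card = 3 → Disjoint T U → Disjoint T U' →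
      ((∃ o ∈ octads, T ∪ U ⊆ o) ↔ (∃ o ∈ octads, T ∪ U' ⊆ o)) →
      ∃ g : Equiv.Perm GolayPt, g ∈ M24 ∧ g • T = T ∧ g • U = U' := by
  obtain ⟨x, y, z, hxy, hxz, hyz, rfl⟩ := Finset.card_eq_three.1 hT
  obtain ⟨σ, hσ, h1, h2, h3⟩ := trans3 (ptOf 23) (ptOf 0) (ptOf 1) x y z (by decide) (by decide)
    (by decide) hxy hxz hyz
  have hσT : σ • bitsOf 8388611 = {x, y, z} := by
    rw [bitsOf_T0, Finset.smul_finset_insert, Finset.smul_finset_insert,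
      Finset.smul_finset_singleton]
    change ({σ (ptOf 23), σ (ptOf 0), σ (ptOf 1)} : Finset GolayPt) = _
    rw [h1, h2, h3]
  rw [← hσT]
  refine ⟨?_, ?_, ?_⟩
  · rw [ncard_conj σ {U : Finset GolayPt | U.card = 3 ∧ Disjoint (bitsOf 8388611) U ∧
      (∃ o ∈ octads, bitsOf 8388611 ∪ U ⊆ o)} _ (by
        intro s
        simp only [Set.mem_ofPred_eq]
        rw [Finset.card_smul_finset, disjoint_smul_iff, tri_prop_smul σ hσ]), tri_count1, tri_210]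
  · rw [ncard_conj σ {U : Finset GolayPt | U.card = 3 ∧ Disjoint (bitsOf 8388611) U ∧
      ¬ (∃ o ∈ octads, bitsOf 8388611 ∪ U ⊆ o)} _ (by
        intro s
        simp only [Set.mem_ofPred_eq]
        rw [Finset.card_smul_finset, disjoint_smul_iff, tri_prop_smul σ hσ]), tri_count0, tri_1120]
  · intro U U' hU hU' hd hd' hiff
    have hc : (σ⁻¹ • U).card = 3 := by rw [Finset.card_smul_finset]; exact hU
    have hc' : (σ⁻¹ • U').card = 3 := by rw [Finset.card_smul_finset]; exact hU'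
    obtain ⟨n, hn, hb⟩ := (mem_tri _).1 hc
    obtain ⟨n', hn', hb'⟩ := (mem_tri _).1 hc'
    have hd1 : Disjoint (bitsOf 8388611) (bitsOf n) := by
      rw [hb, ← disjoint_smul_iff σ, smul_inv_smul]
      exact hd
    have hd1' : Disjoint (bitsOf 8388611) (bitsOf n') := by
      rw [hb', ← disjoint_smul_iff σ, smul_inv_smul]
      exact hd'
    have hP : (∃ o ∈ octads, bitsOf 8388611 ∪ bitsOf n ⊆ o) ↔
        (∃ o ∈ octads, σ • bitsOf 8388611 ∪ U ⊆ o) := by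
      rw [hb, ← tri_prop_smul σ hσ, smul_inv_smul]
    have hP' : (∃ o ∈ octads, bitsOf 8388611 ∪ bitsOf n' ⊆ o) ↔
        (∃ o ∈ octads, σ • bitsOf 8388611 ∪ U' ⊆ o) := by
      rw [hb', ← tri_prop_smul σ hσ, smul_inv_smul]
    have hinv : triInv n = triInv n' := by
      have e1 : triInv n = 1 ↔ triInv n' = 1 := by
        rw [← triInv_iff n hn, ← triInv_iff n' hn', hP, hP', hiff]
      rcases triInv_cases n with h | h <;> rcases triInv_cases n' with h' | h'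
      · rw [h, h']
      · rw [h'] at e1
        exact absurd (e1.1 h) (by decide)
      · rw [h] at e1
        exact absurd (e1.2 h') (by decide)
      · rw [h, h']
    obtain ⟨g, hg, hgm⟩ := rkTri_orb n n' hn hn' ((tri_sel_iff n).1 hd1) ((tri_sel_iff n').1 hd1')
      hinv
    exact ⟨σ * g * σ⁻¹, conj_mem σ g hσ hg.1,
      conj_smul σ g _ _ (hg.2.1 8388611 (List.mem_singleton_self _)),
      pull_back σ g _ _ _ _ hb hb' hgm⟩

/-! ### S1638: the stabiliser of two points and a duad on the duads -/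

theorem bitsOf_PQ : bitsOf 8388609 = {ptOf 23, ptOf 0} := by
  have h := bitsOf_mask2 (ptOf 23) (ptOf 0)
  rw [idx_ptOf 23 (by decide), idx_ptOf 0 (by decide)] at h
  have h2 : 2 ^ 23 ||| 2 ^ 0 = 8388609 := by decide
  rw [h2] at h
  exact h

theorem bitsOf_S0 : bitsOf 6 = {ptOf 1, ptOf 2} := by
  have h := bitsOf_mask2 (ptOf 1) (ptOf 2)
  rw [idx_ptOf 1 (by decide), idx_ptOf 2 (by decide)] at h
  have h2 : 2 ^ 1 ||| 2 ^ 2 = 6 := by decide
  rw [h2] at h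
  exact h

set_option maxRecDepth 100000 in
theorem octPQS_eq : octL.filter (fun o => tb o 23 && (tb o 0 && Nat.beq (Nat.land 6 o) 6)) =
    octPQS := by
  decide +kernel

def duP (n : ℕ) : Bool := octPQS.any (fun o => Nat.beq (popc (Nat.land n o)) 2)

theorem duInv_eq (n : ℕ) : duInv n = 2 * popc (n &&& 6) + cond (duP n) 1 0 := rfl

theorem duP_iff (n : ℕ) (hn : n ∈ duL) :
    (∃ o ∈ octads, ptOf 23 ∈ o ∧ ptOf 0 ∈ o ∧ bitsOf 6 ∪ bitsOf n ⊆ o) ↔ duP n = true := by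
  unfold duP
  rw [List.any_eq_true]
  constructor
  · rintro ⟨o, ho, h23, h0, hsub⟩
    obtain ⟨mo, hmo, rfl⟩ := (mem_octads o).1 ho
    have h1 : bitsOf 6 ⊆ bitsOf mo := (Finset.union_subset_iff.1 hsub).1
    have h2 : bitsOf n ⊆ bitsOf mo := (Finset.union_subset_iff.1 hsub).2
    refine ⟨mo, ?_, ?_⟩
    · rw [← octPQS_eq, List.mem_filter, Bool.and_eq_true, Bool.and_eq_true]
      exact ⟨hmo, (mem_bits_tb mo 23 (by decide)).1 h23, (mem_bits_tb mo 0 (by decide)).1 h0,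
        (beq_iff _ _).2 (land_eq_of_sub _ _ (by norm_num) h1)⟩
    · rw [beq_iff]
      change popc (n &&& mo) = 2
      rw [(sub_iff_popc n mo).1 h2, du_popc n hn]
  · rintro ⟨mo, h3, h4⟩
    rw [← octPQS_eq, List.mem_filter, Bool.and_eq_true, Bool.and_eq_true] at h3
    obtain ⟨hmo, h23, h0, h6⟩ := h3
    exact ⟨bitsOf mo, (mem_octads _).2 ⟨mo, hmo, rfl⟩, (mem_bits_tb mo 23 (by decide)).2 h23,
      (mem_bits_tb mo 0 (by decide)).2 h0,
      Finset.union_subset (sub_of_land_eq _ _ ((beq_iff _ _).1 h6))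
        ((sub_iff_popc n mo).2 (by rw [du_popc n hn]; exact (beq_iff _ _).1 h4))⟩

theorem duP_not (n : ℕ) (hn : n ∈ duL) :
    (¬ ∃ o ∈ octads, ptOf 23 ∈ o ∧ ptOf 0 ∈ o ∧ bitsOf 6 ∪ bitsOf n ⊆ o) ↔ (!(duP n)) = true := by
  rw [duP_iff n hn]
  cases duP n <;> simp

theorem du_avoid_iff (n : ℕ) :
    (ptOf 23 ∉ bitsOf n ∧ ptOf 0 ∉ bitsOf n) ↔ Nat.beq (Nat.land 8388609 n) 0 = true := by
  rw [beq_iff]
  have h1 : Disjoint (bitsOf 8388609) (bitsOf n) ↔ ptOf 23 ∉ bitsOf n ∧ ptOf 0 ∉ bitsOf n := by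
    rw [bitsOf_PQ, Finset.disjoint_insert_left, Finset.disjoint_singleton_left]
  rw [← h1]
  exact ⟨land_eq_zero_of_disj _ _ (by norm_num), disj_of_land_eq_zero _ _⟩

theorem du_disj_iff (n : ℕ) :
    Disjoint (bitsOf 6) (bitsOf n) ↔ Nat.beq (popc (Nat.land 6 n)) 0 = true := by
  rw [beq_iff]
  exact disj_iff 6 n

theorem du_count1 : {t : Finset GolayPt | (t.card = 2 ∧ ptOf 23 ∉ t ∧ ptOf 0 ∉ t) ∧
    Disjoint (bitsOf 6) t ∧
    (∃ o ∈ octads, ptOf 23 ∈ o ∧ ptOf 0 ∈ o ∧ bitsOf 6 ∪ t ⊆ o)}.ncard =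
    (duL.filter (fun n => Nat.beq (Nat.land 8388609 n) 0 &&
      (Nat.beq (popc (Nat.land 6 n)) 0 && duP n))).length := by
  have h1 : {t : Finset GolayPt | (t.card = 2 ∧ ptOf 23 ∉ t ∧ ptOf 0 ∉ t) ∧
      Disjoint (bitsOf 6) t ∧
      (∃ o ∈ octads, ptOf 23 ∈ o ∧ ptOf 0 ∈ o ∧ bitsOf 6 ∪ t ⊆ o)} =
      {t | t ∈ {t : Finset GolayPt | t.card = 2} ∧ ((ptOf 23 ∉ t ∧ ptOf 0 ∉ t) ∧
        Disjoint (bitsOf 6) t ∧
        (∃ o ∈ octads, ptOf 23 ∈ o ∧ ptOf 0 ∈ o ∧ bitsOf 6 ∪ t ⊆ o))} := by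
    ext t
    simp only [Set.mem_ofPred_eq, and_assoc]
  rw [h1]
  exact ncard_fam {t : Finset GolayPt | t.card = 2} duL mem_du duL_lt duL_sorted
    (fun t => (ptOf 23 ∉ t ∧ ptOf 0 ∉ t) ∧ Disjoint (bitsOf 6) t ∧
      (∃ o ∈ octads, ptOf 23 ∈ o ∧ ptOf 0 ∈ o ∧ bitsOf 6 ∪ t ⊆ o)) _ (by
      intro n hn
      rw [du_avoid_iff, du_disj_iff, duP_iff n hn, Bool.and_eq_true, Bool.and_eq_true])

theorem du_count0 : {t : Finset GolayPt | (t.card = 2 ∧ ptOf 23 ∉ t ∧ ptOf 0 ∉ t) ∧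
    Disjoint (bitsOf 6) t ∧
    ¬ (∃ o ∈ octads, ptOf 23 ∈ o ∧ ptOf 0 ∈ o ∧ bitsOf 6 ∪ t ⊆ o)}.ncard =
    (duL.filter (fun n => Nat.beq (Nat.land 8388609 n) 0 &&
      (Nat.beq (popc (Nat.land 6 n)) 0 && !(duP n)))).length := by
  have h1 : {t : Finset GolayPt | (t.card = 2 ∧ ptOf 23 ∉ t ∧ ptOf 0 ∉ t) ∧
      Disjoint (bitsOf 6) t ∧
      ¬ (∃ o ∈ octads, ptOf 23 ∈ o ∧ ptOf 0 ∈ o ∧ bitsOf 6 ∪ t ⊆ o)} =
      {t | t ∈ {t : Finset GolayPt | t.card = 2} ∧ ((ptOf 23 ∉ t ∧ ptOf 0 ∉ t) ∧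
        Disjoint (bitsOf 6) t ∧
        ¬ (∃ o ∈ octads, ptOf 23 ∈ o ∧ ptOf 0 ∈ o ∧ bitsOf 6 ∪ t ⊆ o))} := by
    ext t
    simp only [Set.mem_ofPred_eq, and_assoc]
  rw [h1]
  exact ncard_fam {t : Finset GolayPt | t.card = 2} duL mem_du duL_lt duL_sorted
    (fun t => (ptOf 23 ∉ t ∧ ptOf 0 ∉ t) ∧ Disjoint (bitsOf 6) t ∧
      ¬ (∃ o ∈ octads, ptOf 23 ∈ o ∧ ptOf 0 ∈ o ∧ bitsOf 6 ∪ t ⊆ o)) _ (by
      intro n hn
      rw [du_avoid_iff, du_disj_iff, duP_not n hn, Bool.and_eq_true, Bool.and_eq_true])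

set_option maxRecDepth 100000 in
theorem du_30 : (duL.filter (fun n => Nat.beq (Nat.land 8388609 n) 0 &&
    (Nat.beq (popc (Nat.land 6 n)) 0 && duP n))).length = 30 := by
  decide +kernel

set_option maxRecDepth 100000 in
theorem du_160 : (duL.filter (fun n => Nat.beq (Nat.land 8388609 n) 0 &&
    (Nat.beq (popc (Nat.land 6 n)) 0 && !(duP n)))).length = 160 := by
  decide +kernel

theorem not_mem_smul_iff (σ : Equiv.Perm GolayPt) (p : GolayPt) (s : Finset GolayPt) :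
    σ p ∉ σ • s ↔ p ∉ s := not_congr (mem_smul_iff σ p s)

theorem du_prop_smul (σ : Equiv.Perm GolayPt) (hσ : σ ∈ M24) (a b : GolayPt)
    (S t : Finset GolayPt) :
    (∃ o ∈ octads, σ a ∈ o ∧ σ b ∈ o ∧ σ • S ∪ σ • t ⊆ o) ↔
      (∃ o ∈ octads, a ∈ o ∧ b ∈ o ∧ S ∪ t ⊆ o) := by
  constructor
  · rintro ⟨o, ho, h1, h2, h3⟩
    refine ⟨σ⁻¹ • o, octads_smul σ⁻¹ (inv_mem hσ) o ho, (inv_smul_mem_iff σ a o).2 h1,
      (inv_smul_mem_iff σ b o).2 h2, ?_⟩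
    rw [← Finset.smul_finset_union] at h3
    exact Finset.smul_finset_subset_iff.1 h3
  · rintro ⟨o, ho, h1, h2, h3⟩
    refine ⟨σ • o, octads_smul σ hσ o ho, (mem_smul_iff σ a o).2 h1, (mem_smul_iff σ b o).2 h2, ?_⟩
    rw [← Finset.smul_finset_union]
    exact Finset.smul_finset_subset_smul_finset_iff.2 h3

theorem s1638 (p q : GolayPt) (hpq : p ≠ q) (s : Finset GolayPt)
    (hs : (s.card = 2 ∧ p ∉ s ∧ q ∉ s)) :
    {t : Finset GolayPt | (t.card = 2 ∧ p ∉ t ∧ q ∉ t) ∧ Disjoint s t ∧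
      (∃ o ∈ octads, p ∈ o ∧ q ∈ o ∧ s ∪ t ⊆ o)}.ncard = 30 ∧
    {t : Finset GolayPt | (t.card = 2 ∧ p ∉ t ∧ q ∉ t) ∧ Disjoint s t ∧
      ¬ (∃ o ∈ octads, p ∈ o ∧ q ∈ o ∧ s ∪ t ⊆ o)}.ncard = 160 ∧
    ∀ t t' : Finset GolayPt, (t.card = 2 ∧ p ∉ t ∧ q ∉ t) → (t'.card = 2 ∧ p ∉ t' ∧ q ∉ t') →
      t ≠ s → t' ≠ s → (s ∩ t).card = (s ∩ t').card →
      ((∃ o ∈ octads, p ∈ o ∧ q ∈ o ∧ s ∪ t ⊆ o) ↔ (∃ o ∈ octads, p ∈ o ∧ q ∈ o ∧ s ∪ t' ⊆ o)) →
      ∃ g : Equiv.Perm GolayPt, g ∈ M24 ∧ g p = p ∧ g q = q ∧ g • s = s ∧ g • t = t' := by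
  obtain ⟨hs2, hps, hqs⟩ := hs
  obtain ⟨a, b, hab, rfl⟩ := Finset.card_eq_two.1 hs2
  have hpa : p ≠ a := fun h => hps (by rw [h]; exact Finset.mem_insert_self _ _)
  have hpb : p ≠ b := fun h => hps (by rw [h]; simp)
  have hqa : q ≠ a := fun h => hqs (by rw [h]; exact Finset.mem_insert_self _ _)
  have hqb : q ≠ b := fun h => hqs (by rw [h]; simp)
  obtain ⟨σ, hσ, hσl⟩ := trans_list [ptOf 23, ptOf 0, ptOf 1, ptOf 2] [p, q, a, b]
    (by decide) (nodup4 _ _ _ _ hpq hpa hpb hqa hqb hab) rfl (by simp)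
  have h23 : σ (ptOf 23) = p := hσl 0 (by simp)
  have h0 : σ (ptOf 0) = q := hσl 1 (by simp)
  have h1 : σ (ptOf 1) = a := hσl 2 (by simp)
  have h2 : σ (ptOf 2) = b := hσl 3 (by simp)
  have hσS : σ • bitsOf 6 = {a, b} := by
    rw [bitsOf_S0, Finset.smul_finset_insert, Finset.smul_finset_singleton]
    change ({σ (ptOf 1), σ (ptOf 2)} : Finset GolayPt) = _
    rw [h1, h2]
  rw [← hσS, ← h23, ← h0]
  refine ⟨?_, ?_, ?_⟩
  · rw [ncard_conj σ {t : Finset GolayPt | (t.card = 2 ∧ ptOf 23 ∉ t ∧ ptOf 0 ∉ t) ∧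
      Disjoint (bitsOf 6) t ∧
      (∃ o ∈ octads, ptOf 23 ∈ o ∧ ptOf 0 ∈ o ∧ bitsOf 6 ∪ t ⊆ o)} _ (by
        intro s
        simp only [Set.mem_ofPred_eq]
        rw [Finset.card_smul_finset, not_mem_smul_iff, not_mem_smul_iff, disjoint_smul_iff,
          du_prop_smul σ hσ]), du_count1, du_30]
  · rw [ncard_conj σ {t : Finset GolayPt | (t.card = 2 ∧ ptOf 23 ∉ t ∧ ptOf 0 ∉ t) ∧
      Disjoint (bitsOf 6) t ∧
      ¬ (∃ o ∈ octads, ptOf 23 ∈ o ∧ ptOf 0 ∈ o ∧ bitsOf 6 ∪ t ⊆ o)} _ (by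
        intro s
        simp only [Set.mem_ofPred_eq]
        rw [Finset.card_smul_finset, not_mem_smul_iff, not_mem_smul_iff, disjoint_smul_iff,
          du_prop_smul σ hσ]), du_count0, du_160]
  · rintro t t' ⟨ht2, hpt, hqt⟩ ⟨ht2', hpt', hqt'⟩ hts hts' hcard hiff
    have hc : (σ⁻¹ • t).card = 2 := by rw [Finset.card_smul_finset]; exact ht2
    have hc' : (σ⁻¹ • t').card = 2 := by rw [Finset.card_smul_finset]; exact ht2'
    obtain ⟨n, hn, hb⟩ := (mem_du _).1 hc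
    obtain ⟨n', hn', hb'⟩ := (mem_du _).1 hc'
    have hsel : ∀ (m : ℕ) (u : Finset GolayPt), m ∈ duL → bitsOf m = σ⁻¹ • u →
        σ (ptOf 23) ∉ u → σ (ptOf 0) ∉ u → u ≠ σ • bitsOf 6 →
        (Nat.beq (Nat.land 8388609 m) 0 && !(Nat.beq m 6)) = true := by
      intro m u hm hbm h1 h2 h3
      rw [Bool.and_eq_true]
      constructor
      · rw [← du_avoid_iff, hbm, inv_smul_mem_iff, inv_smul_mem_iff]
        exact ⟨h1, h2⟩
      · cases h6 : Nat.beq m 6 with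
        | false => rfl
        | true =>
          exfalso
          apply h3
          rw [← Nat.eq_of_beq_eq_true h6, hbm, smul_inv_smul]
    have hP : ∀ (m : ℕ) (u : Finset GolayPt), m ∈ duL → bitsOf m = σ⁻¹ • u →
        (duP m = true ↔ ∃ o ∈ octads, σ (ptOf 23) ∈ o ∧ σ (ptOf 0) ∈ o ∧ σ • bitsOf 6 ∪ u ⊆ o) := by
      intro m u hm hbm
      rw [← duP_iff m hm, hbm, ← du_prop_smul σ hσ, smul_inv_smul]
    have hinv : duInv n = duInv n' := by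
      rw [duInv_eq, duInv_eq]
      have e1 : popc (n &&& 6) = popc (n' &&& 6) := by
        rw [Nat.and_comm n 6, Nat.and_comm n' 6, pull_inter σ 6 n t hb, pull_inter σ 6 n' t' hb',
          hcard]
      have e2 : duP n = duP n' := by
        have e3 : duP n = true ↔ duP n' = true := by
          rw [hP n t hn hb, hP n' t' hn' hb', hiff]
        cases h : duP n <;> cases h' : duP n' <;> simp_all
      rw [e1, e2]
    obtain ⟨g, hg, hgm⟩ := rkDuad_orb n n' hn hn' (hsel n t hn hb hpt hqt hts)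
      (hsel n' t' hn' hb' hpt' hqt' hts') hinv
    exact ⟨σ * g * σ⁻¹, conj_mem σ g hσ hg.1, conj_apply σ g _ _ (hg.2.2 23 (by simp)),
      conj_apply σ g _ _ (hg.2.2 0 (by simp)),
      conj_smul σ g _ _ (hg.2.1 6 (List.mem_singleton_self _)),
      pull_back σ g _ _ _ _ hb hb' hgm⟩

end Cfsg.Agent.Lib.Helper9.Leech
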