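import Cfsg.Agent.Lib.Helper9.RankC

set_option autoImplicit false
open Cfsg

namespace Cfsg.Agent.Lib.Helper9.Leech

open scoped Pointwise
open Cfsg.Agent.S5393 Cfsg.Agent.S5548

theorem card_orbit_fin (K : Subgroup (Equiv.Perm GolayPt)) (s : Finset GolayPt)
    (L : Subgroup (Equiv.Perm GolayPt)) (hL : ∀ g, g ∈ L ↔ g ∈ K ∧ g • s = s) :
    Nat.card K = (MulAction.orbit K s).ncard * Nat.card L := by
  have hos := Subgroup.card_mul_index (MulAction.stabilizer K s)
  rw [MulAction.index_stabilizer] at hos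
  rw [← hos, mul_comm]
  congr 1
  apply card_sub K _ L _ (fun g hg => ((hL g).1 hg).1)
  intro g
  rw [MulAction.mem_stabilizer_iff, hL]
  constructor
  · intro h
    exact ⟨g.2, h⟩
  · intro h
    exact h.2

/-! ### S5613: joint stabilisers of two octads -/

theorem oct_pair_orbit (o o' : Finset GolayPt) (ho : o ∈ octads) (ho' : o' ∈ octads) :
    MulAction.orbit (stabSub [o] []) o' =
      {x | x ∈ octads ∧ (x ∩ o).card = (o ∩ o').card} := by
  ext x
  rw [MulAction.mem_orbit_iff]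
  constructor
  · rintro ⟨g, rfl⟩
    have hg := g.2
    rw [mem_stabSub] at hg
    refine ⟨octads_smul g.1 hg.1 o' ho', ?_⟩
    have h1 : (g : Equiv.Perm GolayPt) • o = o := hg.2.1 o (List.mem_singleton_self _)
    have h2 : g • o' = (g : Equiv.Perm GolayPt) • o' := rfl
    rw [h2, Finset.inter_comm]
    nth_rewrite 1 [← h1]
    exact card_inter_smul _ _ _
  · rintro ⟨hx, hc⟩
    rw [Finset.inter_comm] at hc
    obtain ⟨g, hg, hgo, hgx⟩ := oct_orbits' o o' x ho ho' hx hc.symm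
    refine ⟨⟨g, ?_⟩, hgx⟩
    rw [mem_stabSub]
    refine ⟨hg, ?_, fun p hp => absurd hp (by simp)⟩
    intro s hs
    rw [List.mem_singleton] at hs
    rw [hs]
    exact hgo

set_option maxRecDepth 100000 in
theorem oct_oct_0 : (octL.filter (fun n => popc (n &&& octO) == 0)).length = 30 := by
  decide +kernel

set_option maxRecDepth 100000 in
theorem oct_oct_4 : (octL.filter (fun n => popc (n &&& octO) == 4)).length = 280 := by
  decide +kernel

set_option maxRecDepth 100000 in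
theorem oct_oct_2 : (octL.filter (fun n => popc (n &&& octO) == 2)).length = 448 := by
  decide +kernel

theorem oct_meet_oct (o : Finset GolayPt) (ho : o ∈ octads) (k : ℕ) :
    {x | x ∈ octads ∧ (x ∩ o).card = k}.ncard =
      (octL.filter (fun n => popc (n &&& octO) == k)).length := by
  obtain ⟨σ, hσ, hσo, _⟩ := oct_to_octO o ho
  exact count_inter octads octL octads_eq octL_lt octL_sorted (fun τ hτ => smul_octads_eq τ hτ)
    octO o σ hσ hσo k

theorem mem_stab_oo (o o' : Finset GolayPt) (g : Equiv.Perm GolayPt) :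
    g ∈ stabSub [o, o'] [] ↔ g ∈ stabSub [o] [] ∧ g • o' = o' := by
  rw [mem_stabSub, mem_stabSub]
  constructor
  · rintro ⟨h1, h2, _⟩
    refine ⟨⟨h1, ?_, fun p hp => absurd hp (by simp)⟩, h2 o' (by simp)⟩
    intro s hs
    rw [List.mem_singleton] at hs
    rw [hs]
    exact h2 o (by simp)
  · rintro ⟨⟨h1, h2, _⟩, h3⟩
    refine ⟨h1, ?_, fun p hp => absurd hp (by simp)⟩
    intro s hs
    rw [List.mem_cons, List.mem_singleton] at hs
    rcases hs with rfl | rfl
    · exact h2 _ (List.mem_singleton_self _)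
    · exact h3

theorem card_stab_oo (o o' : Finset GolayPt) (ho : o ∈ octads) (ho' : o' ∈ octads) :
    322560 = (octL.filter (fun n => popc (n &&& octO) == (o ∩ o').card)).length *
      Nat.card (stabSub [o, o'] []) := by
  have h := card_orbit_fin (stabSub [o] []) o' (stabSub [o, o'] []) (mem_stab_oo o o')
  rw [card_stab_octad o ho, oct_pair_orbit o o' ho ho', oct_meet_oct o ho] at h
  exact h

theorem card_joint_oo (o o' : Finset GolayPt) :
    Nat.card ↥(MulAction.stabilizer M24 o ⊓ MulAction.stabilizer M24 o') =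
      Nat.card (stabSub [o, o'] []) := by
  apply card_sub M24 _ _ _ (stabSub_le _ _)
  intro g
  rw [Subgroup.mem_inf, MulAction.mem_stabilizer_iff, MulAction.mem_stabilizer_iff, mem_stabSub]
  constructor
  · rintro ⟨h1, h2⟩
    refine ⟨g.2, ?_, fun p hp => absurd hp (by simp)⟩
    intro s hs
    rw [List.mem_cons, List.mem_singleton] at hs
    rcases hs with rfl | rfl
    · exact h1
    · exact h2
  · rintro ⟨_, h2, _⟩
    exact ⟨h2 o (by simp), h2 o' (by simp)⟩

theorem s5613 (o o' : Finset GolayPt) (ho : o ∈ octads) (ho' : o' ∈ octads) :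
    ((o ∩ o').card = 0 → Nat.card ↥(MulAction.stabilizer M24 o ⊓
      MulAction.stabilizer M24 o') = 10752) ∧
    ((o ∩ o').card = 4 → Nat.card ↥(MulAction.stabilizer M24 o ⊓
      MulAction.stabilizer M24 o') = 1152) ∧
    ((o ∩ o').card = 2 → Nat.card ↥(MulAction.stabilizer M24 o ⊓
      MulAction.stabilizer M24 o') = 720) := by
  have h := card_stab_oo o o' ho ho'
  rw [card_joint_oo]
  refine ⟨?_, ?_, ?_⟩
  · intro hc
    rw [hc, oct_oct_0] at h
    omega
  · intro hc
    rw [hc, oct_oct_4] at h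
    omega
  · intro hc
    rw [hc, oct_oct_2] at h
    omega

/-! ### S1600: the three-point stabiliser in the dodecad stabiliser -/

def m12B3 : List ℕ := [0, 1, 2, 5]

set_option maxRecDepth 100000 in
theorem rkDodChT_ok : tblsOK rkS rkN rkDodChT rkDodChIx = true := by decide +kernel

theorem rkDodChT_valid : ∀ t ∈ rkDodChT, ∃ g ∈ M24, TblP g t :=
  tblsOK_spec rkS rkN rkS_ok rkDodChT rkDodChIx rkDodChT_ok

set_option maxRecDepth 100000 in
theorem rkDod_chain : chainOK2 rkDodChT [dM] m12B3 rkDodCh := by decide +kernel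

theorem dM_take3 : ∀ j ∈ m12B3.take 3, dM.testBit j = true := by decide +kernel

theorem m12_3_to5 (x : GolayPt) (hx : x ∉ bitsOf dM) :
    ∃ g ∈ cfgSub [dM] [0, 1, 2], g x = ptOf 5 := by
  obtain ⟨g, hg, hgx⟩ := cchain_trans rkDodChT rkDodChT_valid [dM] m12B3 rkDodCh rkDod_chain 5 3
    [x] (List.nodup_singleton _) (by simp [m12B3]) (by
      intro i h3 hi
      have hi' : i < 4 := by simpa using hi
      have : i = 3 := by omega
      rw [this]
      intro m _
      rfl) (by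
      intro p hp
      rw [List.mem_singleton] at hp
      rw [hp]
      exact (inCell_dM' x).2 hx) (by
      intro p hp hcon
      rw [List.mem_singleton] at hp
      rw [hp] at hcon
      exact hx ((mem_bitsOf _ _).2 (dM_take3 _ hcon))) 1 (by simp)
  exact ⟨g, hg, hgx 0 (by simp) (by decide)⟩

theorem m12_3_compl (x y : GolayPt) (hx : x ∉ bitsOf dM) (hy : y ∉ bitsOf dM) :
    ∃ g ∈ cfgSub [dM] [0, 1, 2], g x = y := by
  obtain ⟨g1, hg1, h1⟩ := m12_3_to5 x hx
  obtain ⟨g2, hg2, h2⟩ := m12_3_to5 y hy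
  refine ⟨g2⁻¹ * g1, Subgroup.mul_mem _ (inv_mem hg2) hg1, ?_⟩
  rw [Equiv.Perm.mul_apply, h1, ← h2]
  change g2.symm (g2 y) = y
  rw [Equiv.symm_apply_apply]

theorem dod_flag3 (d : Finset GolayPt) (hd : d ∈ dodecads) (p q r : GolayPt) (hp : p ∈ d)
    (hq : q ∈ d) (hr : r ∈ d) (hpq : p ≠ q) (hpr : p ≠ r) (hqr : q ≠ r) :
    ∃ σ ∈ M24, σ • bitsOf dM = d ∧ σ (ptOf 0) = p ∧ σ (ptOf 1) = q ∧ σ (ptOf 2) = r := by
  obtain ⟨σ1, hσ1, hσd⟩ := dod_to_dM d hd
  have hm : ∀ z, z ∈ d → σ1⁻¹ z ∈ bitsOf dM := by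
    intro z hz
    exact (smul_inv_mem σ1 _ z).2 (by rw [hσd]; exact hz)
  obtain ⟨g, hg, hgl⟩ := m12_trans [σ1⁻¹ p, σ1⁻¹ q, σ1⁻¹ r] [ptOf 0, ptOf 1, ptOf 2]
    (nodup3 _ _ _ (fun h => hpq (σ1⁻¹.injective h)) (fun h => hpr (σ1⁻¹.injective h))
      (fun h => hqr (σ1⁻¹.injective h))) (by decide) (by
      intro x hx
      simp only [List.mem_cons, List.not_mem_nil, or_false] at hx
      rcases hx with rfl | rfl | rfl
      · exact hm p hp
      · exact hm q hq
      · exact hm r hr) (by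
      intro x hx
      simp only [List.mem_cons, List.not_mem_nil, or_false] at hx
      rcases hx with rfl | rfl | rfl
      · exact pt_mem_dM 0 (by decide)
      · exact pt_mem_dM 1 (by decide)
      · exact pt_mem_dM 2 (by decide)) rfl (by simp)
  have h0 : g (σ1⁻¹ p) = ptOf 0 := hgl 0 (by simp)
  have h1 : g (σ1⁻¹ q) = ptOf 1 := hgl 1 (by simp)
  have h2 : g (σ1⁻¹ r) = ptOf 2 := hgl 2 (by simp)
  have hgd : g • bitsOf dM = bitsOf dM := ((mem_m12 g).1 hg).2
  have key : ∀ (z : GolayPt) (j : ℕ), g (σ1⁻¹ z) = ptOf j → (σ1 * g⁻¹) (ptOf j) = z := by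
    intro z j h
    rw [Equiv.Perm.mul_apply, ← h]
    change σ1 (g.symm (g (σ1⁻¹ z))) = z
    rw [Equiv.symm_apply_apply]
    change σ1 (σ1.symm z) = z
    rw [Equiv.apply_symm_apply]
  refine ⟨σ1 * g⁻¹, Subgroup.mul_mem _ hσ1 (inv_mem ((mem_m12 g).1 hg).1), ?_, key p 0 h0,
    key q 1 h1, key r 2 h2⟩
  rw [mul_smul, inv_smul_eq_iff.2 hgd.symm, hσd]

theorem mem_stab_dpqr (d : Finset GolayPt) (p q r : GolayPt) (g : M24) :
    g ∈ MulAction.stabilizer M24 d ⊓ MulAction.stabilizer M24 p ⊓ MulAction.stabilizer M24 q ⊓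
      MulAction.stabilizer M24 r ↔ (g : Equiv.Perm GolayPt) ∈ stabSub [d] [p, q, r] := by
  rw [Subgroup.mem_inf, Subgroup.mem_inf, Subgroup.mem_inf, MulAction.mem_stabilizer_iff,
    MulAction.mem_stabilizer_iff, MulAction.mem_stabilizer_iff, MulAction.mem_stabilizer_iff,
    mem_stabSub]
  constructor
  · rintro ⟨⟨⟨h1, h2⟩, h3⟩, h4⟩
    refine ⟨g.2, ?_, ?_⟩
    · intro s hs
      rw [List.mem_singleton] at hs
      rw [hs]
      exact h1
    · intro x hx
      simp only [List.mem_cons, List.not_mem_nil, or_false] at hx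
      rcases hx with rfl | rfl | rfl
      · exact h2
      · exact h3
      · exact h4
  · rintro ⟨_, h2, h3⟩
    exact ⟨⟨⟨h2 d (List.mem_singleton_self _), h3 p (by simp)⟩, h3 q (by simp)⟩, h3 r (by simp)⟩

theorem s1600 (d : Finset GolayPt) (hd : d ∈ dodecads) (p q r : GolayPt) (hp : p ∈ d)
    (hq : q ∈ d) (hr : r ∈ d) (hpq : p ≠ q) (hpr : p ≠ r) (hqr : q ≠ r) :
    Nat.card ↥(MulAction.stabilizer M24 d ⊓ MulAction.stabilizer M24 p ⊓
      MulAction.stabilizer M24 q ⊓ MulAction.stabilizer M24 r) = 72 ∧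
    ∀ x ∉ d, ∀ y ∉ d, ∃ g ∈ (MulAction.stabilizer M24 d ⊓ MulAction.stabilizer M24 p ⊓
      MulAction.stabilizer M24 q ⊓ MulAction.stabilizer M24 r),
      ((g : ↥M24) : Equiv.Perm GolayPt) x = y := by
  obtain ⟨σ, hσ, hσd, h0, h1, h2⟩ := dod_flag3 d hd p q r hp hq hr hpq hpr hqr
  subst hσd h0 h1 h2
  constructor
  · rw [card_sub M24 _ (stabSub [σ • bitsOf dM] [σ (ptOf 0), σ (ptOf 1), σ (ptOf 2)])
      (mem_stab_dpqr _ _ _ _) (stabSub_le _ _)]
    have h3 : stabSub [σ • bitsOf dM] [σ (ptOf 0), σ (ptOf 1), σ (ptOf 2)] =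
        stabSub ([bitsOf dM].map (fun s => σ • s)) ([ptOf 0, ptOf 1, ptOf 2].map σ) := rfl
    rw [h3, card_stabSub_conj σ hσ, ← card_m12_3, cfgSub_eq_stabSub]
    rfl
  · intro x hx y hy
    have hx' : σ⁻¹ x ∉ bitsOf dM := fun h => hx ((smul_inv_mem σ _ x).1 h)
    have hy' : σ⁻¹ y ∉ bitsOf dM := fun h => hy ((smul_inv_mem σ _ y).1 h)
    obtain ⟨g, hg, hgx⟩ := m12_3_compl _ _ hx' hy'
    have hgM : σ * g * σ⁻¹ ∈ M24 := conj_mem σ g hσ hg.1
    refine ⟨⟨σ * g * σ⁻¹, hgM⟩, ?_, ?_⟩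
    · rw [mem_stab_dpqr, mem_stabSub]
      refine ⟨hgM, ?_, ?_⟩
      · intro s hs
        rw [List.mem_singleton] at hs
        rw [hs]
        exact conj_smul σ g _ _ (hg.2.1 dM (List.mem_singleton_self _))
      · intro z hz
        simp only [List.mem_cons, List.not_mem_nil, or_false] at hz
        rcases hz with rfl | rfl | rfl
        · exact conj_apply σ g _ _ (hg.2.2 0 (by simp))
        · exact conj_apply σ g _ _ (hg.2.2 1 (by simp))
        · exact conj_apply σ g _ _ (hg.2.2 2 (by simp))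
    · change (σ * g * σ⁻¹) x = y
      rw [Equiv.Perm.mul_apply, Equiv.Perm.mul_apply, hgx]
      change σ (σ.symm y) = y
      rw [Equiv.apply_symm_apply]

end Cfsg.Agent.Lib.Helper9.Leech
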