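import Cfsg.Agent.Lib.Helper9.Fam
import Cfsg.Prelude.Def_SporadicCombinatorics

set_option autoImplicit false
open Cfsg

namespace Cfsg.Agent.Lib.Helper9.Leech

open scoped Pointwise
open Cfsg.Agent.S5393 Cfsg.Agent.S5548

/-! ### sextets -/

theorem sextets_smul (g : Equiv.Perm GolayPt) (hg : g ∈ M24) (S : Finset (Finset GolayPt))
    (hS : S ∈ sextets) : g • S ∈ sextets := by
  obtain ⟨h1, h2, h3⟩ := hS
  refine ⟨by rw [Finset.card_smul_finset]; exact h1, ?_, ?_⟩
  · intro t ht
    obtain ⟨t', ht', rfl⟩ := Finset.mem_smul_finset.1 ht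
    rw [Finset.card_smul_finset]
    exact h2 t' ht'
  · intro t ht u hu htu
    obtain ⟨t', ht', rfl⟩ := Finset.mem_smul_finset.1 ht
    obtain ⟨u', hu', rfl⟩ := Finset.mem_smul_finset.1 hu
    rw [← Finset.smul_finset_union]
    exact octads_smul g hg _ (h3 t' ht' u' hu' (fun h => htu (by rw [h])))

def sextChk (c : ℕ) : Bool :=
  validK 6 c && (allBelow (fun i => Nat.beq (popc (ent c 24 i)) 4) 6 &&
    allBelow (fun i => allBelow (fun j => Nat.beq i j ||
      memL (Nat.lor (ent c 24 i) (ent c 24 j)) octL) 6) 6)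

theorem sext_of_chk (c : ℕ) (h : sextChk c = true) : semK 6 c ∈ sextets := by
  unfold sextChk at h
  simp only [Bool.and_eq_true] at h
  obtain ⟨hv, hp, hu⟩ := h
  refine ⟨semK_card 6 c hv, ?_, ?_⟩
  · intro t ht
    obtain ⟨i, hi, rfl⟩ := (mem_semK 6 c t).1 ht
    rw [card_bitsOf]
    exact Nat.eq_of_beq_eq_true (allBelow_spec _ 6 hp i hi)
  · intro t ht u hu' htu
    obtain ⟨i, hi, rfl⟩ := (mem_semK 6 c t).1 ht
    obtain ⟨j, hj, rfl⟩ := (mem_semK 6 c u).1 hu'
    have h1 := allBelow_spec _ 6 (allBelow_spec _ 6 hu i hi) j hj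
    rw [Bool.or_eq_true] at h1
    rcases h1 with h1 | h1
    · exact absurd (by rw [Nat.eq_of_beq_eq_true h1]) htu
    · rw [bitsOf_or]
      exact (mem_octads _).2 ⟨_, memL_mem _ _ h1, rfl⟩

def sextLoc (c T : ℕ) : Bool :=
  octL.all (fun m => !(Nat.beq (Nat.land T m) T) ||
    (List.range 6).any (fun i => Nat.beq (Nat.lor (ent c 24 i) T) m &&
      Nat.beq (Nat.land (ent c 24 i) T) 0))

theorem sext_local (c T : ℕ) (hT : T < 2 ^ 24) (hv : validK 6 c = true)
    (hTc : ∃ i < 6, ent c 24 i = T) (h : sextLoc c T = true) :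
    ∀ S ∈ sextets, bitsOf T ∈ S → S = semK 6 c := by
  intro S hS hTS
  obtain ⟨h1, h2, h3⟩ := hS
  apply Finset.eq_of_subset_of_card_le
  · intro u hu
    by_cases hut : u = bitsOf T
    · rw [hut]
      obtain ⟨i, hi, he⟩ := hTc
      exact (mem_semK 6 c _).2 ⟨i, hi, by rw [he]⟩
    · have ho := h3 _ hTS u hu (fun h => hut h.symm)
      obtain ⟨m, hm, hmb⟩ := (mem_octads _).1 ho
      have hsub : bitsOf T ⊆ bitsOf m := by
        rw [hmb]
        exact Finset.subset_union_left
      have h4 := land_eq_of_sub T m hT hsub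
      have h5 := List.all_eq_true.1 h m hm
      rw [Bool.or_eq_true] at h5
      rcases h5 with h5 | h5
      · exfalso
        have h6 : Nat.beq (Nat.land T m) T = true := by
          change Nat.beq (T &&& m) T = true
          rw [h4]
          exact Nat.beq_refl T
        rw [h6] at h5
        exact absurd h5 (by decide)
      · obtain ⟨i, hi, h6⟩ := List.any_eq_true.1 h5
        rw [Bool.and_eq_true] at h6
        have h7 : ent c 24 i ||| T = m := Nat.eq_of_beq_eq_true h6.1
        have h8 : ent c 24 i &&& T = 0 := Nat.eq_of_beq_eq_true h6.2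
        have hd1 : Disjoint (bitsOf (ent c 24 i)) (bitsOf T) := disj_of_land_eq_zero _ _ h8
        have hd2 : Disjoint (bitsOf T) u := by
          have hc := Finset.card_union_add_card_inter (bitsOf T) u
          rw [octad_card _ ho, h2 _ hTS, h2 u hu] at hc
          rw [Finset.disjoint_iff_inter_eq_empty, ← Finset.card_eq_zero]
          omega
        have e1 : (bitsOf T ∪ u) \ bitsOf T = u := Finset.union_sdiff_cancel_left hd2
        have e2 : (bitsOf T ∪ bitsOf (ent c 24 i)) \ bitsOf T = bitsOf (ent c 24 i) :=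
          Finset.union_sdiff_cancel_left hd1.symm
        have e3 : bitsOf T ∪ bitsOf (ent c 24 i) = bitsOf T ∪ u := by
          rw [Finset.union_comm, bitsOf_or, h7, hmb]
        rw [← e1, ← e3, e2]
        exact (mem_semK 6 c _).2 ⟨i, List.mem_range.1 hi, rfl⟩
  · rw [h1, semK_card 6 c hv]

set_option maxRecDepth 100000 in
theorem sext0_chk : sextChk (codeAt 6 sextLE 0) = true := by decide +kernel

theorem sext0_mem : semK 6 (codeAt 6 sextLE 0) ∈ sextets := sext_of_chk _ sext0_chk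

set_option maxRecDepth 100000 in
theorem sext0_loc : sextLoc (codeAt 6 sextLE 0) 8388615 = true := by decide +kernel

set_option maxRecDepth 100000 in
theorem sext0_T : ∃ i < 6, ent (codeAt 6 sextLE 0) 24 i = 8388615 := ⟨5, by decide, by decide +kernel⟩

theorem sext0_T_mem : bitsOf 8388615 ∈ semK 6 (codeAt 6 sextLE 0) := by
  obtain ⟨i, hi, he⟩ := sext0_T
  exact (mem_semK 6 _ _).2 ⟨i, hi, by rw [he]⟩

theorem sext_local0 : ∀ S ∈ sextets, bitsOf 8388615 ∈ S → S = semK 6 (codeAt 6 sextLE 0) :=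
  sext_local _ 8388615 (by decide) (famChk_valid 6 sextLE 1771 sext_fam 0 (by decide)) sext0_T
    sext0_loc

theorem four_trans (t : Finset GolayPt) (ht : t.card = 4) :
    ∃ σ ∈ M24, σ • bitsOf 8388615 = t := by
  have hb : bitsOf 8388615 = ([ptOf 0, ptOf 1, ptOf 2, ptOf 23] : List GolayPt).toFinset := by
    rw [bitsOf_list]
    have h1 : (List.range 24).filter (fun j => (8388615 : ℕ).testBit j) = [0, 1, 2, 23] := by
      decide
    rw [h1]
    rfl
  obtain ⟨σ, hσ, h⟩ := trans_list [ptOf 0, ptOf 1, ptOf 2, ptOf 23] t.toList (by decide)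
    (Finset.nodup_toList t) (by simp [ht]) (by simp)
  refine ⟨σ, hσ, ?_⟩
  rw [hb, smul_toFinset σ _ _ (by simp [ht]) h, Finset.toList_toFinset]

theorem sext_pull (σ : Equiv.Perm GolayPt) (hσ : σ ∈ M24) (S : Finset (Finset GolayPt))
    (hS : S ∈ sextets) (h : σ • bitsOf 8388615 ∈ S) :
    S = σ • semK 6 (codeAt 6 sextLE 0) := by
  have h1 : σ⁻¹ • S = semK 6 (codeAt 6 sextLE 0) := by
    apply sext_local0 _ (sextets_smul σ⁻¹ (inv_mem hσ) S hS)
    have h2 := Finset.smul_mem_smul_finset (a := σ⁻¹) h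
    rw [inv_smul_smul] at h2
    exact h2
  rw [← h1, smul_inv_smul]

theorem mem_sextets (S : Finset (Finset GolayPt)) :
    S ∈ sextets ↔ ∃ i < 1771, semK 6 (codeAt 6 sextLE i) = S := by
  constructor
  · intro hS
    have hne : S.Nonempty := by
      rw [← Finset.card_pos, hS.1]
      decide
    obtain ⟨t, ht⟩ := hne
    obtain ⟨σ, hσ, hσt⟩ := four_trans t (hS.2.1 t ht)
    rw [← hσt] at ht
    obtain ⟨j, hj, he⟩ := sext_closed σ hσ 0 (by decide)
    exact ⟨j, hj, by rw [← he, ← sext_pull σ hσ S hS ht]⟩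
  · rintro ⟨i, hi, rfl⟩
    obtain ⟨g, hg, he⟩ := sext_orbit i hi
    rw [← he]
    exact sextets_smul g hg _ sext0_mem

theorem s1550 : (∀ t : Finset GolayPt, t.card = 4 →
    ∃! S : Finset (Finset GolayPt), S ∈ sextets ∧ t ∈ S) ∧ sextets.ncard = 1771 := by
  constructor
  · intro t ht
    obtain ⟨σ, hσ, hσt⟩ := four_trans t ht
    refine ⟨σ • semK 6 (codeAt 6 sextLE 0), ⟨sextets_smul σ hσ _ sext0_mem, ?_⟩, ?_⟩
    · rw [← hσt]
      exact Finset.smul_mem_smul_finset sext0_T_mem
    · rintro S' ⟨hS', htS'⟩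
      rw [← hσt] at htS'
      exact sext_pull σ hσ S' hS' htS'
  · exact ncard_enum sextets 6 sextLE 1771 mem_sextets sext_fam

end Cfsg.Agent.Lib.Helper9.Leech
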