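import Cfsg.Agent.Lib.Helper9.NormCert
import Cfsg.Agent.Lib.Helper9.SimpCertData
import Cfsg.Agent.Lib.Helper9.M12

set_option autoImplicit false
open Cfsg

namespace Cfsg.Agent.Lib.Helper9.Leech

open scoped Pointwise
open Cfsg.Agent.S5393 Cfsg.Agent.S5548

def powT (t : List ℕ) : ℕ → List ℕ
  | 0 => idT
  | k + 1 => compT (powT t k) t

theorem TblP_pow (g : Equiv.Perm GolayPt) (t : List ℕ) (hg : TblP g t) :
    ∀ k, TblP (g ^ k) (powT t k)
  | 0 => by
    rw [pow_zero]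
    exact TblP_one
  | k + 1 => by
    rw [pow_succ]
    exact TblP_mul _ _ _ _ (TblP_pow g t hg k) hg

theorem seed_spec (big : List (List ℕ)) (hbig : ∀ t ∈ big, ∃ g ∈ M24, TblP g t) (ix : ℕ)
    (ms ps : List ℕ) (hps : ∀ j ∈ ps, j < 24) (l : ℕ) (a : ℕ) (ha : a < 24)
    (hcfg : cfgOK (big.getD ix idT) ms ps = true)
    (hpow : eqT (powT (big.getD ix idT) l) idT = true)
    (hlt : (big.getD ix idT).getD a 0 < 24)
    (hne : (big.getD ix idT).getD a 0 ≠ a) :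
    ∃ s ∈ cfgSub ms ps, TblP s (big.getD ix idT) ∧ s ≠ 1 ∧ s ^ l = 1 := by
  obtain ⟨g, hg, ht⟩ := getD_valid M24 big hbig ix
  refine ⟨g, cfgOK_mem g hg _ ht ms ps hps hcfg, ht, ?_, ?_⟩
  · intro h1
    have h2 := TblP_apply g _ ht a ha
    rw [h1] at h2
    exact hne (ptOf_inj _ _ hlt ha h2.symm)
  · have h1 := TblP_pow g _ ht l
    rw [eqT_eq _ _ hpow] at h1
    exact TblP_ext _ _ _ h1 TblP_one

theorem core_cfg (big : List (List ℕ)) (hbig : ∀ t ∈ big, ∃ g ∈ M24, TblP g t)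
    (ms bs : List ℕ) (hlt : ∀ j ∈ bs, j < 24) (hnd : bs.Nodup) (hbot : cfgSub ms bs = ⊥)
    (s : ℕ) (l : ℕ) [Fact l.Prime] (hsq : ¬ l ^ 2 ∣ Nat.card (cfgSub ms (bs.take s)))
    (ix a : ℕ) (ha : a < 24)
    (hcfg : cfgOK (big.getD ix idT) ms (bs.take s) = true)
    (hpow : eqT (powT (big.getD ix idT) l) idT = true)
    (hlt' : (big.getD ix idT).getD a 0 < 24)
    (hne' : (big.getD ix idT).getD a 0 ≠ a)
    (cidx : List ℕ)
    (hc : (cidx.map (fun k => big.getD k idT)).all (fun t => cfgOK t ms (bs.take s)) = true)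
    (NT : List (List ℕ)) (NI : List NIns)
    (hns : nslpOK (cidx.map (fun k => big.getD k idT)) [idT, big.getD ix idT] NT NI = true)
    (ntr : List (List (ℕ × ℕ)))
    (hlev : ∀ i < bs.length, s ≤ i → nlevelOK ([idT, big.getD ix idT] ++ NT) ms bs ntr i)
    (N : Subgroup (Equiv.Perm GolayPt)) (hle : N ≤ cfgSub ms (bs.take s))
    (hconj : ∀ g ∈ cfgSub ms (bs.take s), ∀ n ∈ N, g * n * g⁻¹ ∈ N)
    (hdvd : l ∣ Nat.card N) : N = cfgSub ms (bs.take s) := by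
  apply le_antisymm hle
  have hps : ∀ j ∈ bs.take s, j < 24 := fun j hj => hlt j (List.mem_of_mem_take hj)
  obtain ⟨sd, hsK, hst, hs1, hsl⟩ := seed_spec big hbig ix ms (bs.take s) hps l a ha hcfg hpow
    hlt' hne'
  have hsN := sylow_step (cfgSub ms (bs.take s)) N hle hconj l hdvd hsq sd hsK hs1 hsl
  exact ncert_cfg big hbig ms bs hlt hnd hbot s N (hle.trans (cfgSub_le _ _)) hconj cidx hc
    _ ⟨sd, hsN, hst⟩ NT NI hns ntr hlev

theorem core_fix (big : List (List ℕ)) (hbig : ∀ t ∈ big, ∃ g ∈ M24, TblP g t)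
    (s : ℕ) (hs : s ≤ 7) (l : ℕ) [Fact l.Prime]
    (hsq : ¬ l ^ 2 ∣ Nat.card (fixSub (baseL.take s)))
    (ix a : ℕ) (ha : a < 24)
    (hcfg : cfgOK (big.getD ix idT) [] (baseL.take s) = true)
    (hpow : eqT (powT (big.getD ix idT) l) idT = true)
    (hlt' : (big.getD ix idT).getD a 0 < 24)
    (hne' : (big.getD ix idT).getD a 0 ≠ a)
    (cidx : List ℕ)
    (hc : (cidx.map (fun k => big.getD k idT)).all (fun t => cfgOK t [] (baseL.take s)) = true)
    (NT : List (List ℕ)) (NI : List NIns)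
    (hns : nslpOK (cidx.map (fun k => big.getD k idT)) [idT, big.getD ix idT] NT NI = true)
    (ntr : List (List (ℕ × ℕ)))
    (hlev : ∀ i < 7, s ≤ i → nfixLevelOK ([idT, big.getD ix idT] ++ NT) ntr i)
    (N : Subgroup (Equiv.Perm GolayPt)) (hle : N ≤ fixSub (baseL.take s))
    (hconj : ∀ g ∈ fixSub (baseL.take s), ∀ n ∈ N, g * n * g⁻¹ ∈ N)
    (hdvd : l ∣ Nat.card N) : N = fixSub (baseL.take s) := by
  apply le_antisymm hle
  have hps : ∀ j ∈ baseL.take s, j < 24 := take_lt s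
  obtain ⟨sd, hsK, hst, hs1, hsl⟩ := seed_spec big hbig ix [] (baseL.take s) hps l a ha hcfg hpow
    hlt' hne'
  rw [cfgSub_nil_eq] at hsK
  have hsN := sylow_step (fixSub (baseL.take s)) N hle hconj l hdvd hsq sd hsK hs1 hsl
  exact ncert_fix big hbig s hs N (hle.trans (fun _ h => h.1)) hconj cidx hc
    _ ⟨sd, hsN, hst⟩ NT NI hns ntr hlev

end Cfsg.Agent.Lib.Helper9.Leech
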