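import Cfsg.Agent.Lib.Helper9.SimpCert

set_option autoImplicit false
open Cfsg

namespace Cfsg.Agent.Lib.Helper9.Leech

open scoped Pointwise
open Cfsg.Agent.S5393 Cfsg.Agent.S5548

/-! ### transport helpers -/

def subEquiv {G : Type*} [Group G] (K : Subgroup G) (H : Subgroup ↥K) (L : Subgroup G)
    (h : ∀ g : K, g ∈ H ↔ (g : G) ∈ L) (hL : L ≤ K) : H ≃* L where
  toFun x := ⟨x.1.1, (h x.1).1 x.2⟩
  invFun y := ⟨⟨y.1, hL y.2⟩, (h _).2 y.2⟩
  left_inv _ := rfl
  right_inv _ := rfl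
  map_mul' _ _ := rfl

def conjEquiv (σ : Equiv.Perm GolayPt) (hσ : σ ∈ M24) (S : List (Finset GolayPt))
    (P : List GolayPt) : stabSub S P ≃* stabSub (S.map (fun s => σ • s)) (P.map σ) where
  toFun x := ⟨σ * x.1 * σ⁻¹, stabSub_conj σ hσ S P x.1 x.2⟩
  invFun y := ⟨σ⁻¹ * y.1 * σ, stabSub_conj_back σ hσ S P y.1 y.2⟩
  left_inv x := by
    apply Subtype.ext
    change σ⁻¹ * (σ * x.1 * σ⁻¹) * σ = x.1
    group
  right_inv y := by
    apply Subtype.ext
    change σ * (σ⁻¹ * y.1 * σ) * σ⁻¹ = y.1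
    group
  map_mul' x y := by
    apply Subtype.ext
    change σ * (x.1 * y.1) * σ⁻¹ = σ * x.1 * σ⁻¹ * (σ * y.1 * σ⁻¹)
    group

theorem simple_stab (S0 : List (Finset GolayPt)) (P0 : List GolayPt)
    (h0 : IsSimpleGroup (stabSub S0 P0)) (σ : Equiv.Perm GolayPt) (hσ : σ ∈ M24)
    (S : List (Finset GolayPt)) (P : List GolayPt) (hS : S = S0.map (fun s => σ • s))
    (hP : P = P0.map σ) : IsSimpleGroup (stabSub S P) := by
  subst hS hP
  exact (conjEquiv σ hσ S0 P0).symm.isSimpleGroup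

theorem simple_of_card (K : Subgroup (Equiv.Perm GolayPt)) (hcard : 1 < Nat.card K)
    (hcore : ∀ N : Subgroup (Equiv.Perm GolayPt), N ≤ K →
      (∀ g ∈ K, ∀ n ∈ N, g * n * g⁻¹ ∈ N) → N ≠ ⊥ → N = K) : IsSimpleGroup K := by
  apply simple_of_core K _ hcore
  apply exists_ne_one_of_ne_bot
  intro h
  rw [h, Subgroup.card_bot] at hcard
  exact absurd hcard (by decide)

/-! ### M23 -/

set_option maxRecDepth 100000 in
theorem m23G_ok : slpOK allT m23GT m23GI = true := by decide +kernel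

theorem m23big_valid : ∀ t ∈ allT ++ m23GT, ∃ g ∈ M24, TblP g t :=
  slpOK_spec M24 m23GT m23GI allT allT_M24 m23G_ok

set_option maxRecDepth 100000 in
theorem m23_cfg : cfgOK ((allT ++ m23GT).getD m23SeedIx idT) [] (baseL.take 1) = true := by
  decide +kernel

set_option maxRecDepth 100000 in
theorem m23_pow : eqT (powT ((allT ++ m23GT).getD m23SeedIx idT) 23) idT = true := by
  decide +kernel

set_option maxRecDepth 100000 in
theorem m23_lt : ((allT ++ m23GT).getD m23SeedIx idT).getD 0 0 < 24 := by decide +kernel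

set_option maxRecDepth 100000 in
theorem m23_ne : ((allT ++ m23GT).getD m23SeedIx idT).getD 0 0 ≠ 0 := by decide +kernel

set_option maxRecDepth 100000 in
theorem m23_c : (m23C.map (fun k => (allT ++ m23GT).getD k idT)).all
    (fun t => cfgOK t [] (baseL.take 1)) = true := by decide +kernel

set_option maxRecDepth 100000 in
theorem m23_ns : nslpOK (m23C.map (fun k => (allT ++ m23GT).getD k idT))
    [idT, (allT ++ m23GT).getD m23SeedIx idT] m23NT m23NI = true := by decide +kernel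

set_option maxRecDepth 100000 in
theorem m23_lev : ∀ i < 7, 1 ≤ i →
    nfixLevelOK ([idT, (allT ++ m23GT).getD m23SeedIx idT] ++ m23NT) m23NTr i := by
  decide +kernel

theorem mem_fix1 (g : Equiv.Perm GolayPt) :
    g ∈ fixSub (baseL.take 1) ↔ g ∈ M24 ∧ g (ptOf 23) = ptOf 23 := by
  rw [mem_fixSub]
  constructor
  · rintro ⟨h1, h2⟩
    exact ⟨h1, h2 23 (by decide)⟩
  · rintro ⟨h1, h2⟩
    refine ⟨h1, ?_⟩
    intro j hj
    have : j = 23 := by
      revert hj
      decide +revert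
    rw [this]
    exact h2

theorem m23_dvd (N : Subgroup (Equiv.Perm GolayPt)) (hle : N ≤ fixSub (baseL.take 1))
    (hconj : ∀ g ∈ fixSub (baseL.take 1), ∀ n ∈ N, g * n * g⁻¹ ∈ N) (hne : N ≠ ⊥) :
    23 ∣ Nat.card N := by
  have h := ps_dvdA (fixSub (baseL.take 1)) N {q | q ≠ ptOf 23} (by
      intro g hg p hp
      rw [mem_fix1] at hg
      intro h
      apply hp
      apply g.injective
      rw [h, hg.2]) (by
      intro g hg h
      rw [mem_fix1] at hg
      apply Equiv.ext
      intro p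
      by_cases hp : p = ptOf 23
      · rw [hp, hg.2]
        rfl
      · exact h p hp) (by
      intro p hp q hq hpq p' hp' q' hq' hpq'
      obtain ⟨g, hg, h1, h2, h3⟩ := trans3 (ptOf 23) p q (ptOf 23) p' q' (Ne.symm hp)
        (Ne.symm hq) hpq (Ne.symm hp') (Ne.symm hq') hpq'
      exact ⟨g, (mem_fix1 g).2 ⟨hg, h1⟩, h2, h3⟩) hle hconj hne (ptOf 0) (by
      change ptOf 0 ≠ ptOf 23
      decide)
  rw [ncard_compl_pt] at h
  exact h

theorem m23_core (N : Subgroup (Equiv.Perm GolayPt)) (hle : N ≤ fixSub (baseL.take 1))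
    (hconj : ∀ g ∈ fixSub (baseL.take 1), ∀ n ∈ N, g * n * g⁻¹ ∈ N) (hne : N ≠ ⊥) :
    N = fixSub (baseL.take 1) := by
  have : Fact (Nat.Prime 23) := ⟨by norm_num⟩
  exact core_fix (allT ++ m23GT) m23big_valid 1 (by decide) 23 (by rw [card_fix1]; decide)
    m23SeedIx 0 (by decide) m23_cfg m23_pow m23_lt m23_ne m23C m23_c m23NT m23NI m23_ns m23NTr
    m23_lev N hle hconj (m23_dvd N hle hconj hne)

theorem fixSub_eq_stabSub (l : List ℕ) : fixSub l = stabSub [] (l.map ptOf) := by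
  rw [← cfgSub_nil_eq, cfgSub_eq_stabSub]
  rfl

theorem m23_simple0 : IsSimpleGroup (stabSub [] [ptOf 23]) := by
  have h : stabSub [] [ptOf 23] = fixSub (baseL.take 1) := by
    rw [fixSub_eq_stabSub]
    rfl
  rw [h]
  exact simple_of_card _ (by rw [card_fix1]; decide) m23_core

theorem m23_simple (p : GolayPt) : IsSimpleGroup (stabSub [] [p]) := by
  obtain ⟨σ, hσ, hσp⟩ := trans1 (ptOf 23) p
  exact simple_stab [] [ptOf 23] m23_simple0 σ hσ [] [p] rfl (by rw [List.map_singleton, hσp])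

/-! ### M22 -/

set_option maxRecDepth 100000 in
theorem m22G_ok : slpOK allT m22GT m22GI = true := by decide +kernel

theorem m22big_valid : ∀ t ∈ allT ++ m22GT, ∃ g ∈ M24, TblP g t :=
  slpOK_spec M24 m22GT m22GI allT allT_M24 m22G_ok

set_option maxRecDepth 100000 in
theorem m22_cfg : cfgOK ((allT ++ m22GT).getD m22SeedIx idT) [] (baseL.take 2) = true := by
  decide +kernel

set_option maxRecDepth 100000 in
theorem m22_pow : eqT (powT ((allT ++ m22GT).getD m22SeedIx idT) 11) idT = true := by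
  decide +kernel

set_option maxRecDepth 100000 in
theorem m22_lt : ((allT ++ m22GT).getD m22SeedIx idT).getD 1 0 < 24 := by decide +kernel

set_option maxRecDepth 100000 in
theorem m22_ne : ((allT ++ m22GT).getD m22SeedIx idT).getD 1 0 ≠ 1 := by decide +kernel

set_option maxRecDepth 100000 in
theorem m22_c : (m22C.map (fun k => (allT ++ m22GT).getD k idT)).all
    (fun t => cfgOK t [] (baseL.take 2)) = true := by decide +kernel

set_option maxRecDepth 100000 in
theorem m22_ns : nslpOK (m22C.map (fun k => (allT ++ m22GT).getD k idT))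
    [idT, (allT ++ m22GT).getD m22SeedIx idT] m22NT m22NI = true := by decide +kernel

set_option maxRecDepth 100000 in
theorem m22_lev : ∀ i < 7, 2 ≤ i →
    nfixLevelOK ([idT, (allT ++ m22GT).getD m22SeedIx idT] ++ m22NT) m22NTr i := by
  decide +kernel

theorem mem_fix2 (g : Equiv.Perm GolayPt) :
    g ∈ fixSub (baseL.take 2) ↔ g ∈ M24 ∧ g (ptOf 23) = ptOf 23 ∧ g (ptOf 0) = ptOf 0 := by
  rw [mem_fixSub]
  constructor
  · rintro ⟨h1, h2⟩
    exact ⟨h1, h2 23 (by decide), h2 0 (by decide)⟩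
  · rintro ⟨h1, h2, h3⟩
    refine ⟨h1, ?_⟩
    intro j hj
    have : j = 23 ∨ j = 0 := by
      revert hj
      decide +revert
    rcases this with rfl | rfl
    · exact h2
    · exact h3

theorem pt23_ne_pt0 : ptOf 23 ≠ ptOf 0 := by decide

theorem ncard_compl_pair (a b : GolayPt) (hab : a ≠ b) :
    ({q | q ≠ a ∧ q ≠ b} : Set GolayPt).ncard = 22 := by
  have h : ({q | q ≠ a ∧ q ≠ b} : Set GolayPt) = ({a, b} : Set GolayPt)ᶜ := by
    ext q
    simp
  rw [h, Set.ncard_compl, Set.ncard_pair hab, card_golayPt]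

theorem nodup4 (a b c d : GolayPt) (hab : a ≠ b) (hac : a ≠ c) (had : a ≠ d) (hbc : b ≠ c)
    (hbd : b ≠ d) (hcd : c ≠ d) : [a, b, c, d].Nodup := by
  simp [hab, hac, had, hbc, hbd, hcd]

theorem m22_dvd (N : Subgroup (Equiv.Perm GolayPt)) (hle : N ≤ fixSub (baseL.take 2))
    (hconj : ∀ g ∈ fixSub (baseL.take 2), ∀ n ∈ N, g * n * g⁻¹ ∈ N) (hne : N ≠ ⊥) :
    11 ∣ Nat.card N := by
  have h := ps_dvdA (fixSub (baseL.take 2)) N {q | q ≠ ptOf 23 ∧ q ≠ ptOf 0} (by
      intro g hg p hp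
      rw [mem_fix2] at hg
      constructor
      · intro h
        apply hp.1
        apply g.injective
        rw [h, hg.2.1]
      · intro h
        apply hp.2
        apply g.injective
        rw [h, hg.2.2]) (by
      intro g hg h
      rw [mem_fix2] at hg
      apply Equiv.ext
      intro p
      by_cases hp : p = ptOf 23
      · rw [hp, hg.2.1]
        rfl
      · by_cases hp' : p = ptOf 0
        · rw [hp', hg.2.2]
          rfl
        · exact h p ⟨hp, hp'⟩) (by
      intro p hp q hq hpq p' hp' q' hq' hpq'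
      obtain ⟨g, hg, h1⟩ := trans_list [ptOf 23, ptOf 0, p, q] [ptOf 23, ptOf 0, p', q']
        (nodup4 _ _ _ _ pt23_ne_pt0 (Ne.symm hp.1) (Ne.symm hq.1) (Ne.symm hp.2) (Ne.symm hq.2)
          hpq)
        (nodup4 _ _ _ _ pt23_ne_pt0 (Ne.symm hp'.1) (Ne.symm hq'.1) (Ne.symm hp'.2)
          (Ne.symm hq'.2) hpq') rfl (by simp)
      exact ⟨g, (mem_fix2 g).2 ⟨hg, h1 0 (by simp), h1 1 (by simp)⟩, h1 2 (by simp),
        h1 3 (by simp)⟩) hle hconj hne (ptOf 1) (by
      change ptOf 1 ≠ ptOf 23 ∧ ptOf 1 ≠ ptOf 0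
      decide)
  rw [ncard_compl_pair _ _ pt23_ne_pt0] at h
  exact Dvd.dvd.trans (by decide) h

theorem m22_core (N : Subgroup (Equiv.Perm GolayPt)) (hle : N ≤ fixSub (baseL.take 2))
    (hconj : ∀ g ∈ fixSub (baseL.take 2), ∀ n ∈ N, g * n * g⁻¹ ∈ N) (hne : N ≠ ⊥) :
    N = fixSub (baseL.take 2) := by
  have : Fact (Nat.Prime 11) := ⟨by norm_num⟩
  exact core_fix (allT ++ m22GT) m22big_valid 2 (by decide) 11 (by rw [card_fix2]; decide)
    m22SeedIx 1 (by decide) m22_cfg m22_pow m22_lt m22_ne m22C m22_c m22NT m22NI m22_ns m22NTr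
    m22_lev N hle hconj (m22_dvd N hle hconj hne)

theorem m22_simple0 : IsSimpleGroup (stabSub [] [ptOf 23, ptOf 0]) := by
  have h : stabSub [] [ptOf 23, ptOf 0] = fixSub (baseL.take 2) := by
    rw [fixSub_eq_stabSub]
    rfl
  rw [h]
  exact simple_of_card _ (by rw [card_fix2]; decide) m22_core

theorem m22_simple (p q : GolayPt) (hpq : p ≠ q) : IsSimpleGroup (stabSub [] [p, q]) := by
  obtain ⟨σ, hσ, hσp, hσq⟩ := trans2 (ptOf 23) (ptOf 0) p q pt23_ne_pt0 hpq
  exact simple_stab [] [ptOf 23, ptOf 0] m22_simple0 σ hσ [] [p, q] rfl (by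
    rw [List.map_cons, List.map_singleton, hσp, hσq])

/-! ### M12 -/

set_option maxRecDepth 100000 in
theorem m12sG_ok : slpOK allT m12sGT m12sGI = true := by decide +kernel

theorem m12sbig_valid : ∀ t ∈ allT ++ m12sGT, ∃ g ∈ M24, TblP g t :=
  slpOK_spec M24 m12sGT m12sGI allT allT_M24 m12sG_ok

set_option maxRecDepth 100000 in
theorem m12s_cfg : cfgOK ((allT ++ m12sGT).getD m12sSeedIx idT) [dM] (m12B.take 0) = true := by
  decide +kernel

set_option maxRecDepth 100000 in
theorem m12s_pow : eqT (powT ((allT ++ m12sGT).getD m12sSeedIx idT) 11) idT = true := by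
  decide +kernel

set_option maxRecDepth 100000 in
theorem m12s_lt : ((allT ++ m12sGT).getD m12sSeedIx idT).getD 0 0 < 24 := by decide +kernel

set_option maxRecDepth 100000 in
theorem m12s_ne : ((allT ++ m12sGT).getD m12sSeedIx idT).getD 0 0 ≠ 0 := by decide +kernel

set_option maxRecDepth 100000 in
theorem m12s_c : (m12sC.map (fun k => (allT ++ m12sGT).getD k idT)).all
    (fun t => cfgOK t [dM] (m12B.take 0)) = true := by decide +kernel

set_option maxRecDepth 100000 in
theorem m12s_ns : nslpOK (m12sC.map (fun k => (allT ++ m12sGT).getD k idT))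
    [idT, (allT ++ m12sGT).getD m12sSeedIx idT] m12sNT m12sNI = true := by decide +kernel

set_option maxRecDepth 100000 in
theorem m12s_lev : ∀ i < m12B.length, 0 ≤ i →
    nlevelOK ([idT, (allT ++ m12sGT).getD m12sSeedIx idT] ++ m12sNT) [dM] m12B m12sNTr i := by
  decide +kernel

theorem m12B_lt : ∀ j ∈ m12B, j < 24 := by decide

theorem m12B_nodup : m12B.Nodup := by decide

theorem mem_m12 (g : Equiv.Perm GolayPt) :
    g ∈ cfgSub [dM] [] ↔ g ∈ M24 ∧ g • bitsOf dM = bitsOf dM := by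
  rw [mem_cfgSub]
  constructor
  · rintro ⟨h1, h2, _⟩
    exact ⟨h1, h2 dM (List.mem_singleton_self _)⟩
  · rintro ⟨h1, h2⟩
    refine ⟨h1, ?_, fun j hj => absurd hj (by simp)⟩
    intro m hm
    rw [List.mem_singleton] at hm
    rw [hm]
    exact h2

theorem mem_m11 (g : Equiv.Perm GolayPt) :
    g ∈ cfgSub [dM] (m12B.take 1) ↔
      g ∈ M24 ∧ g • bitsOf dM = bitsOf dM ∧ g (ptOf 0) = ptOf 0 := by
  rw [mem_cfgSub]
  constructor
  · rintro ⟨h1, h2, h3⟩
    exact ⟨h1, h2 dM (List.mem_singleton_self _), h3 0 (by decide)⟩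
  · rintro ⟨h1, h2, h3⟩
    refine ⟨h1, ?_, ?_⟩
    · intro m hm
      rw [List.mem_singleton] at hm
      rw [hm]
      exact h2
    · intro j hj
      have : j = 0 := by
        revert hj
        decide +revert
      rw [this]
      exact h3

theorem pt_mem_dM : ∀ j ∈ m12B, ptOf j ∈ bitsOf dM := by
  intro j hj
  rw [mem_bitsOf, idx_ptOf j (m12B_lt j hj)]
  revert j
  decide +kernel

theorem m12B_pts_nodup : (m12B.map ptOf).Nodup := by decide +kernel

theorem popc_dM : popc dM = 12 := by decide +kernel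

theorem ncard_dM : (↑(bitsOf dM) : Set GolayPt).ncard = 12 := by
  rw [Set.ncard_coe_finset, card_bitsOf, popc_dM]

theorem nodup3 (a b c : GolayPt) (hab : a ≠ b) (hac : a ≠ c) (hbc : b ≠ c) :
    [a, b, c].Nodup := by
  simp [hab, hac, hbc]

theorem m12_faith (g : Equiv.Perm GolayPt) (hg : g ∈ cfgSub [dM] [])
    (h : ∀ p ∈ bitsOf dM, g p = p) : g = 1 := by
  apply m12_fix5 g hg (m12B.map ptOf) m12B_pts_nodup _ rfl
  · intro p hp
    rw [List.mem_map] at hp
    obtain ⟨j, hj, rfl⟩ := hp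
    exact h _ (pt_mem_dM j hj)
  · intro p hp
    rw [List.mem_map] at hp
    obtain ⟨j, hj, rfl⟩ := hp
    exact pt_mem_dM j hj

theorem m12s_dvd (N : Subgroup (Equiv.Perm GolayPt)) (hle : N ≤ cfgSub [dM] [])
    (hconj : ∀ g ∈ cfgSub [dM] [], ∀ n ∈ N, g * n * g⁻¹ ∈ N) (hne : N ≠ ⊥) :
    11 ∣ Nat.card N := by
  have h := ps_dvdB (cfgSub [dM] []) N (↑(bitsOf dM) : Set GolayPt) (by
      intro g hg p hp
      rw [mem_m12] at hg
      exact smul_mem_of_inv g _ hg.2 p hp) (by
      intro g hg h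
      exact m12_faith g hg h) (by
      intro p hp q hq r hr hpq hpr hqr p' hp' q' hq' r' hr' hpq' hpr' hqr'
      obtain ⟨g, hg, h1⟩ := m12_trans [p, q, r] [p', q', r'] (nodup3 _ _ _ hpq hpr hqr)
        (nodup3 _ _ _ hpq' hpr' hqr') (by
          intro x hx
          simp only [List.mem_cons, List.not_mem_nil, or_false] at hx
          rcases hx with rfl | rfl | rfl
          · exact hp
          · exact hq
          · exact hr) (by
          intro x hx
          simp only [List.mem_cons, List.not_mem_nil, or_false] at hx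
          rcases hx with rfl | rfl | rfl
          · exact hp'
          · exact hq'
          · exact hr') rfl (by simp)
      exact ⟨g, hg, h1 0 (by simp), h1 1 (by simp), h1 2 (by simp)⟩)
    (by rw [ncard_dM]; decide) (by rw [ncard_dM]; decide) (by rw [ncard_dM]; decide)
    hle hconj hne (ptOf 0) (pt_mem_dM 0 (by decide))
  rw [ncard_dM] at h
  exact h

theorem m12s_core (N : Subgroup (Equiv.Perm GolayPt)) (hle : N ≤ cfgSub [dM] [])
    (hconj : ∀ g ∈ cfgSub [dM] [], ∀ n ∈ N, g * n * g⁻¹ ∈ N) (hne : N ≠ ⊥) :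
    N = cfgSub [dM] [] := by
  have : Fact (Nat.Prime 11) := ⟨by norm_num⟩
  exact core_cfg (allT ++ m12sGT) m12sbig_valid [dM] m12B m12B_lt m12B_nodup m12_sharp 0 11
    (by
      change ¬ 11 ^ 2 ∣ Nat.card (cfgSub [dM] [])
      rw [card_m12]
      decide)
    m12sSeedIx 0 (by decide) m12s_cfg m12s_pow m12s_lt m12s_ne m12sC m12s_c m12sNT m12sNI
    m12s_ns m12sNTr m12s_lev N hle hconj (m12s_dvd N hle hconj hne)

theorem m12_simple0 : IsSimpleGroup (stabSub [bitsOf dM] []) := by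
  have h : stabSub [bitsOf dM] [] = cfgSub [dM] [] := by
    rw [cfgSub_eq_stabSub]
    rfl
  rw [h]
  exact simple_of_card _ (by rw [card_m12]; decide) m12s_core

theorem m12_simple (d : Finset GolayPt) (hd : d ∈ dodecads) : IsSimpleGroup (stabSub [d] []) := by
  rw [← orbit_dodecad _ dM_dodecad] at hd
  obtain ⟨σ, hσ⟩ := hd
  exact simple_stab [bitsOf dM] [] m12_simple0 σ.1 σ.2 [d] [] (by
    rw [List.map_singleton]
    exact congrArg (fun x => [x]) hσ.symm) rfl

/-! ### M11 -/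

set_option maxRecDepth 100000 in
theorem m11sG_ok : slpOK allT m11sGT m11sGI = true := by decide +kernel

theorem m11sbig_valid : ∀ t ∈ allT ++ m11sGT, ∃ g ∈ M24, TblP g t :=
  slpOK_spec M24 m11sGT m11sGI allT allT_M24 m11sG_ok

set_option maxRecDepth 100000 in
theorem m11s_cfg : cfgOK ((allT ++ m11sGT).getD m11sSeedIx idT) [dM] (m12B.take 1) = true := by
  decide +kernel

set_option maxRecDepth 100000 in
theorem m11s_pow : eqT (powT ((allT ++ m11sGT).getD m11sSeedIx idT) 11) idT = true := by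
  decide +kernel

set_option maxRecDepth 100000 in
theorem m11s_lt : ((allT ++ m11sGT).getD m11sSeedIx idT).getD 1 0 < 24 := by decide +kernel

set_option maxRecDepth 100000 in
theorem m11s_ne : ((allT ++ m11sGT).getD m11sSeedIx idT).getD 1 0 ≠ 1 := by decide +kernel

set_option maxRecDepth 100000 in
theorem m11s_c : (m11sC.map (fun k => (allT ++ m11sGT).getD k idT)).all
    (fun t => cfgOK t [dM] (m12B.take 1)) = true := by decide +kernel

set_option maxRecDepth 100000 in
theorem m11s_ns : nslpOK (m11sC.map (fun k => (allT ++ m11sGT).getD k idT))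
    [idT, (allT ++ m11sGT).getD m11sSeedIx idT] m11sNT m11sNI = true := by decide +kernel

set_option maxRecDepth 100000 in
theorem m11s_lev : ∀ i < m12B.length, 1 ≤ i →
    nlevelOK ([idT, (allT ++ m11sGT).getD m11sSeedIx idT] ++ m11sNT) [dM] m12B m11sNTr i := by
  decide +kernel

theorem ncard_dM' : ({q | q ∈ bitsOf dM ∧ q ≠ ptOf 0} : Set GolayPt).ncard = 11 := by
  have h : ({q | q ∈ bitsOf dM ∧ q ≠ ptOf 0} : Set GolayPt) =
      (↑(bitsOf dM) : Set GolayPt) \ {ptOf 0} := by
    ext q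
    simp
  rw [h, Set.ncard_sdiff_singleton_of_mem (pt_mem_dM 0 (by decide)), ncard_dM]

theorem m11s_dvd (N : Subgroup (Equiv.Perm GolayPt)) (hle : N ≤ cfgSub [dM] (m12B.take 1))
    (hconj : ∀ g ∈ cfgSub [dM] (m12B.take 1), ∀ n ∈ N, g * n * g⁻¹ ∈ N) (hne : N ≠ ⊥) :
    11 ∣ Nat.card N := by
  have h := ps_dvdA (cfgSub [dM] (m12B.take 1)) N {q | q ∈ bitsOf dM ∧ q ≠ ptOf 0} (by
      intro g hg p hp
      rw [mem_m11] at hg
      refine ⟨smul_mem_of_inv g _ hg.2.1 p hp.1, ?_⟩
      intro h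
      apply hp.2
      apply g.injective
      rw [h, hg.2.2]) (by
      intro g hg h
      rw [mem_m11] at hg
      apply m12_faith g ((mem_m12 g).2 ⟨hg.1, hg.2.1⟩)
      intro p hp
      by_cases hp0 : p = ptOf 0
      · rw [hp0]
        exact hg.2.2
      · exact h p ⟨hp, hp0⟩) (by
      intro p hp q hq hpq p' hp' q' hq' hpq'
      obtain ⟨g, hg, h1⟩ := m12_trans [ptOf 0, p, q] [ptOf 0, p', q']
        (nodup3 _ _ _ (Ne.symm hp.2) (Ne.symm hq.2) hpq)
        (nodup3 _ _ _ (Ne.symm hp'.2) (Ne.symm hq'.2) hpq') (by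
          intro x hx
          simp only [List.mem_cons, List.not_mem_nil, or_false] at hx
          rcases hx with rfl | rfl | rfl
          · exact pt_mem_dM 0 (by decide)
          · exact hp.1
          · exact hq.1) (by
          intro x hx
          simp only [List.mem_cons, List.not_mem_nil, or_false] at hx
          rcases hx with rfl | rfl | rfl
          · exact pt_mem_dM 0 (by decide)
          · exact hp'.1
          · exact hq'.1) rfl (by simp)
      rw [mem_m12] at hg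
      exact ⟨g, (mem_m11 g).2 ⟨hg.1, hg.2, h1 0 (by simp)⟩, h1 1 (by simp), h1 2 (by simp)⟩)
    hle hconj hne (ptOf 1) ⟨pt_mem_dM 1 (by decide), by decide⟩
  rw [ncard_dM'] at h
  exact h

theorem m11s_core (N : Subgroup (Equiv.Perm GolayPt)) (hle : N ≤ cfgSub [dM] (m12B.take 1))
    (hconj : ∀ g ∈ cfgSub [dM] (m12B.take 1), ∀ n ∈ N, g * n * g⁻¹ ∈ N) (hne : N ≠ ⊥) :
    N = cfgSub [dM] (m12B.take 1) := by
  have : Fact (Nat.Prime 11) := ⟨by norm_num⟩
  exact core_cfg (allT ++ m11sGT) m11sbig_valid [dM] m12B m12B_lt m12B_nodup m12_sharp 1 11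
    (by
      rw [card_m12_1]
      decide)
    m11sSeedIx 1 (by decide) m11s_cfg m11s_pow m11s_lt m11s_ne m11sC m11s_c m11sNT m11sNI
    m11s_ns m11sNTr m11s_lev N hle hconj (m11s_dvd N hle hconj hne)

theorem m11_simple0 : IsSimpleGroup (stabSub [bitsOf dM] [ptOf 0]) := by
  have h : stabSub [bitsOf dM] [ptOf 0] = cfgSub [dM] (m12B.take 1) := by
    rw [cfgSub_eq_stabSub]
    rfl
  rw [h]
  exact simple_of_card _ (by rw [card_m12_1]; decide) m11s_core

theorem m11_simple (d : Finset GolayPt) (hd : d ∈ dodecads) (p : GolayPt) (hp : p ∈ d) :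
    IsSimpleGroup (stabSub [d] [p]) := by
  obtain ⟨σ, hσ, hσd, hσp⟩ := dod_flag d hd p hp
  exact simple_stab [bitsOf dM] [ptOf 0] m11_simple0 σ hσ [d] [p] (by
    rw [List.map_singleton, hσd]) (by rw [List.map_singleton, hσp])

end Cfsg.Agent.Lib.Helper9.Leech
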