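import Cfsg.Agent.Lib.Helper9.M24Data

set_option autoImplicit false

namespace Cfsg.Agent.Lib.Helper9.Leech

def uA0 : ℕ := 0xbdab49ca307b9ac5a928398a418820b01672b469144d40bc936491072ab7ad946230480c0b3038725c4ef6a697a2095941a6539769946f1442961c179822a3c06d2385533e4b48588b50b79192c2beb315a0e1ac348a8e46a0178950b23a920d5ed12813824c361ed78026a75868115eb0c89439aad8b137791b66494534cf41c44e82561aa01770265aa46c32c2a93c564120d89e97688832b235b2900a2e4734d2f8383760e854b5f183906b054bac88714c175be50a2a754a0b78b9a11b04621ec050cd49c49043c40b15c74c9956ac3748ea76c1ee4598299a912864a22c1740a8663dcd3d56191670202291aad73818e42c625348f0a6d581671352573120d53cf192d931b845b568142417290504265551e261b02f6d1d65cc1720ed4620493d5a0905537962b740d7191eb4c4ed355412cd00859949385710dca440cc2d120248f67d5738b437089a93bcab24d161c4d57515283017005883388a1c8f5140b46cd317aed7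

def uA1 : ℕ := 0xbc80a2b8d55ce2f1a1b061e8120936ba40db4a0e22e882c4f363d4610475b80450d53234dcc6c48bb1d4f82074b85f5580ac7424a4d10d89856190f3b81d45588b6be2944cec8143510cd2bac0450cf44b8d0415f2ab2c19b451ba80e64a7579d71426cda18a120870b98115b2049da454568a3b5c14886fb8410944949bc7659d85135554192eb84079a9eb830c47552341651b504db80cb938e1136b49c4854254f8586cb808a19e8971a082be556583368a2bb840793ea56c5265c19414dc44586ab80510d946240b55ba476368f44c69b81b009c71a32d349172ab9462bc48b806648a54411f17154d5d43065a67bc80ea2ac45b5f14a267640a1a8866b80cfa1ecc5a5a29d5d08a03250c85b822a3b8534bd6c858a86d65430c24b8820b56939460f7358b5250731483b8416ad2728c1ee6b16a4a0e629062b82d5a4e5183dcd62d4941cc520c41bdab49ca307b9ac5a928398a418820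

def uA2 : ℕ := 0xbb68e32aa24b2113a26b915e4186c0bbdd0509a38ad8735113248b6486a0b88a1aa6469b98d891763a9f040e80bc51070892651e7a9546b256d18660bba8ab116d7c52899d90286a219a40bc135651e75d8b350e4e2050d11a20bc5f4356d351524649a7705021ae00bd2016896e3d47689486625529a1e0bd032121443da0c34d7588de9695c0b99235aa9194e0e79196a8507115a0b997271c226d693890a84a9f0b0d80b91433d12e341057caacb066d14560b9432121d5818ecb35647a6239d140b8a21b28c4816ab748ec6d1e898d20bb60138e3465a6922e55728c578900b8cc914a8823e2e2a9aba860cb4ce0bc56c8127691515a28ed705221bcc0b99f43d98b4b453aba114064a190a0bc54770a697ad90b150daca8618480bc9e9a9cb3a2d4e236266060245860ba9a13d0968a24c315d05bd33a8c40bdab49ca307b9ac5a928398a418820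

def uA3 : ℕ := 0xbaa8c94da77922940eae3160b15820bb507839e53596a94c448d1891d420bb8a99216d1119183d5535a671d020bc1ae8acecb55441a51493cc514c20bb54b214f1441e6a3056755331c820bcc853290f1d5abb38474b212a4420bce96aba4521d4b7b4468a12c1c020b99022cd8b55a0d8a69221eae1bc20bc2512526f1d9676144d555064b820b9e6a7ae0c311d548d05946d413420ba8d24bac543e6d3ac54892b01b020bbab44b230258d210e682b4ef52c20b9e4fa95b14997065053711161a820bb4748326b558a68bc4491dd542420bc12cb14d1936877ac4474d551a020bb6d25bcd4855c440d255466c11c20bc088650ef6cdd690d454c6ab11820baa83921731558f3c5c4b19b049420bb170a29e611d32ad9ae1ccb141020bc9669d9d04452caa9af250a710c20bdab49ca307b9ac5a928398a418820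

def uA4 : ℕ := 0xbc8c998c8ca3565729f1a9e08b0820ba5b220e6f59a8572191b40eaa8820bc8ce391eb2a5166c4709d54ca0820bd90f90ce449a0e8aa855b2ad98820bb665325908a08fa386a3d57690820bce4a5c1d578ccdb2684430a788820bb26f30db251105751313d6cb80820b8ed269e85629d59ad062413178820bc0d43a0b678c8b629329d62d70820b9e9278ec6612ae8ad055261368820bc147a0d769a08571ab17a64d60820ba5ae84d942c955344672590f58820bd8ec98e8d5a4912c90e355f050820b98856c9e78aa6c5b86885a9548820bd60f20d66a4a712a54e6d98740820bb1b1b2672755145146f810cb38820bda8e7a0ed2d4925c46c5267030820bcaca8562ba0d069bd27691cc28820b9d0e952d32c0cf544695b1b520820bdab49ca307b9ac5a928398a418820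

end Cfsg.Agent.Lib.Helper9.Leech
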