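import Cfsg.Agent.Lib.Helper9.Elt2
import Cfsg.Agent.Lib.Helper9.SrchData

set_option autoImplicit false
open Cfsg

namespace Cfsg.Agent.Lib.Helper9.Leech

open scoped Pointwise
open Cfsg.Agent.S5393 Cfsg.Agent.S5548

def sumB (p : ℕ → ℕ) : ℕ → ℕ
  | 0 => 0
  | k + 1 => Nat.add (sumB p k) (p k)

theorem ncard_partition {β : Type*} (A : Set β) (hfin : A.Finite) (key : β → ℕ) (X : ℕ → ℕ)
    (n : ℕ) (hinj : ∀ j < n, ∀ j' < n, X j = X j' → j = j')
    (hcov : ∀ a ∈ A, ∃ j < n, key a = X j) :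
    A.ncard = sumB (fun j => {a | a ∈ A ∧ key a = X j}.ncard) n := by
  have h : ∀ m ≤ n, {a | a ∈ A ∧ ∃ j < m, key a = X j}.ncard =
      sumB (fun j => {a | a ∈ A ∧ key a = X j}.ncard) m := by
    intro m
    induction m with
    | zero =>
      intro _
      have h0 : {a | a ∈ A ∧ ∃ j < 0, key a = X j} = ∅ := by
        ext a
        simp
      rw [h0, Set.ncard_empty]
      rfl
    | succ m ih =>
      intro hm
      have hU : {a | a ∈ A ∧ ∃ j < m + 1, key a = X j} =
          {a | a ∈ A ∧ ∃ j < m, key a = X j} ∪ {a | a ∈ A ∧ key a = X m} := by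
        ext a
        simp only [Set.mem_ofPred_eq, Set.mem_union]
        constructor
        · rintro ⟨ha, j, hj, hk⟩
          rcases Nat.lt_succ_iff_lt_or_eq.1 hj with h1 | h1
          · exact Or.inl ⟨ha, j, h1, hk⟩
          · right
            rw [← h1]
            exact ⟨ha, hk⟩
        · rintro (⟨ha, j, hj, hk⟩ | ⟨ha, hk⟩)
          · exact ⟨ha, j, Nat.lt_succ_of_lt hj, hk⟩
          · exact ⟨ha, m, Nat.lt_succ_self m, hk⟩
      have hdisj : Disjoint {a | a ∈ A ∧ ∃ j < m, key a = X j} {a | a ∈ A ∧ key a = X m} := by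
        rw [Set.disjoint_left]
        rintro a ⟨_, j, hj, hk⟩ ⟨_, hk'⟩
        have := hinj j (by omega) m (by omega) (by rw [← hk, hk'])
        omega
      rw [hU, Set.ncard_union_eq hdisj (hfin.subset fun a ha => ha.1)
        (hfin.subset fun a ha => ha.1), ih (by omega)]
      rfl
  have hA : {a | a ∈ A ∧ ∃ j < n, key a = X j} = A := by
    ext a
    constructor
    · intro ha
      exact ha.1
    · intro ha
      exact ⟨ha, hcov a ha⟩
  have h2 := h n le_rfl
  rw [hA] at h2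
  exact h2

/-! ### counting search over the stabiliser chain -/

def srch (loc : ℕ → ℕ → ℕ → Bool) (pass : ℕ → Bool) : List (ℕ × ℕ × ℕ) → ℕ → ℕ → ℕ
  | [], _, acc => cond (pass acc) 1 0
  | (U, n, b) :: rest, d, acc =>
      sumB (fun j => forceN (ent U 120 j) (fun u => forceN (fld acc (fld u b)) (fun y =>
        cond (loc d acc y)
          (forceN (mulN acc u) (fun acc' => srch loc pass rest (Nat.succ d) acc')) 0))) n

def lvOK2 (U n : ℕ) (ks pre : List ℕ) (b : ℕ) (orb : List ℕ) : Bool :=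
  (List.range n).all (fun j => eqT (tblOf (ent U 120 j)) (allT.getD (ks.getD j 0) idT) &&
    pre.all (fun q => Nat.beq (fld (ent U 120 j) q) q)) &&
  (orb.all (fun x => (List.range n).any (fun j => Nat.beq (fld (ent U 120 j) b) x)) &&
    decide (((List.range n).map (fun j => fld (ent U 120 j) b)).Nodup))

def LevP (d U n : ℕ) : Prop :=
  (∀ j < n, ∃ γ ∈ M24, TblP γ (tblOf (ent U 120 j)) ∧ FixL γ (baseL.take d)) ∧
  (∀ x ∈ orbL d, ∃ j < n, fld (ent U 120 j) (baseL.getD d 0) = x) ∧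
  (∀ j < n, ∀ j' < n, fld (ent U 120 j) (baseL.getD d 0) = fld (ent U 120 j') (baseL.getD d 0) →
    j = j')

theorem lev_of_ok (d : ℕ) (U n : ℕ) (ks : List ℕ)
    (h : lvOK2 U n ks (baseL.take d) (baseL.getD d 0) (orbL d) = true) : LevP d U n := by
  unfold lvOK2 at h
  rw [Bool.and_eq_true, Bool.and_eq_true, List.all_eq_true, List.all_eq_true,
    decide_eq_true_eq] at h
  obtain ⟨hv, hcov, hnd⟩ := h
  refine ⟨?_, ?_, ?_⟩
  · intro j hj
    have h2 := hv j (List.mem_range.2 hj)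
    rw [Bool.and_eq_true, List.all_eq_true] at h2
    obtain ⟨u, hu, hut⟩ := getD_valid M24 allT allT_M24' (ks.getD j 0)
    rw [← eqT_eq _ _ h2.1] at hut
    refine ⟨u, hu, hut, ?_⟩
    intro q hq
    have h3 := Nat.eq_of_beq_eq_true (h2.2 q hq)
    have hq24 : q < 24 := take_lt d q hq
    have h4 := TblP_idx u _ hut (ptOf q)
    rw [idx_ptOf q hq24, h3] at h4
    rw [← ptOf_idx (u (ptOf q)), h4]
  · intro x hx
    have h1 := hcov x hx
    rw [List.any_eq_true] at h1
    obtain ⟨j, hj, hjx⟩ := h1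
    exact ⟨j, List.mem_range.1 hj, Nat.eq_of_beq_eq_true hjx⟩
  · intro j hj j' hj' he
    exact List.inj_on_of_nodup_map hnd (List.mem_range.2 hj) (List.mem_range.2 hj') he

theorem getD_mem_take (i d : ℕ) (hi : i < d) (hd : d ≤ 7) : baseL.getD i 0 ∈ baseL.take d := by
  have h7 : baseL.length = 7 := rfl
  rw [getD_eq_getElem' baseL i (by omega), List.mem_take_iff_getElem]
  exact ⟨i, by rw [h7]; omega, rfl⟩

theorem fixL_take_succ (f : Equiv.Perm GolayPt) (d : ℕ) (hd : d < 7)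
    (h : FixL f (baseL.take (d + 1))) :
    FixL f (baseL.take d) ∧ f (ptOf (baseL.getD d 0)) = ptOf (baseL.getD d 0) :=
  ⟨fun j hj => h j ((take_succ_mem d hd j).2 (Or.inl hj)),
    h _ ((take_succ_mem d hd _).2 (Or.inr rfl))⟩

theorem sumB_congr (p q : ℕ → ℕ) : ∀ n, (∀ j < n, p j = q j) → sumB p n = sumB q n := by
  intro n
  induction n with
  | zero =>
    intro _
    rfl
  | succ n ih =>
    intro h
    rw [sumB, sumB, ih (fun j hj => h j (Nat.lt_succ_of_lt hj)), h n (Nat.lt_succ_self n)]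

theorem srch_step (Φ : Equiv.Perm GolayPt → Prop) (loc : ℕ → ℕ → ℕ → Bool) (pass : ℕ → Bool)
    (hloc : ∀ g ∈ M24, Φ g → ∀ d < 7, ∀ a,
      (∀ i < d, idx (g (ptOf (baseL.getD i 0))) = fld a (baseL.getD i 0)) →
      loc d a (idx (g (ptOf (baseL.getD d 0)))) = true)
    (d : ℕ) (hd : d < 7) (U n : ℕ) (rest : List (ℕ × ℕ × ℕ)) (hlev : LevP d U n)
    (ih : ∀ α ∈ M24, ∀ acc, TblP α (tblOf acc) →
      {f | f ∈ fixSet (d + 1) ∧ Φ (α * f)}.ncard = srch loc pass rest (d + 1) acc) :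
    ∀ α ∈ M24, ∀ acc, TblP α (tblOf acc) →
      {f | f ∈ fixSet d ∧ Φ (α * f)}.ncard =
        srch loc pass ((U, n, baseL.getD d 0) :: rest) d acc := by
  intro α hα acc hacc
  obtain ⟨hV, hC, hU⟩ := hlev
  have hb : baseL.getD d 0 < 24 := getD_lt d hd
  rw [ncard_partition {f | f ∈ fixSet d ∧ Φ (α * f)} (Set.toFinite _)
    (fun f => idx (f (ptOf (baseL.getD d 0)))) (fun j => fld (ent U 120 j) (baseL.getD d 0)) n hU
    (fun f hf => by
      obtain ⟨j, hj, he⟩ := hC _ (bound d hd f hf.1.1 hf.1.2)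
      exact ⟨j, hj, he.symm⟩), srch]
  apply sumB_congr
  intro j hj
  rw [forceN_eq, forceN_eq]
  obtain ⟨γ, hγ, hγt, hγfix⟩ := hV j hj
  have hγb : idx (γ (ptOf (baseL.getD d 0))) = fld (ent U 120 j) (baseL.getD d 0) := by
    rw [TblP_idx γ _ hγt, idx_ptOf _ hb]
  have himg : {a | a ∈ {f | f ∈ fixSet d ∧ Φ (α * f)} ∧
      idx (a (ptOf (baseL.getD d 0))) = fld (ent U 120 j) (baseL.getD d 0)} =
      (fun f' => γ * f') '' {f' | f' ∈ fixSet (d + 1) ∧ Φ (α * γ * f')} := by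
    ext f
    simp only [Set.mem_ofPred_eq, Set.mem_image]
    constructor
    · rintro ⟨⟨hf, hΦ⟩, hk⟩
      refine ⟨γ⁻¹ * f, ⟨⟨mul_mem (inv_mem hγ) hf.1, ?_⟩, ?_⟩, by group⟩
      · intro q hq
        rw [take_succ_mem d hd] at hq
        rcases hq with hq | rfl
        · exact FixL_mul _ _ _ (FixL_inv _ _ hγfix) hf.2 q hq
        · have h1 : f (ptOf (baseL.getD d 0)) = γ (ptOf (baseL.getD d 0)) :=
            idx_inj _ _ (by rw [hk, hγb])
          rw [Equiv.Perm.mul_apply, h1]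
          change γ.symm (γ _) = _
          rw [Equiv.symm_apply_apply]
      · have h2 : α * γ * (γ⁻¹ * f) = α * f := by group
        rw [h2]
        exact hΦ
    · rintro ⟨f', ⟨hf', hΦ⟩, rfl⟩
      obtain ⟨hfix, hfb⟩ := fixL_take_succ f' d hd hf'.2
      refine ⟨⟨⟨mul_mem hγ hf'.1, FixL_mul _ _ _ hγfix hfix⟩, ?_⟩, ?_⟩
      · rw [← mul_assoc]
        exact hΦ
      · rw [Equiv.Perm.mul_apply, hfb, hγb]
  rw [himg, Set.ncard_image_of_injective _ (mul_right_injective γ)]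
  by_cases hl : loc d acc (fld acc (fld (ent U 120 j) (baseL.getD d 0))) = true
  · rw [hl]
    simp only [cond_true]
    rw [forceN_eq]
    exact ih (α * γ) (mul_mem hα hγ) _ (mulN_spec α γ acc _ hacc hγt)
  · rw [Bool.not_eq_true] at hl
    rw [hl]
    simp only [cond_false]
    rw [Set.ncard_eq_zero (Set.toFinite _)]
    ext f'
    simp only [Set.mem_ofPred_eq, Set.mem_empty_iff_false, iff_false]
    rintro ⟨hf', hΦ⟩
    obtain ⟨hfix, hfb⟩ := fixL_take_succ f' d hd hf'.2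
    have h3 := hloc (α * γ * f') (mul_mem (mul_mem hα hγ) hf'.1) hΦ d hd acc (by
      intro i hi
      have hmem := getD_mem_take i d hi (by omega)
      have e1 : (α * γ * f') (ptOf (baseL.getD i 0)) = α (ptOf (baseL.getD i 0)) := by
        rw [Equiv.Perm.mul_apply, Equiv.Perm.mul_apply, hfix _ hmem, hγfix _ hmem]
      rw [e1, TblP_idx α acc hacc, idx_ptOf _ (getD_lt i (by omega))])
    have e2 : idx ((α * γ * f') (ptOf (baseL.getD d 0))) =
        fld acc (fld (ent U 120 j) (baseL.getD d 0)) := by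
      rw [Equiv.Perm.mul_apply, Equiv.Perm.mul_apply, hfb, TblP_idx α acc hacc, hγb]
    rw [e2, hl] at h3
    exact absurd h3 (by decide)

theorem srch_base (Φ : Equiv.Perm GolayPt → Prop) (loc : ℕ → ℕ → ℕ → Bool) (pass : ℕ → Bool)
    (hpass : ∀ g ∈ M24, ∀ t, TblP g (tblOf t) → (Φ g ↔ pass t = true)) :
    ∀ α ∈ M24, ∀ acc, TblP α (tblOf acc) →
      {f | f ∈ fixSet 7 ∧ Φ (α * f)}.ncard = srch loc pass [] 7 acc := by
  intro α hα acc hacc
  rw [srch]
  have h1 : ∀ f ∈ fixSet 7, f = 1 := fun f hf => base_prop f hf.1 hf.2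
  by_cases hp : pass acc = true
  · rw [hp]
    simp only [cond_true]
    have h2 : {f | f ∈ fixSet 7 ∧ Φ (α * f)} = {1} := by
      ext f
      simp only [Set.mem_ofPred_eq, Set.mem_singleton_iff]
      constructor
      · intro hf
        exact h1 f hf.1
      · rintro rfl
        exact ⟨⟨one_mem _, FixL_one _⟩, by rw [mul_one]; exact (hpass α hα acc hacc).2 hp⟩
    rw [h2, Set.ncard_singleton]
  · rw [Bool.not_eq_true] at hp
    rw [hp]
    simp only [cond_false]
    rw [Set.ncard_eq_zero (Set.toFinite _)]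
    ext f
    simp only [Set.mem_ofPred_eq, Set.mem_empty_iff_false, iff_false]
    rintro ⟨hf, hΦ⟩
    rw [h1 f hf, mul_one] at hΦ
    have h3 := (hpass α hα acc hacc).1 hΦ
    rw [hp] at h3
    exact absurd h3 (by decide)

def srLv : List (ℕ × ℕ × ℕ) :=
  [(uA0, 24, 23), (uA1, 23, 0), (uA2, 22, 1), (uA3, 21, 2), (uA4, 20, 3), (u5A, 16, 4), (u6A, 3, 5)]

set_option maxRecDepth 100000 in
theorem lev0 : LevP 0 uA0 24 :=
  lev_of_ok 0 uA0 24 ((transL.getD 0 []).map Prod.snd) (by decide +kernel)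

set_option maxRecDepth 100000 in
theorem lev1 : LevP 1 uA1 23 :=
  lev_of_ok 1 uA1 23 ((transL.getD 1 []).map Prod.snd) (by decide +kernel)

set_option maxRecDepth 100000 in
theorem lev2 : LevP 2 uA2 22 :=
  lev_of_ok 2 uA2 22 ((transL.getD 2 []).map Prod.snd) (by decide +kernel)

set_option maxRecDepth 100000 in
theorem lev3 : LevP 3 uA3 21 :=
  lev_of_ok 3 uA3 21 ((transL.getD 3 []).map Prod.snd) (by decide +kernel)

set_option maxRecDepth 100000 in
theorem lev4 : LevP 4 uA4 20 :=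
  lev_of_ok 4 uA4 20 ((transL.getD 4 []).map Prod.snd) (by decide +kernel)

set_option maxRecDepth 100000 in
theorem lev5 : LevP 5 u5A 16 :=
  lev_of_ok 5 u5A 16 ((transL.getD 5 []).map Prod.snd) (by decide +kernel)

set_option maxRecDepth 100000 in
theorem lev6 : LevP 6 u6A 3 :=
  lev_of_ok 6 u6A 3 ((transL.getD 6 []).map Prod.snd) (by decide +kernel)

/-- the number of elements of the group with a property decided on tables, by a pruned
search through the stabiliser chain -/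
theorem m24_count (Φ : Equiv.Perm GolayPt → Prop) (loc : ℕ → ℕ → ℕ → Bool) (pass : ℕ → Bool)
    (hpass : ∀ g ∈ M24, ∀ t, TblP g (tblOf t) → (Φ g ↔ pass t = true))
    (hloc : ∀ g ∈ M24, Φ g → ∀ d < 7, ∀ a,
      (∀ i < d, idx (g (ptOf (baseL.getD i 0))) = fld a (baseL.getD i 0)) →
      loc d a (idx (g (ptOf (baseL.getD d 0)))) = true) :
    {g | g ∈ M24 ∧ Φ g}.ncard = srch loc pass srLv 0 idN := by
  have h7 := srch_base Φ loc pass hpass
  have h6 := srch_step Φ loc pass hloc 6 (by norm_num) u6A 3 [] lev6 h7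
  have h5 := srch_step Φ loc pass hloc 5 (by norm_num) u5A 16 _ lev5 h6
  have h4 := srch_step Φ loc pass hloc 4 (by norm_num) uA4 20 _ lev4 h5
  have h3 := srch_step Φ loc pass hloc 3 (by norm_num) uA3 21 _ lev3 h4
  have h2 := srch_step Φ loc pass hloc 2 (by norm_num) uA2 22 _ lev2 h3
  have h1 := srch_step Φ loc pass hloc 1 (by norm_num) uA1 23 _ lev1 h2
  have h0 := srch_step Φ loc pass hloc 0 (by norm_num) uA0 24 _ lev0 h1
  have h := h0 1 (one_mem _) idN idN_tbl
  have hset : {f | f ∈ fixSet 0 ∧ Φ (1 * f)} = {g | g ∈ M24 ∧ Φ g} := by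
    ext f
    simp only [Set.mem_ofPred_eq, one_mul]
    constructor
    · rintro ⟨hf, hΦ⟩
      exact ⟨hf.1, hΦ⟩
    · rintro ⟨hf, hΦ⟩
      exact ⟨⟨hf, fun j hj => absurd hj (by simp)⟩, hΦ⟩
  rw [hset] at h
  exact h

end Cfsg.Agent.Lib.Helper9.Leech
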