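import Cfsg.Agent.Lib.Helper9.Sx6Data
import Cfsg.Agent.Lib.Helper9.Hex6

set_option autoImplicit false
open Cfsg

namespace Cfsg.Agent.Lib.Helper9.Leech

open scoped Pointwise
open Cfsg.Agent.S5393 Cfsg.Agent.S5548

/-! ### the base sextet and its six tetrads -/

set_option maxRecDepth 100000 in
theorem sxS_ok : slpChk sxS sxN = true := by decide +kernel

set_option maxRecDepth 100000 in
theorem sxZ_tbl : nodeTbl sxS sxZ = sxZT := by decide +kernel

set_option maxRecDepth 100000 in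
theorem flds0 : flds 6 (codeAt 6 sextLE 0) = tetL := by decide +kernel

set_option maxRecDepth 100000 in
theorem tet_ent : ∀ i < 6, ent (codeAt 6 sextLE 0) 24 i = tetL.getD i 0 := by decide +kernel

theorem tetL_lt : ∀ m ∈ tetL, m < 2 ^ 24 := by decide

def sext0 : Finset (Finset GolayPt) := semK 6 (codeAt 6 sextLE 0)

theorem mem_sext0 (t : Finset GolayPt) : t ∈ sext0 ↔ ∃ m ∈ tetL, bitsOf m = t := by
  unfold sext0
  rw [mem_semK, ← flds0]
  constructor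
  · rintro ⟨i, hi, rfl⟩
    exact ⟨_, (mem_flds 6 _ _).2 ⟨i, hi, rfl⟩, rfl⟩
  · rintro ⟨m, hm, rfl⟩
    obtain ⟨i, hi, rfl⟩ := (mem_flds 6 _ _).1 hm
    exact ⟨i, hi, rfl⟩

theorem mem_sext0i (t : Finset GolayPt) : t ∈ sext0 ↔ ∃ i < 6, bitsOf (tetL.getD i 0) = t := by
  unfold sext0
  rw [mem_semK]
  constructor
  · rintro ⟨i, hi, rfl⟩
    exact ⟨i, hi, by rw [tet_ent i hi]⟩
  · rintro ⟨i, hi, rfl⟩
    exact ⟨i, hi, by rw [tet_ent i hi]⟩

theorem sext_to_base (S : Finset (Finset GolayPt)) (hS : S ∈ sextets) :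
    ∃ σ ∈ M24, σ • sext0 = S := by
  obtain ⟨i, hi, rfl⟩ := (mem_sextets S).1 hS
  exact sext_orbit i hi

/-! ### transpositions of tetrads -/

def swI (i j k : ℕ) : ℕ := cond (Nat.beq k i) j (cond (Nat.beq k j) i k)

def swOK (t i j : ℕ) : Bool :=
  allBelow (fun k => Nat.beq (pullN t (tetL.getD k 0)) (tetL.getD (swI i j k) 0)) 6

set_option maxRecDepth 100000 in
theorem sx_ok : allBelow (fun i => allBelow (fun j => !(Nat.blt i j) ||
    forceN (ent sxI 16 (6 * i + j)) (fun k => Nat.blt k sxN &&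
      forceN (nodeTbl sxS k) (fun t => swOK t i j))) 6) 6 = true := by decide +kernel

theorem swOK_spec (g : Equiv.Perm GolayPt) (t : ℕ) (hg : TblP g (tblOf t)) (i j : ℕ)
    (h : swOK t i j = true) (k : ℕ) (hk : k < 6) :
    g • bitsOf (tetL.getD (swI i j k) 0) = bitsOf (tetL.getD k 0) := by
  have h1 := Nat.eq_of_beq_eq_true (allBelow_spec _ 6 h k hk)
  rw [← h1, ← pullN_spec g t hg, smul_inv_smul]

theorem swI_left (i j : ℕ) : swI i j i = j := by
  unfold swI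
  rw [Nat.beq_refl]
  rfl

theorem swI_right (i j : ℕ) : swI i j j = i := by
  unfold swI
  cases h : Nat.beq j i with
  | true => exact Nat.eq_of_beq_eq_true h
  | false =>
    rw [Nat.beq_refl]
    rfl

theorem swI_other (i j k : ℕ) (hi : k ≠ i) (hj : k ≠ j) : swI i j k = k := by
  unfold swI
  cases h : Nat.beq k i with
  | true => exact absurd (Nat.eq_of_beq_eq_true h) hi
  | false =>
    cases h' : Nat.beq k j with
    | true => exact absurd (Nat.eq_of_beq_eq_true h') hj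
    | false => rfl

theorem swap_base (i j : ℕ) (hj : j < 6) (hij : i < j) :
    ∃ g ∈ M24, g • bitsOf (tetL.getD i 0) = bitsOf (tetL.getD j 0) ∧
      g • bitsOf (tetL.getD j 0) = bitsOf (tetL.getD i 0) ∧
      ∀ k < 6, k ≠ i → k ≠ j → g • bitsOf (tetL.getD k 0) = bitsOf (tetL.getD k 0) := by
  have hi : i < 6 := by omega
  have h := allBelow_spec _ 6 (allBelow_spec _ 6 sx_ok i hi) j hj
  have hb : Nat.blt i j = true := (blt_iff _ _).2 hij
  rw [hb, Bool.not_true, Bool.false_or, forceN_eq, Bool.and_eq_true, forceN_eq] at h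
  obtain ⟨hk, hsw⟩ := h
  obtain ⟨g, hgM, hgt⟩ := slpChk_spec M24 (shift_mem 1) projInv_mem cubeTwist_mem sxS sxN
    sxS_ok _ ((blt_iff _ _).1 hk)
  refine ⟨g, hgM, ?_, ?_, ?_⟩
  · have h1 := swOK_spec g _ hgt i j hsw j hj
    rw [swI_right] at h1
    exact h1
  · have h1 := swOK_spec g _ hgt i j hsw i hi
    rw [swI_left] at h1
    exact h1
  · intro k hk6 hki hkj
    have h1 := swOK_spec g _ hgt i j hsw k hk6
    rw [swI_other i j k hki hkj] at h1
    exact h1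

def SwapP (S : Finset (Finset GolayPt)) : Prop :=
  ∀ t1 ∈ S, ∀ t2 ∈ S, t1 ≠ t2 → ∃ g ∈ M24, g • t1 = t2 ∧ g • t2 = t1 ∧
    ∀ t ∈ S, t ≠ t1 → t ≠ t2 → g • t = t

theorem swap_sext0 : SwapP sext0 := by
  intro t1 h1 t2 h2 hne
  obtain ⟨i, hi, rfl⟩ := (mem_sext0i t1).1 h1
  obtain ⟨j, hj, rfl⟩ := (mem_sext0i t2).1 h2
  have hij : i ≠ j := fun h => hne (by rw [h])
  rcases Nat.lt_or_gt_of_ne hij with hlt | hgt
  · obtain ⟨g, hg, ha, hb, hc⟩ := swap_base i j hj hlt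
    refine ⟨g, hg, ha, hb, ?_⟩
    intro t ht hn1 hn2
    obtain ⟨k, hk, rfl⟩ := (mem_sext0i t).1 ht
    exact hc k hk (fun h => hn1 (by rw [h])) (fun h => hn2 (by rw [h]))
  · obtain ⟨g, hg, ha, hb, hc⟩ := swap_base j i hi hgt
    refine ⟨g, hg, hb, ha, ?_⟩
    intro t ht hn1 hn2
    obtain ⟨k, hk, rfl⟩ := (mem_sext0i t).1 ht
    exact hc k hk (fun h => hn2 (by rw [h])) (fun h => hn1 (by rw [h]))

theorem swap_conj (σ : Equiv.Perm GolayPt) (hσ : σ ∈ M24) (S : Finset (Finset GolayPt))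
    (h : SwapP S) : SwapP (σ • S) := by
  intro t1 h1 t2 h2 hne
  obtain ⟨u1, hu1, rfl⟩ := Finset.mem_smul_finset.1 h1
  obtain ⟨u2, hu2, rfl⟩ := Finset.mem_smul_finset.1 h2
  obtain ⟨g, hg, ha, hb, hc⟩ := h u1 hu1 u2 hu2 (fun h => hne (by rw [h]))
  refine ⟨σ * g * σ⁻¹, conj_mem σ g hσ hg, conj_smul σ g u1 u2 ha, conj_smul σ g u2 u1 hb, ?_⟩
  intro t ht hn1 hn2
  obtain ⟨u, hu, rfl⟩ := Finset.mem_smul_finset.1 ht
  exact conj_smul σ g u u (hc u hu (fun h => hn1 (by rw [h])) (fun h => hn2 (by rw [h])))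

def indSub (S : Finset (Finset GolayPt)) : Subgroup (Equiv.Perm ↥S) where
  carrier := {e | ∃ g ∈ M24, ∀ t : ↥S, g • (t : Finset GolayPt) = ((e t : ↥S) : Finset GolayPt)}
  mul_mem' := by
    rintro a b ⟨g, hg, hga⟩ ⟨h, hh, hhb⟩
    refine ⟨g * h, mul_mem hg hh, fun t => ?_⟩
    rw [mul_smul, hhb t, hga (b t)]
    rfl
  one_mem' := ⟨1, one_mem _, fun t => one_smul _ _⟩
  inv_mem' := by
    rintro a ⟨g, hg, hga⟩
    refine ⟨g⁻¹, inv_mem hg, fun t => ?_⟩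
    rw [inv_smul_eq_iff, hga (a⁻¹ t)]
    simp

theorem indSub_top (S : Finset (Finset GolayPt)) (hsw : SwapP S) : indSub S = ⊤ := by
  rw [eq_top_iff, ← Equiv.Perm.closure_isSwap, Subgroup.closure_le]
  rintro e ⟨x, y, hxy, rfl⟩
  obtain ⟨g, hg, ha, hb, hc⟩ := hsw x.1 x.2 y.1 y.2 (fun h => hxy (Subtype.ext h))
  refine ⟨g, hg, fun t => ?_⟩
  rw [Equiv.swap_apply_def]
  split_ifs with h1 h2
  · rw [h1]
    exact ha
  · rw [h2]
    exact hb
  · exact hc t.1 t.2 (fun h => h1 (Subtype.ext h)) (fun h => h2 (Subtype.ext h))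

theorem fixall_stab (S : Finset (Finset GolayPt)) (g : Equiv.Perm GolayPt)
    (h : ∀ t ∈ S, g • t = t) : g • S = S := by
  apply Finset.eq_of_subset_of_card_le
  · intro u hu
    obtain ⟨t, ht, rfl⟩ := Finset.mem_smul_finset.1 hu
    rw [h t ht]
    exact ht
  · rw [Finset.card_smul_finset]

theorem sext_sym (S : Finset (Finset GolayPt)) (hsw : SwapP S) (e : Equiv.Perm ↥S) :
    ∃ g ∈ MulAction.stabilizer ↥M24 S, ∀ t : ↥S,
      ((g : ↥M24) : Equiv.Perm GolayPt) • (t : Finset GolayPt) = ((e t : ↥S) : Finset GolayPt) := by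
  have he : e ∈ indSub S := by
    rw [indSub_top S hsw]
    exact Subgroup.mem_top e
  obtain ⟨g, hg, hge⟩ := he
  refine ⟨⟨g, hg⟩, ?_, hge⟩
  rw [MulAction.mem_stabilizer_iff]
  change g • S = S
  apply Finset.eq_of_subset_of_card_le
  · intro u hu
    obtain ⟨t, ht, rfl⟩ := Finset.mem_smul_finset.1 hu
    have h1 := hge ⟨t, ht⟩
    change g • t = _ at h1
    rw [h1]
    exact (e ⟨t, ht⟩).2
  · rw [Finset.card_smul_finset]

/-! ### the kernel on the tetrads -/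

theorem kerS_card (S : Finset (Finset GolayPt)) :
    Nat.card {g : ↥(MulAction.stabilizer ↥M24 S) //
      ∀ t ∈ S, ((g : ↥M24) : Equiv.Perm GolayPt) • t = t} =
      {g : Equiv.Perm GolayPt | g ∈ M24 ∧ ∀ t ∈ S, g • t = t}.ncard := by
  rw [← Nat.card_coe_set_eq]
  apply Nat.card_congr
  exact
    { toFun := fun x => ⟨((x.1 : ↥M24) : Equiv.Perm GolayPt), (x.1 : ↥M24).2, x.2⟩
      invFun := fun y => ⟨⟨⟨y.1, y.2.1⟩,
        MulAction.mem_stabilizer_iff.2 (fixall_stab S y.1 y.2.2)⟩, y.2.2⟩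
      left_inv := fun _ => rfl
      right_inv := fun _ => rfl }

theorem fix_ncard_conj (σ : Equiv.Perm GolayPt) (hσ : σ ∈ M24) (E : Finset (Finset GolayPt)) :
    {g | g ∈ M24 ∧ ∀ t ∈ σ • E, g • t = t}.ncard = {g | g ∈ M24 ∧ ∀ t ∈ E, g • t = t}.ncard := by
  rw [← Nat.card_coe_set_eq, ← Nat.card_coe_set_eq]
  apply Nat.card_congr
  refine Equiv.subtypeEquiv (MulAut.conj σ⁻¹).toEquiv ?_
  intro g
  change (g ∈ M24 ∧ ∀ t ∈ σ • E, g • t = t) ↔
    (σ⁻¹ * g * σ⁻¹⁻¹ ∈ M24 ∧ ∀ t ∈ E, (σ⁻¹ * g * σ⁻¹⁻¹) • t = t)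
  rw [inv_inv]
  constructor
  · rintro ⟨hg, h⟩
    refine ⟨mul_mem (mul_mem (inv_mem hσ) hg) hσ, ?_⟩
    intro t ht
    rw [mul_smul, mul_smul, h (σ • t) (Finset.smul_mem_smul_finset ht), inv_smul_smul]
  · rintro ⟨hg, h⟩
    constructor
    · have e : g = σ * (σ⁻¹ * g * σ) * σ⁻¹ := by group
      rw [e]
      exact mul_mem (mul_mem hσ hg) (inv_mem hσ)
    · intro u hu
      obtain ⟨t, ht, rfl⟩ := Finset.mem_smul_finset.1 hu
      have h1 := h t ht
      rw [mul_smul, mul_smul, inv_smul_eq_iff] at h1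
      exact h1

theorem fix_sext0_iff (g : Equiv.Perm GolayPt) :
    (∀ t ∈ sext0, g • t = t) ↔ ∀ m ∈ tetL, g • bitsOf m = bitsOf m := by
  constructor
  · intro h m hm
    exact h _ ((mem_sext0 _).2 ⟨m, hm, rfl⟩)
  · intro h t ht
    obtain ⟨m, hm, rfl⟩ := (mem_sext0 t).1 ht
    exact h m hm

set_option maxRecDepth 100000 in
theorem srchSxK : srch (fun d a y => locM tetL d a y && locT d a y)
    (fun t => passM tetL t && psT t) srLv 0 idN = 192 := by decide +kernel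

theorem sext_ker (S : Finset (Finset GolayPt)) (hS : S ∈ sextets) :
    Nat.card {g : ↥(MulAction.stabilizer ↥M24 S) //
      ∀ t ∈ S, ((g : ↥M24) : Equiv.Perm GolayPt) • t = t} = 192 := by
  obtain ⟨σ, hσ, rfl⟩ := sext_to_base S hS
  rw [kerS_card, fix_ncard_conj σ hσ, ← srchSxK, ← stab_count tetL tetL_lt]
  congr 1
  ext g
  constructor
  · rintro ⟨h1, h2⟩
    exact ⟨h1, (fix_sext0_iff g).1 h2⟩
  · rintro ⟨h1, h2⟩
    exact ⟨h1, (fix_sext0_iff g).2 h2⟩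

/-! ### the normal elementary abelian subgroup of order 64 -/

def FixT (g : Equiv.Perm GolayPt) : Prop := ∀ m ∈ tetL, g • bitsOf m = bitsOf m

def cmZ (t : ℕ) : Bool := all24 (fun i => Nat.beq (fld t (fld sxZT i)) (fld sxZT (fld t i)))

def sq1 (t : ℕ) : Bool := all24 (fun i => Nat.beq (powFld t 2 i) i)

set_option maxRecDepth 100000 in
theorem srchSxA : srch (fun d a y => locM tetL d a y && locT d a y)
    (fun t => passM tetL t && cmZ t) srLv 0 idN = 64 := by decide +kernel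

set_option maxRecDepth 100000 in
theorem srchSxB : srch (fun d a y => locM tetL d a y && locT d a y)
    (fun t => passM tetL t && (cmZ t && sq1 t)) srLv 0 idN = 64 := by decide +kernel

set_option maxRecDepth 100000 in
theorem srchSxC : srch (fun d a y => locM tetL d a y && locT d a y)
    (fun t => passM tetL t && sq1 t) srLv 0 idN = 64 := by decide +kernel

theorem imp_of_ncard {α : Type*} [Finite α] (P Q : α → Prop)
    (h : {g | P g ∧ Q g}.ncard = {g | P g}.ncard) : ∀ g, P g → Q g := by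
  intro g hg
  have hsub : {g | P g ∧ Q g} ⊆ {g | P g} := fun x hx => hx.1
  have heq := Set.eq_of_subset_of_ncard_le hsub (le_of_eq h.symm) (Set.toFinite _)
  have h1 : g ∈ {g | P g ∧ Q g} := by
    rw [heq]
    exact hg
  exact h1.2

def sxNsub (z : Equiv.Perm GolayPt) : Subgroup ↥(MulAction.stabilizer ↥M24 sext0) where
  carrier := {x | FixT ((x : ↥M24) : Equiv.Perm GolayPt) ∧
    Commute ((x : ↥M24) : Equiv.Perm GolayPt) z}
  mul_mem' := by
    rintro a b ⟨ha1, ha2⟩ ⟨hb1, hb2⟩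
    refine ⟨fun m hm => ?_, Commute.mul_left ha2 hb2⟩
    change (((a : ↥M24) : Equiv.Perm GolayPt) * ((b : ↥M24) : Equiv.Perm GolayPt)) • bitsOf m
      = bitsOf m
    rw [mul_smul, hb1 m hm, ha1 m hm]
  one_mem' := ⟨fun m _ => one_smul _ _, Commute.one_left z⟩
  inv_mem' := by
    rintro a ⟨ha1, ha2⟩
    refine ⟨fun m hm => ?_, Commute.inv_left ha2⟩
    change ((a : ↥M24) : Equiv.Perm GolayPt)⁻¹ • bitsOf m = bitsOf m
    rw [inv_smul_eq_iff, ha1 m hm]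

theorem sext0_normal : ∃ N : Subgroup ↥(MulAction.stabilizer ↥M24 sext0),
    N.Normal ∧ Nat.card N = 64 ∧ ∀ x ∈ N, x * x = 1 := by
  obtain ⟨z, hzM, hzt⟩ := slpChk_spec M24 (shift_mem 1) projInv_mem cubeTwist_mem sxS sxN
    sxS_ok sxZ (by decide)
  rw [sxZ_tbl] at hzt
  have ca : {g | g ∈ M24 ∧ (FixT g ∧ g * z = z * g)}.ncard = 64 := by
    rw [← srchSxA]
    exact masks_count' tetL tetL_lt (fun g => g * z = z * g) cmZ
      (fun g t hg => comm_iff_tbl g z t sxZT hg hzt) locT (fun _ _ _ _ _ => rfl)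
  have cb : {g | g ∈ M24 ∧ (FixT g ∧ (g * z = z * g ∧ g ^ 2 = 1))}.ncard = 64 := by
    rw [← srchSxB]
    exact masks_count' tetL tetL_lt (fun g => g * z = z * g ∧ g ^ 2 = 1)
      (fun t => cmZ t && sq1 t) (fun g t hg => by
        rw [Bool.and_eq_true]
        exact and_congr (comm_iff_tbl g z t sxZT hg hzt) (pow_iff_tbl g t 2 hg)) locT (fun _ _ _ _ _ => rfl)
  have cc : {g | g ∈ M24 ∧ (FixT g ∧ g ^ 2 = 1)}.ncard = 64 := by
    rw [← srchSxC]
    exact masks_count' tetL tetL_lt (fun g => g ^ 2 = 1) sq1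
      (fun g t hg => pow_iff_tbl g t 2 hg) locT (fun _ _ _ _ _ => rfl)
  have hAB : ∀ g, (g ∈ M24 ∧ (FixT g ∧ g * z = z * g)) → g ^ 2 = 1 := by
    apply imp_of_ncard
    rw [ca, ← cb]
    congr 1
    ext g
    constructor
    · rintro ⟨⟨h1, h2, h3⟩, h4⟩
      exact ⟨h1, h2, h3, h4⟩
    · rintro ⟨h1, h2, h3, h4⟩
      exact ⟨⟨h1, h2, h3⟩, h4⟩
  have hCB : ∀ g, (g ∈ M24 ∧ (FixT g ∧ g ^ 2 = 1)) → g * z = z * g := by
    apply imp_of_ncard
    rw [cc, ← cb]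
    congr 1
    ext g
    constructor
    · rintro ⟨⟨h1, h2, h3⟩, h4⟩
      exact ⟨h1, h2, h4, h3⟩
    · rintro ⟨h1, h2, h3, h4⟩
      exact ⟨⟨h1, h2, h4⟩, h3⟩
  refine ⟨sxNsub z, ⟨?_⟩, ?_, ?_⟩
  · intro n hn g
    have hn2 : ((n : ↥M24) : Equiv.Perm GolayPt) ^ 2 = 1 :=
      hAB _ ⟨(n : ↥M24).2, hn.1, hn.2⟩
    have hfix : FixT (((g : ↥M24) : Equiv.Perm GolayPt) * ((n : ↥M24) : Equiv.Perm GolayPt) *
        ((g : ↥M24) : Equiv.Perm GolayPt)⁻¹) := by
      intro m hm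
      have hg' : ((g : ↥M24) : Equiv.Perm GolayPt)⁻¹ • bitsOf m ∈ sext0 := by
        have h1 : ((g : ↥M24) : Equiv.Perm GolayPt) • sext0 = sext0 := g.2
        have h2 : bitsOf m ∈ ((g : ↥M24) : Equiv.Perm GolayPt) • sext0 := by
          rw [h1]
          exact (mem_sext0 _).2 ⟨m, hm, rfl⟩
        obtain ⟨u, hu, hue⟩ := Finset.mem_smul_finset.1 h2
        rw [← hue, inv_smul_smul]
        exact hu
      obtain ⟨m', hm', hme⟩ := (mem_sext0 _).1 hg'
      rw [mul_smul, mul_smul, ← hme, hn.1 m' hm', hme, smul_inv_smul]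
    have hsq : (((g : ↥M24) : Equiv.Perm GolayPt) * ((n : ↥M24) : Equiv.Perm GolayPt) *
        ((g : ↥M24) : Equiv.Perm GolayPt)⁻¹) ^ 2 = 1 := by
      rw [conj_pow, hn2, mul_one, mul_inv_cancel]
    exact ⟨hfix, hCB _ ⟨((g * n * g⁻¹ : ↥(MulAction.stabilizer ↥M24 sext0)) : ↥M24).2, hfix, hsq⟩⟩
  · rw [← ca, ← Nat.card_coe_set_eq]
    apply Nat.card_congr
    exact
      { toFun := fun x => ⟨((x.1 : ↥M24) : Equiv.Perm GolayPt), (x.1 : ↥M24).2, x.2.1, x.2.2⟩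
        invFun := fun y => ⟨⟨⟨y.1, y.2.1⟩, MulAction.mem_stabilizer_iff.2
          (fixall_stab sext0 y.1 ((fix_sext0_iff y.1).2 y.2.2.1))⟩, y.2.2.1, y.2.2.2⟩
        left_inv := fun _ => rfl
        right_inv := fun _ => rfl }
  · intro x hx
    have h := hAB _ ⟨(x : ↥M24).2, hx.1, hx.2⟩
    apply Subtype.ext
    apply Subtype.ext
    change ((x : ↥M24) : Equiv.Perm GolayPt) * ((x : ↥M24) : Equiv.Perm GolayPt) = 1
    rw [← pow_two]
    exact h

theorem normal64_of_equiv {H H' : Type*} [Group H] [Group H'] (e : H ≃* H')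
    (h : ∃ N : Subgroup H, N.Normal ∧ Nat.card N = 64 ∧ ∀ x ∈ N, x * x = 1) :
    ∃ N : Subgroup H', N.Normal ∧ Nat.card N = 64 ∧ ∀ x ∈ N, x * x = 1 := by
  obtain ⟨N, hn, hc, hx⟩ := h
  refine ⟨N.map e.toMonoidHom, Subgroup.Normal.map hn _ e.surjective, ?_, ?_⟩
  · rw [← hc]
    exact Nat.card_congr (N.equivMapOfInjective _ e.injective).toEquiv.symm
  · rintro _ ⟨y, hy, rfl⟩
    change e y * e y = 1
    rw [← map_mul, hx y hy, map_one]

theorem sext_normal (S : Finset (Finset GolayPt)) (hS : S ∈ sextets) :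
    ∃ N : Subgroup ↥(MulAction.stabilizer ↥M24 S),
      N.Normal ∧ Nat.card N = 64 ∧ ∀ x ∈ N, x * x = 1 := by
  obtain ⟨σ, hσ, rfl⟩ := sext_to_base S hS
  exact normal64_of_equiv (MulAction.stabilizerEquivStabilizer (G := ↥M24) (g := ⟨σ, hσ⟩)
    (a := sext0) (b := σ • sext0) rfl) sext0_normal

theorem s1551 (S : Finset (Finset GolayPt)) (hS : S ∈ sextets) :
    (∀ e : Equiv.Perm ↥S, ∃ g ∈ MulAction.stabilizer M24 S, ∀ t : ↥S,
      (g : Equiv.Perm GolayPt) • (t : Finset GolayPt) = ((e t : ↥S) : Finset GolayPt)) ∧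
    Nat.card {g : ↥(MulAction.stabilizer M24 S) //
      ∀ t ∈ S, ((g : M24) : Equiv.Perm GolayPt) • t = t} = 192 ∧
    ∃ N : Subgroup ↥(MulAction.stabilizer M24 S), N.Normal ∧ Nat.card N = 64 ∧
      ∀ x ∈ N, x * x = 1 := by
  refine ⟨?_, sext_ker S hS, sext_normal S hS⟩
  obtain ⟨σ, hσ, rfl⟩ := sext_to_base S hS
  exact sext_sym _ (swap_conj σ hσ sext0 swap_sext0)

end Cfsg.Agent.Lib.Helper9.Leech
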