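import Cfsg.Agent.Lib.Helper9.Syl2A

set_option autoImplicit false
open Cfsg

namespace Cfsg.Agent.Lib.Helper9.Leech

open scoped Pointwise
open Cfsg.Agent.S5393 Cfsg.Agent.S5548

theorem sameK_smul (g : Equiv.Perm GolayPt) (k c : ℕ) (hfix : g • semK k c = semK k c)
    (p q : GolayPt) (h : sameK k c (idx p) (idx q) = true) :
    sameK k c (idx (g p)) (idx (g q)) = true := by
  unfold sameK at h ⊢
  rw [anyBelow_iff] at h ⊢
  obtain ⟨j, hj, hb⟩ := h
  rw [Bool.and_eq_true, tb_pt, tb_pt] at hb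
  have hmem : g • bitsOf (ent c 24 j) ∈ semK k c := by
    rw [← hfix]
    exact Finset.smul_mem_smul_finset ((mem_semK k c _).2 ⟨j, hj, rfl⟩)
  obtain ⟨j', hj', he⟩ := (mem_semK k c _).1 hmem
  refine ⟨j', hj', ?_⟩
  rw [Bool.and_eq_true, tb_pt, tb_pt, he]
  exact ⟨Finset.smul_mem_smul_finset hb.1, Finset.smul_mem_smul_finset hb.2⟩

theorem sameLoc_sound (g : Equiv.Perm GolayPt) (k c : ℕ) (hfix : g • semK k c = semK k c)
    (d : ℕ) (hd : d < 7) (a : ℕ)
    (hagree : ∀ i < d, idx (g (ptOf (baseL.getD i 0))) = fld a (baseL.getD i 0)) :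
    sameLoc k c d a (idx (g (ptOf (baseL.getD d 0)))) = true := by
  unfold sameLoc
  apply allBelow_of
  intro i hi
  cases hs : sameK k c (baseL.getD i 0) (baseL.getD d 0) with
  | false => rfl
  | true =>
    have h4 := sameK_smul g k c hfix (ptOf (baseL.getD i 0)) (ptOf (baseL.getD d 0)) (by
      rw [idx_ptOf _ (baseL_lt i (by omega)), idx_ptOf _ (baseL_lt d hd)]
      exact hs)
    rw [hagree i hi] at h4
    rw [h4]
    rfl

theorem allBelow_congr (f f' : ℕ → Bool) (n : ℕ) (h : ∀ i < n, f i = f' i) :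
    allBelow f n = allBelow f' n := by
  rw [Bool.eq_iff_iff]
  constructor
  · intro hf
    exact allBelow_of _ n (fun i hi => by
      rw [← h i hi]
      exact allBelow_spec _ n hf i hi)
  · intro hf
    exact allBelow_of _ n (fun i hi => by
      rw [h i hi]
      exact allBelow_spec _ n hf i hi)

theorem sameLoc_congr (k c d a a' y : ℕ)
    (h : ∀ i < d, fld a (baseL.getD i 0) = fld a' (baseL.getD i 0)) :
    sameLoc k c d a y = sameLoc k c d a' y := by
  unfold sameLoc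
  exact allBelow_congr _ _ d (fun i hi => by rw [h i hi])

theorem octO_lt24 : octO < 2 ^ 24 := by decide

theorem InS_iff (g : Equiv.Perm GolayPt) (t : ℕ) (hg : TblP g (tblOf t)) :
    InS g ↔ passS t = true := by
  unfold InS passS
  rw [Bool.and_eq_true, Bool.and_eq_true, ← fix_mask_iff g t hg octO octO_lt24,
    ← fixK_iff g t hg 6, ← fixK_iff g t hg 4]

theorem locO_sound (g : Equiv.Perm GolayPt) (h : g • bitsOf octO = bitsOf octO) (d : ℕ)
    (hd : d < 7) (a : ℕ) : locM [octO] d a (idx (g (ptOf (baseL.getD d 0)))) = true :=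
  locM_sound [octO] g (fun m hm => by
    rw [List.mem_singleton] at hm
    rw [hm]
    exact h) d hd a

theorem cardS0 : {g | g ∈ M24 ∧ InS g}.ncard = 1024 := by
  rw [← srchS0]
  apply m24_count InS locS passS
  · intro g _ t hg
    exact InS_iff g t hg
  · intro g _ hΦ d hd a hagree
    unfold locS
    rw [Bool.and_eq_true, Bool.and_eq_true]
    exact ⟨locO_sound g hΦ.1 d hd a, sameLoc_sound g 6 sy2C hΦ.2.1 d hd a hagree,
      sameLoc_sound g 4 sy2D hΦ.2.2 d hd a hagree⟩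

def syl0 : Subgroup ↥M24 :=
  MulAction.stabilizer ↥M24 (bitsOf octO) ⊓ MulAction.stabilizer ↥M24 (semK 6 sy2C) ⊓
    MulAction.stabilizer ↥M24 (semK 4 sy2D)

theorem mem_syl0 (x : ↥M24) : x ∈ syl0 ↔ InS (x : Equiv.Perm GolayPt) := by
  unfold syl0 InS
  rw [Subgroup.mem_inf, Subgroup.mem_inf, MulAction.mem_stabilizer_iff,
    MulAction.mem_stabilizer_iff, MulAction.mem_stabilizer_iff]
  exact and_assoc

theorem card_syl0 : Nat.card ↥syl0 = 1024 := by
  rw [card_sub_eq syl0 InS mem_syl0]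
  exact cardS0

/-! ### the normaliser -/

theorem sy2_oct_uniq (s : Equiv.Perm GolayPt) (hs : TblP s (tblOf sy2G)) (o : Finset GolayPt)
    (ho : o ∈ octads) (hfix : s • o = o) : o = bitsOf octO := by
  obtain ⟨m, hm, rfl⟩ := (mem_octads o).1 ho
  have h1 := List.all_eq_true.1 sy2_oct_chk m hm
  rw [Bool.or_eq_true] at h1
  rcases h1 with h1 | h1
  · rw [Nat.eq_of_beq_eq_true h1]
  · exfalso
    rw [(fix_mask_iff s sy2G hs m (octL_lt m hm)).1 hfix] at h1
    exact absurd h1 (by decide)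

theorem sy2_sext_uniq (s : Equiv.Perm GolayPt) (hs : TblP s (tblOf sy2G))
    (S : Finset (Finset GolayPt)) (hS : S ∈ sextets) (hfix : s • S = S) : S = semK 6 sy2C := by
  obtain ⟨i, hi, rfl⟩ := (mem_sextets S).1 hS
  have h1 := allBelow_spec _ 1771 sy2_sext_chk i hi
  rw [Bool.or_eq_true, forceN_eq] at h1
  rcases h1 with h1 | h1
  · rw [Nat.eq_of_beq_eq_true h1, sy2C_eq]
  · exfalso
    rw [(fixK_iff s sy2G hs 6 _).1 hfix] at h1
    exact absurd h1 (by decide)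

theorem sy2C_mem : semK 6 sy2C ∈ sextets := by
  rw [← sy2C_eq]
  exact sext0_mem

theorem locC_congr (d a a' y : ℕ)
    (h : ∀ i < d, fld a (baseL.getD i 0) = fld a' (baseL.getD i 0)) :
    locC d a y = locC d a' y := by
  unfold locC
  rw [sameLoc_congr 6 sy2C d a a' y h]
  rfl

def LocAll (g : Equiv.Perm GolayPt) : Prop :=
  ∀ d < 7, ∀ a, (∀ i < d, idx (g (ptOf (baseL.getD i 0))) = fld a (baseL.getD i 0)) →
    locC d a (idx (g (ptOf (baseL.getD d 0)))) = true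

theorem LocAll_iff (g : Equiv.Perm GolayPt) (t : ℕ) (hg : TblP g (tblOf t)) :
    LocAll g ↔ locAllT t = true := by
  have hidx : ∀ d < 7, idx (g (ptOf (baseL.getD d 0))) = fld t (baseL.getD d 0) := fun d hd => by
    rw [TblP_idx g t hg, idx_ptOf _ (baseL_lt d hd)]
  constructor
  · intro h
    apply allBelow_of
    intro d hd
    rw [← hidx d hd]
    exact h d hd t (fun i hi => hidx i (by omega))
  · intro h d hd a hag
    have h1 := allBelow_spec _ 7 h d hd
    rw [hidx d hd, locC_congr d a t _ (fun i hi => by rw [← hag i hi, hidx i (by omega)])]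
    exact h1

def ConjP (s n : Equiv.Perm GolayPt) : Prop :=
  ∀ j < 4, ∃ j' < 4,
    (s (n (ptOf (sy2AL.getD j 0))) = n (ptOf (sy2AL.getD j' 0)) ∧
      s (n (ptOf (sy2BL.getD j 0))) = n (ptOf (sy2BL.getD j' 0))) ∨
    (s (n (ptOf (sy2AL.getD j 0))) = n (ptOf (sy2BL.getD j' 0)) ∧
      s (n (ptOf (sy2BL.getD j 0))) = n (ptOf (sy2AL.getD j' 0)))

theorem conj_pt_iff (s n : Equiv.Perm GolayPt) (S t : ℕ) (hs : TblP s (tblOf S))
    (hn : TblP n (tblOf t)) (x y : ℕ) (hx : x < 24) (hy : y < 24) :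
    s (n (ptOf x)) = n (ptOf y) ↔ Nat.beq (fld S (fld t x)) (fld t y) = true := by
  rw [beq_iff]
  constructor
  · intro h
    have h1 := congrArg idx h
    rw [TblP_idx s S hs, TblP_idx n t hn, TblP_idx n t hn, idx_ptOf x hx, idx_ptOf y hy] at h1
    exact h1
  · intro h
    apply idx_inj
    rw [TblP_idx s S hs, TblP_idx n t hn, TblP_idx n t hn, idx_ptOf x hx, idx_ptOf y hy]
    exact h

theorem ConjP_iff (s n : Equiv.Perm GolayPt) (t : ℕ) (hs : TblP s (tblOf sy2G))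
    (hn : TblP n (tblOf t)) : ConjP s n ↔ conjT t = true := by
  unfold ConjP conjT
  constructor
  · intro h
    apply allBelow_of
    intro j hj
    rw [anyBelow_iff]
    obtain ⟨j', hj', hc⟩ := h j hj
    refine ⟨j', hj', ?_⟩
    obtain ⟨hA, hB, _⟩ := sy2_duad_chk1 j hj
    obtain ⟨hA', hB', _⟩ := sy2_duad_chk1 j' hj'
    rw [Bool.or_eq_true, Bool.and_eq_true, Bool.and_eq_true,
      ← conj_pt_iff s n sy2G t hs hn _ _ hA hA', ← conj_pt_iff s n sy2G t hs hn _ _ hB hB',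
      ← conj_pt_iff s n sy2G t hs hn _ _ hA hB', ← conj_pt_iff s n sy2G t hs hn _ _ hB hA']
    exact hc
  · intro h j hj
    have h1 := allBelow_spec _ 4 h j hj
    rw [anyBelow_iff] at h1
    obtain ⟨j', hj', hc⟩ := h1
    refine ⟨j', hj', ?_⟩
    obtain ⟨hA, hB, _⟩ := sy2_duad_chk1 j hj
    obtain ⟨hA', hB', _⟩ := sy2_duad_chk1 j' hj'
    rw [Bool.or_eq_true, Bool.and_eq_true, Bool.and_eq_true,
      ← conj_pt_iff s n sy2G t hs hn _ _ hA hA', ← conj_pt_iff s n sy2G t hs hn _ _ hB hB',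
      ← conj_pt_iff s n sy2G t hs hn _ _ hA hB', ← conj_pt_iff s n sy2G t hs hn _ _ hB hA'] at hc
    exact hc

theorem syl0_conj (n x : ↥M24) (h : n * x * n⁻¹ ∈ syl0) :
    InS ((n : Equiv.Perm GolayPt) * (x : Equiv.Perm GolayPt) * (n : Equiv.Perm GolayPt)⁻¹) := by
  have h1 := (mem_syl0 _).1 h
  rw [Subgroup.coe_mul, Subgroup.coe_mul, Subgroup.coe_inv] at h1
  exact h1

theorem syl0_conj' (n x : ↥M24) (h : n⁻¹ * x * n ∈ syl0) :
    InS ((n : Equiv.Perm GolayPt)⁻¹ * (x : Equiv.Perm GolayPt) * (n : Equiv.Perm GolayPt)) := by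
  have h1 := (mem_syl0 _).1 h
  rw [Subgroup.coe_mul, Subgroup.coe_mul, Subgroup.coe_inv] at h1
  exact h1

theorem norm_conjP (s : Equiv.Perm GolayPt) (hsM : s ∈ M24) (hsS : InS s) (n : ↥M24)
    (hn : n ∈ Subgroup.normalizer ((syl0 : Subgroup ↥M24) : Set ↥M24)) :
    ConjP s (n : Equiv.Perm GolayPt) := by
  have hs0 : (⟨s, hsM⟩ : ↥M24) ∈ syl0 := (mem_syl0 _).2 hsS
  have hg : InS ((n : Equiv.Perm GolayPt)⁻¹ * s * (n : Equiv.Perm GolayPt)) :=
    syl0_conj' n ⟨s, hsM⟩ ((Subgroup.mem_set_normalizer_iff''.1 hn ⟨s, hsM⟩).1 hs0)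
  intro j hj
  obtain ⟨hA, hB, hne, htA, htB⟩ := sy2_duad_chk1 j hj
  have hmem : ((n : Equiv.Perm GolayPt)⁻¹ * s * (n : Equiv.Perm GolayPt)) •
      bitsOf (ent sy2D 24 j) ∈ semK 4 sy2D := by
    have h0 : bitsOf (ent sy2D 24 j) ∈ semK 4 sy2D := (mem_semK 4 sy2D _).2 ⟨j, hj, rfl⟩
    have h1 := Finset.smul_mem_smul_finset
      (a := (n : Equiv.Perm GolayPt)⁻¹ * s * (n : Equiv.Perm GolayPt)) h0
    rw [hg.2.2] at h1
    exact h1
  obtain ⟨j', hj', he⟩ := (mem_semK 4 sy2D _).1 hmem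
  refine ⟨j', hj', ?_⟩
  have key : ∀ x, x < 24 → tb (ent sy2D 24 j) x = true →
      idx (((n : Equiv.Perm GolayPt)⁻¹ * s * (n : Equiv.Perm GolayPt)) (ptOf x)) =
        sy2AL.getD j' 0 ∨
      idx (((n : Equiv.Perm GolayPt)⁻¹ * s * (n : Equiv.Perm GolayPt)) (ptOf x)) =
        sy2BL.getD j' 0 := by
    intro x hx hxt
    have h1 : ((n : Equiv.Perm GolayPt)⁻¹ * s * (n : Equiv.Perm GolayPt)) (ptOf x) ∈
        bitsOf (ent sy2D 24 j') := by
      rw [he]
      exact Finset.smul_mem_smul_finset ((mem_bits_tb _ x hx).2 hxt)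
    exact sy2_duad_chk2 j' hj' _ (idx_lt _) ((tb_pt _ _).2 h1)
  have conv : ∀ x y, idx (((n : Equiv.Perm GolayPt)⁻¹ * s * (n : Equiv.Perm GolayPt)) (ptOf x))
      = y → s ((n : Equiv.Perm GolayPt) (ptOf x)) = (n : Equiv.Perm GolayPt) (ptOf y) := by
    intro x y h
    have h2 : ((n : Equiv.Perm GolayPt)⁻¹ * s * (n : Equiv.Perm GolayPt)) (ptOf x) = ptOf y := by
      rw [← h, ptOf_idx]
    rw [Equiv.Perm.mul_apply, Equiv.Perm.mul_apply, Equiv.Perm.inv_eq_iff_eq] at h2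
    exact h2
  have hinj : ∀ y, idx (((n : Equiv.Perm GolayPt)⁻¹ * s * (n : Equiv.Perm GolayPt))
      (ptOf (sy2AL.getD j 0))) = y →
      idx (((n : Equiv.Perm GolayPt)⁻¹ * s * (n : Equiv.Perm GolayPt))
      (ptOf (sy2BL.getD j 0))) = y → False := by
    intro y h1 h2
    have h3 : ptOf (sy2AL.getD j 0) = ptOf (sy2BL.getD j 0) :=
      ((n : Equiv.Perm GolayPt)⁻¹ * s * (n : Equiv.Perm GolayPt)).injective
        (idx_inj _ _ (by rw [h1, h2]))
    exact hne (ptOf_inj _ _ hA hB h3)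
  rcases key _ hA htA with h1 | h1 <;> rcases key _ hB htB with h2 | h2
  · exact absurd (hinj _ h1 h2) id
  · left
    exact ⟨conv _ _ h1, conv _ _ h2⟩
  · right
    exact ⟨conv _ _ h1, conv _ _ h2⟩
  · exact absurd (hinj _ h1 h2) id

theorem syl0_norm : Subgroup.normalizer ((syl0 : Subgroup ↥M24) : Set ↥M24) = syl0 := by
  obtain ⟨s, hsM, hst⟩ := slpChk_spec M24 (shift_mem 1) projInv_mem cubeTwist_mem sy2S sy2N
    sy2S_ok sy2GK (by decide)
  rw [sy2G_tbl] at hst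
  have hsS : InS s := (InS_iff s sy2G hst).2 sy2G_pass
  have cC : {n | n ∈ M24 ∧ (LocAll n ∧ ConjP s n)}.ncard = 1024 := by
    rw [← srchC2]
    apply m24_count (fun n => LocAll n ∧ ConjP s n) locC passC
    · intro n _ t hn
      unfold passC
      rw [Bool.and_eq_true, ← ConjP_iff s n t hst hn, ← LocAll_iff n t hn]
      exact and_comm
    · intro n _ hΦ d hd a hagree
      exact hΦ.1 d hd a hagree
  have hnorm : ∀ n : ↥M24, n ∈ Subgroup.normalizer ((syl0 : Subgroup ↥M24) : Set ↥M24) →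
      (n : Equiv.Perm GolayPt) ∈ {n | n ∈ M24 ∧ (LocAll n ∧ ConjP s n)} := by
    intro n hn
    have hs0 : (⟨s, hsM⟩ : ↥M24) ∈ syl0 := (mem_syl0 _).2 hsS
    have hconj : InS ((n : Equiv.Perm GolayPt) * s * (n : Equiv.Perm GolayPt)⁻¹) :=
      syl0_conj n ⟨s, hsM⟩ ((Subgroup.mem_set_normalizer_iff.1 hn ⟨s, hsM⟩).1 hs0)
    have hO : (n : Equiv.Perm GolayPt)⁻¹ • bitsOf octO = bitsOf octO := by
      apply sy2_oct_uniq s hst _ (octads_smul _ (inv_mem n.2) _
        ((mem_octads _).2 ⟨octO, octO_mem, rfl⟩))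
      have h1 := hconj.1
      rw [mul_smul, mul_smul] at h1
      exact eq_inv_smul_iff.2 h1
    have hSg : (n : Equiv.Perm GolayPt)⁻¹ • semK 6 sy2C = semK 6 sy2C := by
      apply sy2_sext_uniq s hst _ (sextets_smul _ (inv_mem n.2) _ sy2C_mem)
      have h1 := hconj.2.1
      rw [mul_smul, mul_smul] at h1
      exact eq_inv_smul_iff.2 h1
    have hO' : (n : Equiv.Perm GolayPt) • bitsOf octO = bitsOf octO :=
      (inv_smul_eq_iff.1 hO).symm
    have hSg' : (n : Equiv.Perm GolayPt) • semK 6 sy2C = semK 6 sy2C :=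
      (inv_smul_eq_iff.1 hSg).symm
    refine ⟨n.2, ?_, norm_conjP s hsM hsS n hn⟩
    intro d hd a hagree
    unfold locC
    rw [Bool.and_eq_true]
    exact ⟨locO_sound _ hO' d hd a, sameLoc_sound _ 6 sy2C hSg' d hd a hagree⟩
  have hsub : {n | n ∈ M24 ∧ InS n} ⊆ {n | n ∈ M24 ∧ (LocAll n ∧ ConjP s n)} := by
    rintro g ⟨hgM, hgS⟩
    exact hnorm ⟨g, hgM⟩ (Subgroup.le_normalizer ((mem_syl0 _).2 hgS))
  have heq := Set.eq_of_subset_of_ncard_le hsub (by rw [cC, cardS0]) (Set.toFinite _)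
  apply le_antisymm
  · intro n hn
    have hX := hnorm n hn
    rw [← heq] at hX
    exact (mem_syl0 n).2 hX.2
  · exact Subgroup.le_normalizer

theorem card_M24_fact : (Nat.card ↥M24).factorization 2 = 10 := by
  have h : Nat.card ↥M24 = 2 ^ 10 * 239085 := by
    rw [card_M24]
    norm_num
  rw [h, Nat.factorization_mul (by norm_num) (by norm_num), Finsupp.add_apply,
    Nat.Prime.factorization_pow Nat.prime_two, Finsupp.single_eq_same,
    Nat.factorization_eq_zero_of_not_dvd (by norm_num)]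

theorem s2882 (S : Sylow 2 ↥M24) :
    Subgroup.normalizer ((S : Subgroup ↥M24) : Set ↥M24) = (S : Subgroup ↥M24) := by
  have hc : Nat.card ↥syl0 = 2 ^ (Nat.card ↥M24).factorization 2 := by
    rw [card_M24_fact, card_syl0]
    norm_num
  obtain ⟨g, hg⟩ := MulAction.exists_smul_eq ↥M24 (Sylow.ofCard syl0 hc) S
  ext n
  have e1 : n ∈ Subgroup.normalizer ((S : Subgroup ↥M24) : Set ↥M24) ↔ n • S = S :=
    Sylow.smul_eq_iff_mem_normalizer.symm
  have e2 : (g⁻¹ * n * g) • (Sylow.ofCard syl0 hc) = Sylow.ofCard syl0 hc ↔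
      g⁻¹ * n * g ∈ Subgroup.normalizer ((syl0 : Subgroup ↥M24) : Set ↥M24) :=
    Sylow.smul_eq_iff_mem_normalizer
  rw [e1, ← hg, ← inv_smul_eq_iff, ← mul_smul, ← mul_smul, e2, syl0_norm,
    Sylow.coe_subgroup_smul, Subgroup.mem_pointwise_smul_iff_inv_smul_mem]
  rfl

end Cfsg.Agent.Lib.Helper9.Leech
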