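import Cfsg.Agent.Lib.Helper9.Syl2Data
import Cfsg.Agent.Lib.Helper9.Sx6

set_option autoImplicit false
open Cfsg

namespace Cfsg.Agent.Lib.Helper9.Leech

open scoped Pointwise
open Cfsg.Agent.S5393 Cfsg.Agent.S5548

/-! ### pruning by a preserved family of sets -/

def sameK (k c x y : ℕ) : Bool :=
  anyBelow (fun j => tb (ent c 24 j) x && tb (ent c 24 j) y) k

def sameLoc (k c d a y : ℕ) : Bool :=
  allBelow (fun i => !(sameK k c (baseL.getD i 0) (baseL.getD d 0)) ||
    sameK k c (fld a (baseL.getD i 0)) y) d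

/-! ### a Sylow 2-subgroup: the stabiliser of an octad, a sextet and four duads -/

set_option maxRecDepth 100000 in
theorem sy2C_eq : codeAt 6 sextLE 0 = sy2C := by decide +kernel

set_option maxRecDepth 100000 in
theorem sy2S_ok : slpChk sy2S sy2N = true := by decide +kernel

set_option maxRecDepth 100000 in
theorem sy2G_tbl : nodeTbl sy2S sy2GK = sy2G := by decide +kernel

def InS (g : Equiv.Perm GolayPt) : Prop :=
  g • bitsOf octO = bitsOf octO ∧ g • semK 6 sy2C = semK 6 sy2C ∧ g • semK 4 sy2D = semK 4 sy2D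

def locS (d a y : ℕ) : Bool :=
  locM [octO] d a y && (sameLoc 6 sy2C d a y && sameLoc 4 sy2D d a y)

def passS (t : ℕ) : Bool :=
  Nat.beq (pullN t octO) octO && (fixK 6 t sy2C && fixK 4 t sy2D)

set_option maxRecDepth 100000 in
theorem srchS0 : srch locS passS srLv 0 idN = 1024 := by decide +kernel

theorem sy2G_pass : passS sy2G = true := by decide +kernel

/-! ### data for the normaliser -/

def sy2AL : List ℕ := [1, 3, 14, 23]

def sy2BL : List ℕ := [2, 5, 17, 0]

theorem sy2_duad_chk1 : ∀ j < 4, sy2AL.getD j 0 < 24 ∧ sy2BL.getD j 0 < 24 ∧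
    sy2AL.getD j 0 ≠ sy2BL.getD j 0 ∧ tb (ent sy2D 24 j) (sy2AL.getD j 0) = true ∧
    tb (ent sy2D 24 j) (sy2BL.getD j 0) = true := by decide +kernel

theorem sy2_duad_chk2 : ∀ j < 4, ∀ i < 24, tb (ent sy2D 24 j) i = true →
    i = sy2AL.getD j 0 ∨ i = sy2BL.getD j 0 := by decide +kernel

def locC (d a y : ℕ) : Bool := locM [octO] d a y && sameLoc 6 sy2C d a y

def locAllT (t : ℕ) : Bool := allBelow (fun d => locC d t (fld t (baseL.getD d 0))) 7

def conjT (t : ℕ) : Bool :=
  allBelow (fun j => anyBelow (fun j' =>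
    (Nat.beq (fld sy2G (fld t (sy2AL.getD j 0))) (fld t (sy2AL.getD j' 0)) &&
      Nat.beq (fld sy2G (fld t (sy2BL.getD j 0))) (fld t (sy2BL.getD j' 0))) ||
    (Nat.beq (fld sy2G (fld t (sy2AL.getD j 0))) (fld t (sy2BL.getD j' 0)) &&
      Nat.beq (fld sy2G (fld t (sy2BL.getD j 0))) (fld t (sy2AL.getD j' 0)))) 4) 4

def passC (t : ℕ) : Bool := conjT t && locAllT t

set_option maxRecDepth 100000 in
theorem srchC2 : srch locC passC srLv 0 idN = 1024 := by decide +kernel

set_option maxRecDepth 100000 in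
theorem sy2_oct_chk : octL.all (fun m => Nat.beq m octO || !(Nat.beq (pullN sy2G m) m)) = true := by
  decide +kernel

set_option maxRecDepth 100000 in
theorem sy2_sext_chk : allBelow (fun i => Nat.beq i 0 ||
    forceN (codeAt 6 sextLE i) (fun c => !(fixK 6 sy2G c))) 1771 = true := by decide +kernel

end Cfsg.Agent.Lib.Helper9.Leech
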