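import Cfsg.Agent.Lib.Helper9.O15
import Cfsg.Agent.Lib.Helper9.OctGraph
import Cfsg.Agent.Lib.Helper9.RankB
import Cfsg.Agent.Lib.Helper9.RankData2

set_option autoImplicit false
open Cfsg

namespace Cfsg.Agent.Lib.Helper9.Leech

open scoped Pointwise

/-! ### a subgroup acting faithfully on `n` points with `n!` elements is the symmetric group -/

theorem iso_perm_of_faithful (H : Subgroup ↥M24) (C : Finset GolayPt) (n : ℕ) (hC : C.card = n)
    (hinv : ∀ g ∈ H, ((g : ↥M24) : Equiv.Perm GolayPt) • C = C)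
    (hfaith : ∀ g ∈ H, (∀ p ∈ C, ((g : ↥M24) : Equiv.Perm GolayPt) p = p) → g = 1)
    (hcard : Nat.card H = n.factorial) : Nonempty (↥H ≃* Equiv.Perm (Fin n)) := by
  have hmem : ∀ g : ↥H, ∀ x, ((g : ↥M24) : Equiv.Perm GolayPt) x ∈ C ↔ x ∈ C := by
    intro g x
    have h := hinv g.1 g.2
    have h2 := mem_smul_iff ((g : ↥M24) : Equiv.Perm GolayPt) x C
    rw [h] at h2
    exact h2
  let f : ↥H →* Equiv.Perm ↥C := MonoidHom.mk'
    (fun g => Equiv.Perm.subtypePerm ((g : ↥M24) : Equiv.Perm GolayPt) (hmem g))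
    (by
      intro a b
      rfl)
  have hinj : Function.Injective f := by
    rw [injective_iff_map_eq_one]
    intro g hg
    have h1 : (g : ↥M24) = 1 := hfaith g.1 g.2 (by
      intro p hp
      have h2 := congrArg (fun e : Equiv.Perm ↥C => ((e ⟨p, hp⟩ : ↥C) : GolayPt)) hg
      exact h2)
    exact Subtype.ext h1
  have hcard2 : Nat.card ↥H = Nat.card (Equiv.Perm ↥C) := by
    rw [hcard, Nat.card_perm, Nat.card_eq_fintype_card, Fintype.card_coe, hC]
  have hbij : Function.Bijective f := (Nat.bijective_iff_injective_and_card f).2 ⟨hinj, hcard2⟩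
  have e2 : ↥C ≃ Fin n := Fintype.equivFinOfCardEq (by rw [Fintype.card_coe, hC])
  exact ⟨(MulEquiv.ofBijective f hbij).trans e2.permCongrHom⟩

theorem stab2_conj_iso {X : Type*} [Group X] (r : ↥M24) (a b : Finset GolayPt)
    (h : Nonempty (↥(MulAction.stabilizer ↥M24 a ⊓ MulAction.stabilizer ↥M24 b) ≃* X)) :
    Nonempty (↥(MulAction.stabilizer ↥M24 (r • a) ⊓ MulAction.stabilizer ↥M24 (r • b)) ≃* X) := by
  obtain ⟨e⟩ := h
  rw [MulAction.stabilizer_smul_eq_stabilizer_map_conj,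
    MulAction.stabilizer_smul_eq_stabilizer_map_conj,
    ← Subgroup.map_inf_eq _ _ _ (MulAut.conj r).injective]
  exact ⟨((Subgroup.equivMapOfInjective _ _ (MulAut.conj r).injective).symm).trans e⟩

theorem faithful_conj (r : ↥M24) (a b c : Finset GolayPt)
    (h : ∀ g ∈ MulAction.stabilizer ↥M24 a ⊓ MulAction.stabilizer ↥M24 b,
      (∀ p ∈ c, ((g : ↥M24) : Equiv.Perm GolayPt) p = p) → g = 1) :
    ∀ g ∈ MulAction.stabilizer ↥M24 (r • a) ⊓ MulAction.stabilizer ↥M24 (r • b),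
      (∀ p ∈ r • c, ((g : ↥M24) : Equiv.Perm GolayPt) p = p) → g = 1 := by
  intro g hg hpt
  have hg1 := MulAction.mem_stabilizer_iff.1 (Subgroup.mem_inf.1 hg).1
  have hg2 := MulAction.mem_stabilizer_iff.1 (Subgroup.mem_inf.1 hg).2
  have hg' : r⁻¹ * g * r ∈ MulAction.stabilizer ↥M24 a ⊓ MulAction.stabilizer ↥M24 b := by
    refine Subgroup.mem_inf.2 ⟨MulAction.mem_stabilizer_iff.2 ?_, MulAction.mem_stabilizer_iff.2 ?_⟩
    · rw [mul_smul, mul_smul, hg1, inv_smul_smul]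
    · rw [mul_smul, mul_smul, hg2, inv_smul_smul]
  have h1 := h _ hg' (by
    intro q hq
    have h2 := hpt ((r : Equiv.Perm GolayPt) q) (Finset.smul_mem_smul_finset hq)
    change (r : Equiv.Perm GolayPt)⁻¹ ((g : Equiv.Perm GolayPt) ((r : Equiv.Perm GolayPt) q)) = q
    rw [h2]
    exact (r : Equiv.Perm GolayPt).symm_apply_apply q)
  have e : g = r * (r⁻¹ * g * r) * r⁻¹ := by group
  rw [e, h1]
  group

/-! ### counting stabilisers of lists of masks -/

def locM (ms : List ℕ) (d _a y : ℕ) : Bool :=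
  ms.all (fun m => tb m y == tb m (baseL.getD d 0))

def passM (ms : List ℕ) (t : ℕ) : Bool := ms.all (fun m => Nat.beq (pullN t m) m)

def locT (_d _a _y : ℕ) : Bool := true

def psT (_t : ℕ) : Bool := true

def locPt (mc d _a y : ℕ) : Bool :=
  !(tb mc (baseL.getD d 0)) || Nat.beq y (baseL.getD d 0)

def psPt (mc t : ℕ) : Bool := allBelow (fun i => !(tb mc i) || Nat.beq (fld t i) i) 24

theorem locM_sound (ms : List ℕ) (g : Equiv.Perm GolayPt)
    (hΦ : ∀ m ∈ ms, g • bitsOf m = bitsOf m) (d : ℕ) (hd : d < 7) (a : ℕ) :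
    locM ms d a (idx (g (ptOf (baseL.getD d 0)))) = true := by
  unfold locM
  rw [List.all_eq_true]
  intro m hm
  rw [beq_iff_eq, Bool.eq_iff_iff, tb_pt, ← mem_bits_tb m _ (baseL_lt d hd)]
  have h2 := mem_smul_iff g (ptOf (baseL.getD d 0)) (bitsOf m)
  rw [hΦ m hm] at h2
  exact h2

theorem passM_iff (ms : List ℕ) (hms : ∀ m ∈ ms, m < 2 ^ 24) (g : Equiv.Perm GolayPt) (t : ℕ)
    (hg : TblP g (tblOf t)) : (∀ m ∈ ms, g • bitsOf m = bitsOf m) ↔ passM ms t = true := by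
  unfold passM
  rw [List.all_eq_true]
  exact forall₂_congr (fun m hm => fix_mask_iff g t hg m (hms m hm))

theorem locPt_sound (mc : ℕ) (g : Equiv.Perm GolayPt) (h : ∀ p ∈ bitsOf mc, g p = p) (d : ℕ)
    (hd : d < 7) (a : ℕ) : locPt mc d a (idx (g (ptOf (baseL.getD d 0)))) = true := by
  unfold locPt
  cases htb : tb mc (baseL.getD d 0) with
  | false => rfl
  | true =>
    have h1 := h (ptOf (baseL.getD d 0)) ((mem_bits_tb mc _ (baseL_lt d hd)).2 htb)
    rw [h1, idx_ptOf _ (baseL_lt d hd), (beq_iff _ _).2 rfl]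
    rfl

theorem masks_count' (ms : List ℕ) (hms : ∀ m ∈ ms, m < 2 ^ 24)
    (Ψ : Equiv.Perm GolayPt → Prop) (ψ : ℕ → Bool)
    (hψ : ∀ g t, TblP g (tblOf t) → (Ψ g ↔ ψ t = true)) (loc' : ℕ → ℕ → ℕ → Bool)
    (hloc' : ∀ g, Ψ g → ∀ d < 7, ∀ a, loc' d a (idx (g (ptOf (baseL.getD d 0)))) = true) :
    {g | g ∈ M24 ∧ ((∀ m ∈ ms, g • bitsOf m = bitsOf m) ∧ Ψ g)}.ncard =
      srch (fun d a y => locM ms d a y && loc' d a y) (fun t => passM ms t && ψ t) srLv 0 idN := by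
  apply m24_count (fun g => (∀ m ∈ ms, g • bitsOf m = bitsOf m) ∧ Ψ g)
  · intro g _ t hg
    rw [Bool.and_eq_true, ← passM_iff ms hms g t hg, ← hψ g t hg]
  · intro g _ hΦ d hd a _
    rw [Bool.and_eq_true]
    exact ⟨locM_sound ms g hΦ.1 d hd a, hloc' g hΦ.2 d hd a⟩

theorem stab_count (ms : List ℕ) (hms : ∀ m ∈ ms, m < 2 ^ 24) :
    {g | g ∈ M24 ∧ ∀ m ∈ ms, g • bitsOf m = bitsOf m}.ncard =
      srch (fun d a y => locM ms d a y && locT d a y) (fun t => passM ms t && psT t)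
        srLv 0 idN := by
  rw [← masks_count' ms hms (fun _ => True) psT (fun _ _ _ => by simp [psT]) locT
    (fun _ _ _ _ _ => rfl)]
  congr 1
  ext g
  simp

theorem stab_pt_count (ms : List ℕ) (hms : ∀ m ∈ ms, m < 2 ^ 24) (mc : ℕ) :
    {g | g ∈ M24 ∧ ((∀ m ∈ ms, g • bitsOf m = bitsOf m) ∧ ∀ p ∈ bitsOf mc, g p = p)}.ncard =
      srch (fun d a y => locM ms d a y && locPt mc d a y) (fun t => passM ms t && psPt mc t)
        srLv 0 idN :=
  masks_count' ms hms (fun g => ∀ p ∈ bitsOf mc, g p = p) (psPt mc)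
    (fun g t hg => ptfix_iff g t hg mc) (locPt mc) (fun g h d hd a => locPt_sound mc g h d hd a)

theorem faithful_of_count (ms : List ℕ) (mc : ℕ)
    (h : {g | g ∈ M24 ∧ ((∀ m ∈ ms, g • bitsOf m = bitsOf m) ∧
      ∀ p ∈ bitsOf mc, g p = p)}.ncard = 1)
    (g : Equiv.Perm GolayPt) (hg : g ∈ M24) (hfix : ∀ m ∈ ms, g • bitsOf m = bitsOf m)
    (hpt : ∀ p ∈ bitsOf mc, g p = p) : g = 1 := by
  obtain ⟨a, ha⟩ := Set.ncard_eq_one.1 h
  have m1 : (1 : Equiv.Perm GolayPt) ∈ {g | g ∈ M24 ∧ ((∀ m ∈ ms, g • bitsOf m = bitsOf m) ∧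
      ∀ p ∈ bitsOf mc, g p = p)} := ⟨one_mem _, fun m _ => one_smul _ _, fun p _ => rfl⟩
  have mg : g ∈ {g | g ∈ M24 ∧ ((∀ m ∈ ms, g • bitsOf m = bitsOf m) ∧
      ∀ p ∈ bitsOf mc, g p = p)} := ⟨hg, hfix, hpt⟩
  rw [ha] at m1 mg
  rw [Set.mem_singleton_iff] at m1 mg
  rw [mg, ← m1]

theorem mem_stab2 (ma mb : ℕ) (n : ↥M24) :
    n ∈ MulAction.stabilizer ↥M24 (bitsOf ma) ⊓ MulAction.stabilizer ↥M24 (bitsOf mb) ↔
      ∀ m ∈ [ma, mb], (n : Equiv.Perm GolayPt) • bitsOf m = bitsOf m := by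
  constructor
  · intro h m hm
    have h1 := MulAction.mem_stabilizer_iff.1 (Subgroup.mem_inf.1 h).1
    have h2 := MulAction.mem_stabilizer_iff.1 (Subgroup.mem_inf.1 h).2
    rcases List.mem_pair.1 hm with rfl | rfl
    · exact h1
    · exact h2
  · intro h
    exact Subgroup.mem_inf.2 ⟨MulAction.mem_stabilizer_iff.2 (h ma (by simp)),
      MulAction.mem_stabilizer_iff.2 (h mb (by simp))⟩

theorem lt_pair (ma mb : ℕ) (hma : ma < 2 ^ 24) (hmb : mb < 2 ^ 24) :
    ∀ m ∈ [ma, mb], m < 2 ^ 24 := by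
  intro m hm
  rcases List.mem_pair.1 hm with rfl | rfl
  · exact hma
  · exact hmb

theorem base_faithful (ma mb mc : ℕ) (hma : ma < 2 ^ 24) (hmb : mb < 2 ^ 24)
    (hfaith : srch (fun d a y => locM [ma, mb] d a y && locPt mc d a y)
      (fun t => passM [ma, mb] t && psPt mc t) srLv 0 idN = 1) :
    ∀ g ∈ MulAction.stabilizer ↥M24 (bitsOf ma) ⊓ MulAction.stabilizer ↥M24 (bitsOf mb),
      (∀ p ∈ bitsOf mc, ((g : ↥M24) : Equiv.Perm GolayPt) p = p) → g = 1 := by
  intro g hg hpt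
  apply Subtype.ext
  exact faithful_of_count [ma, mb] mc
    (by rw [stab_pt_count _ (lt_pair ma mb hma hmb), hfaith]) g.1 g.2
    ((mem_stab2 ma mb g).1 hg) hpt

theorem base_iso (ma mb mc : ℕ) (hma : ma < 2 ^ 24) (hmb : mb < 2 ^ 24) (n : ℕ)
    (hc : popc mc = n)
    (hinv : ∀ g : Equiv.Perm GolayPt, g • bitsOf ma = bitsOf ma → g • bitsOf mb = bitsOf mb →
      g • bitsOf mc = bitsOf mc)
    (hcount : srch (fun d a y => locM [ma, mb] d a y && locT d a y)
      (fun t => passM [ma, mb] t && psT t) srLv 0 idN = n.factorial)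
    (hfaith : srch (fun d a y => locM [ma, mb] d a y && locPt mc d a y)
      (fun t => passM [ma, mb] t && psPt mc t) srLv 0 idN = 1) :
    Nonempty (↥(MulAction.stabilizer ↥M24 (bitsOf ma) ⊓ MulAction.stabilizer ↥M24 (bitsOf mb))
      ≃* Equiv.Perm (Fin n)) := by
  apply iso_perm_of_faithful _ (bitsOf mc) n (by rw [card_bitsOf, hc])
  · intro g hg
    have h := (mem_stab2 ma mb g).1 hg
    exact hinv _ (h ma (by simp)) (h mb (by simp))
  · exact base_faithful ma mb mc hma hmb hfaith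
  · rw [card_sub_eq _ (fun g => ∀ m ∈ [ma, mb], g • bitsOf m = bitsOf m) (mem_stab2 ma mb),
      stab_count _ (lt_pair ma mb hma hmb), hcount]

/-! ### two octads meeting in two points -/

def s6M : ℕ := 8922769

def s6A : ℕ := 147502

theorem s6_facts : memL s6M octL = true ∧ popc (octO &&& s6M) = 2 ∧
    s6A = octO &&& (16777215 ^^^ s6M) ∧ popc s6A = 6 := by decide +kernel

set_option maxRecDepth 100000 in
theorem srch614 : srch (fun d a y => locM [octO, s6M] d a y && locT d a y)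
    (fun t => passM [octO, s6M] t && psT t) srLv 0 idN = 720 := by decide +kernel

set_option maxRecDepth 100000 in
theorem srch614f : srch (fun d a y => locM [octO, s6M] d a y && locPt s6A d a y)
    (fun t => passM [octO, s6M] t && psPt s6A t) srLv 0 idN = 1 := by decide +kernel

theorem bitsOf_sdiff (a b : ℕ) : bitsOf a \ bitsOf b = bitsOf (a &&& (16777215 ^^^ b)) := by
  rw [Finset.sdiff_eq_inter_compl, bitsOf_compl, bitsOf_and]

theorem base614 : Nonempty (↥(MulAction.stabilizer ↥M24 (bitsOf octO) ⊓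
    MulAction.stabilizer ↥M24 (bitsOf s6M)) ≃* Equiv.Perm (Fin 6)) := by
  apply base_iso octO s6M s6A (by decide) (by decide) 6 s6_facts.2.2.2 ?_
    (by rw [srch614]; rfl) srch614f
  intro g h1 h2
  rw [s6_facts.2.2.1, ← bitsOf_sdiff, Finset.smul_finset_sdiff, h1, h2]

theorem s5614 (o o' : Finset GolayPt) (ho : o ∈ octads) (ho' : o' ∈ octads)
    (h₂ : (o ∩ o').card = 2) :
    Nonempty (↥(MulAction.stabilizer M24 o ⊓ MulAction.stabilizer M24 o') ≃*
      Equiv.Perm (Fin 6)) := by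
  obtain ⟨ρ, hρ, rfl, rfl⟩ := pair_to_base o o' ho ho' s6M (memL_mem _ _ s6_facts.1)
    (by rw [h₂, s6_facts.2.1])
  exact stab2_conj_iso ⟨ρ, hρ⟩ _ _ base614

/-! ### a dodecad and a hexad on it -/

set_option maxRecDepth 100000 in
theorem rkDO_tree : treeOKN stepN (fun gi => nodeTbl rkS (rkDodK.getD gi 0)) decM (ent rkDOE 64)
    rkDOLen = true := by decide +kernel

set_option maxRecDepth 100000 in
theorem rkDO_root : allBelow (rootOKM rkDOE (fun m => popc (dM &&& m)) rkDORoot) rkDOLen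
    = true := by
  decide +kernel

set_option maxRecDepth 100000 in
theorem rkDO_cov : covGo (objM rkDOE) rkDOLen 0 (octL.filter (fun _ => true)) = true := by
  decide +kernel

theorem rkDO_orb (x y : ℕ) (hx : x ∈ octL) (hy : y ∈ octL)
    (hxy : popc (dM &&& x) = popc (dM &&& y)) :
    ∃ g ∈ cfgSub [dM] [], g • bitsOf x = bitsOf y :=
  rank_cfg [dM] [] (by decide) rkDodK rkDod_k rkDOE rkDOLen rkDO_tree
    (fun m => popc (dM &&& m)) rkDORoot rkDO_root octL (fun _ => true) rkDO_cov x y hx hy rfl rfl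
    hxy

def h6C : ℕ := 4127

def h6D : ℕ := 336704

theorem h6_facts : memL 5279 octL = true ∧ popc (dM &&& 5279) = 6 ∧ h6C = 5279 &&& dM ∧
    popc h6C = 6 ∧ h6D = dM &&& (16777215 ^^^ h6C) := by decide +kernel

theorem hexad_to_base (d : Finset GolayPt) (hd : d ∈ dodecads) (C : Finset GolayPt)
    (hC : C ∈ hexadsOn d) : ∃ ρ ∈ M24, ρ • bitsOf dM = d ∧ ρ • bitsOf h6C = C := by
  obtain ⟨hC6, o, ho, rfl⟩ := hC
  obtain ⟨σ, hσ, rfl⟩ := dod_to_dM d hd
  obtain ⟨n, hn, hb⟩ := oct_pull σ hσ o ho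
  have h6 : popc (dM &&& n) = 6 := by
    rw [pull_inter σ dM n o hb, Finset.inter_comm]
    exact hC6
  obtain ⟨g, hg, hgn⟩ := rkDO_orb 5279 n (memL_mem _ _ h6_facts.1) hn
    (by rw [h6, h6_facts.2.1])
  have hgd : g • bitsOf dM = bitsOf dM := hg.2.1 dM (List.mem_singleton_self _)
  refine ⟨σ * g, mul_mem hσ hg.1, ?_, ?_⟩
  · rw [mul_smul, hgd]
  · rw [h6_facts.2.2.1, ← bitsOf_and, mul_smul, Finset.smul_finset_inter, hgn, hgd,
      Finset.smul_finset_inter, hb, smul_inv_smul]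

set_option maxRecDepth 100000 in
theorem srch618 : srch (fun d a y => locM [dM, h6C] d a y && locT d a y)
    (fun t => passM [dM, h6C] t && psT t) srLv 0 idN = 720 := by decide +kernel

set_option maxRecDepth 100000 in
theorem srch618f : srch (fun d a y => locM [dM, h6C] d a y && locPt h6C d a y)
    (fun t => passM [dM, h6C] t && psPt h6C t) srLv 0 idN = 1 := by decide +kernel

set_option maxRecDepth 100000 in
theorem srch618g : srch (fun d a y => locM [dM, h6C] d a y && locPt h6D d a y)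
    (fun t => passM [dM, h6C] t && psPt h6D t) srLv 0 idN = 1 := by decide +kernel

theorem s5618 (d : Finset GolayPt) (hd : d ∈ dodecads) (C : Finset GolayPt)
    (hC : C ∈ hexadsOn d) :
    Nonempty (↥(MulAction.stabilizer M24 d ⊓ MulAction.stabilizer M24 C) ≃* Equiv.Perm (Fin 6)) ∧
    (∀ g ∈ MulAction.stabilizer M24 d ⊓ MulAction.stabilizer M24 C,
      (∀ p ∈ C, ((g : ↥M24) : Equiv.Perm GolayPt) p = p) → g = 1) ∧
    ∀ g ∈ MulAction.stabilizer M24 d ⊓ MulAction.stabilizer M24 C,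
      (∀ p ∈ d \ C, ((g : ↥M24) : Equiv.Perm GolayPt) p = p) → g = 1 := by
  obtain ⟨ρ, hρ, rfl, rfl⟩ := hexad_to_base d hd C hC
  have hdM : dM < 2 ^ 24 := by decide
  have hCl : h6C < 2 ^ 24 := by decide
  refine ⟨stab2_conj_iso ⟨ρ, hρ⟩ _ _ ?_, faithful_conj ⟨ρ, hρ⟩ _ _ _ ?_, ?_⟩
  · exact base_iso dM h6C h6C hdM hCl 6 h6_facts.2.2.2.1 (fun _ _ h => h)
      (by rw [srch618]; rfl) srch618f
  · exact base_faithful dM h6C h6C hdM hCl srch618f
  · have h := faithful_conj ⟨ρ, hρ⟩ (bitsOf dM) (bitsOf h6C) (bitsOf dM \ bitsOf h6C) (by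
      rw [bitsOf_sdiff, ← h6_facts.2.2.2.2]
      exact base_faithful dM h6C h6D hdM hCl srch618g)
    intro g hg hpt
    apply h g hg
    intro p hp
    apply hpt
    have e : (⟨ρ, hρ⟩ : ↥M24) • (bitsOf dM \ bitsOf h6C) = ρ • bitsOf dM \ ρ • bitsOf h6C :=
      Finset.smul_finset_sdiff
    rw [← e]
    exact hp

end Cfsg.Agent.Lib.Helper9.Leech
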